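import Cfsg.Agent.Lib.Char.RelMcKay.Direct
import Mathlib.RingTheory.IntegralDomain
import Mathlib.Algebra.Ring.Subring.Basic
import Mathlib.GroupTheory.QuotientGroup.Basic
import Mathlib.GroupTheory.PGroup

/-!
# The commutator scalar under the correspondence for a `p`-group of operators
-/

set_option autoImplicit false
set_option linter.unusedSectionVars false
set_option linter.style.haveILetI false

namespace Cfsg.Lib.Char.RelMcKay

open Cfsg Module
open Cfsg.Lib.Char

universe u v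

/-- Pulling the scalar back along an injective homomorphism. -/
theorem IsOmega.comap {G : Type u} [Group G] {N : Subgroup G} [Finite N] {G' : Type v} [Group G']
    {N' : Subgroup G'} [Finite N'] (f : G →* G') (hf : Function.Injective f) (e : N ≃* N')
    (he : ∀ n : N, (e n : G') = f n) {θ : N → ℂ} {θ' : N' → ℂ} (hθ : IsIrrCharacter N θ)
    (hθ' : ∀ n, θ' (e n) = θ n) {a b : G} {w : ℂˣ} (h : IsOmega θ' (f a) (f b) w) :
    IsOmega θ a b w := by
  have key : ∀ x : G, f x ∈ Subgroup.normalizer (N' : Set G') → IsConjCharOf N' (f x) θ' θ' →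
      x ∈ Subgroup.normalizer (N : Set G) ∧ IsConjCharOf N x θ θ := by
    intro x hx hfix
    have h1 : ∀ n : G, n ∈ N ↔ f n ∈ N' := fun n => ⟨fun hn => he ⟨n, hn⟩ ▸ (e ⟨n, hn⟩).2,
      fun hn => by
        obtain ⟨k, hk⟩ := e.surjective ⟨_, hn⟩
        have h2 : f (k : G) = f n := by rw [← he, hk]
        exact hf h2 ▸ k.2⟩
    refine ⟨Subgroup.mem_normalizer_iff.mpr fun n => ?_, fun n n' hn => ?_⟩
    · rw [h1, h1 (x * n * x⁻¹), map_mul, map_mul, map_inv]
      exact Subgroup.mem_normalizer_iff.mp hx _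
    · rw [← hθ', ← hθ']
      exact hfix _ _ (by rw [he, he, hn, map_mul, map_mul, map_inv])
  obtain ⟨ha, haf⟩ := key a h.left_fixed.1 h.left_fixed.2
  obtain ⟨hb, hbf⟩ := key b h.right_fixed.1 h.right_fixed.2
  have hc : a * b * a⁻¹ * b⁻¹ ∈ N := by
    obtain ⟨k, hk⟩ := e.surjective ⟨_, h.comm_mem⟩
    have h2 : f (k : G) = f (a * b * a⁻¹ * b⁻¹) := by rw [← he, hk]; simp
    exact hf h2 ▸ k.2
  obtain ⟨w', hw'⟩ := exists_isOmega hθ ha hb haf hbf hc
  rwa [← (hw'.map f e he hθ').unique h]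

variable {Γ : Type u} [Group Γ] [Finite Γ]

/-- Conjugation on a normalized subgroup, as an action of a group normalizing it. -/
def conjHom (A S : Subgroup Γ) (h : A ≤ Subgroup.normalizer (S : Set Γ)) : A →* MulAut S where
  toFun x := twistEquiv S (h x.2)
  map_one' := MulEquiv.ext fun s => Subtype.ext (by simp [coe_twistEquiv])
  map_mul' x y := MulEquiv.ext fun s => Subtype.ext (by
    simp only [MulAut.mul_apply, coe_twistEquiv, Subgroup.coe_mul]; group)

theorem coe_conjHom (A S : Subgroup Γ) (h : A ≤ Subgroup.normalizer (S : Set Γ)) (x : A) (s : S) :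
    ((conjHom A S h x s : S) : Γ) = x * s * (x : Γ)⁻¹ := rfl

/-- An automorphism as an additive endomorphism. -/
def autEnd (X : Type u) [CommGroup X] : MulAut X →* AddMonoid.End (Additive X) where
  toFun e := MonoidHom.toAdditive e.toMonoidHom
  map_one' := rfl
  map_mul' _ _ := rfl

/-- Two commuting automorphisms of an abelian group leaving no proper subgroup invariant generate
a cyclic group of automorphisms. -/
theorem exists_pow_of_irreducible {A : Type u} [Group A] [Finite A] {X : Type u} [CommGroup X]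
    [Finite X] [Nontrivial X] (f : A →* MulAut X) (a b : A) (hgen : Subgroup.closure {a, b} = ⊤)
    (hcomm : Commute (f a) (f b))
    (hirr : ∀ T : Subgroup X, T ≠ ⊥ → (∀ t ∈ T, f a t ∈ T) → (∀ t ∈ T, f b t ∈ T) → T = ⊤) :
    ∃ g : MulAut X, ∀ x : A, ∃ i : ℕ, f x = g ^ i := by
  classical
  set s : Set (AddMonoid.End (Additive X)) := {autEnd X (f a), autEnd X (f b)} with hs
  have hscomm : ∀ x ∈ s, ∀ y ∈ s, x * y = y * x := by
    rintro x (rfl | rfl) y (rfl | rfl)
    · rfl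
    · exact (hcomm.map (autEnd X)).eq
    · exact ((hcomm.map (autEnd X)).symm).eq
    · rfl
  let R := Subring.closure s
  letI hR : CommRing R := Subring.closureCommRingOfComm hscomm
  have hmem : ∀ x : A, autEnd X (f x) ∈ R := by
    let M : Submonoid A := Submonoid.comap ((autEnd X).comp f) R.toSubmonoid
    have hM : Subgroup.closure {a, b} ≤ (⊤ : Subgroup A) := le_top
    intro x
    have hx : x ∈ Submonoid.closure ({a, b} : Set A) := by
      rw [← Subgroup.closure_toSubmonoid_of_finite, hgen]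
      exact Subgroup.mem_top x
    exact (Submonoid.closure_le (S := M)).mpr (by
      rintro z (rfl | rfl)
      · exact Subring.subset_closure (Set.mem_insert _ _)
      · exact Subring.subset_closure (Set.mem_insert_of_mem _ rfl)) hx
  haveI : Nontrivial R := ⟨⟨0, 1, fun h => by
    obtain ⟨x, hx⟩ := exists_ne (1 : X)
    have := DFunLike.congr_fun (congrArg Subtype.val h) (Additive.ofMul x)
    exact hx (congrArg Additive.toMul this).symm⟩⟩
  haveI : NoZeroDivisors R := ⟨fun {r q} hrq => by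
    by_contra hne
    push Not at hne
    obtain ⟨hr, hq⟩ := hne
    let T : Subgroup X :=
      { carrier := {x | (r : AddMonoid.End (Additive X)) (Additive.ofMul x) = 0}
        one_mem' := map_zero _
        mul_mem' := fun {x y} hx hy => by
          show (r : AddMonoid.End (Additive X)) (Additive.ofMul x + Additive.ofMul y) = 0
          rw [map_add, hx, hy, add_zero]
        inv_mem' := fun {x} hx => by
          show (r : AddMonoid.End (Additive X)) (-Additive.ofMul x) = 0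
          rw [map_neg, hx, neg_zero] }
    have hinv : ∀ z, z = a ∨ z = b → ∀ t ∈ T, f z t ∈ T := by
      intro z _ t ht
      have h1 := congrArg Subtype.val (hR.mul_comm r ⟨_, hmem z⟩)
      have h2 := DFunLike.congr_fun h1 (Additive.ofMul t)
      show (r : AddMonoid.End (Additive X)) (autEnd X (f z) (Additive.ofMul t)) = 0
      exact h2.trans (by show autEnd X (f z) ((r : AddMonoid.End (Additive X)) (Additive.ofMul t)) = 0
                         rw [ht, map_zero])
    by_cases hT : T = ⊥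
    · refine hq (Subtype.ext (AddMonoidHom.ext fun x => ?_))
      have h1 := DFunLike.congr_fun (congrArg Subtype.val hrq) x
      have h2 : Additive.toMul ((q : AddMonoid.End (Additive X)) x) ∈ T := h1
      rw [hT, Subgroup.mem_bot] at h2
      exact congrArg Additive.ofMul h2
    · have := hirr T hT (hinv a (Or.inl rfl)) (hinv b (Or.inr rfl))
      refine hr (Subtype.ext (AddMonoidHom.ext fun x => ?_))
      have h2 : Additive.toMul x ∈ T := this ▸ Subgroup.mem_top _
      exact h2⟩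
  haveI : IsDomain R := NoZeroDivisors.to_isDomain R
  let φ : f.range →* R :=
    { toFun := fun e => ⟨autEnd X (e : MulAut X), by obtain ⟨x, hx⟩ := e.2; exact hx ▸ hmem x⟩
      map_one' := Subtype.ext (map_one _)
      map_mul' := fun _ _ => Subtype.ext (map_mul _ _ _) }
  haveI : IsCyclic f.range := isCyclic_of_subgroup_isDomain φ fun e e' h => by
    refine Subtype.ext (MulEquiv.ext fun x => ?_)
    exact congrArg Additive.toMul (DFunLike.congr_fun (congrArg Subtype.val h) (Additive.ofMul x))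
  obtain ⟨g, hg⟩ := IsCyclic.exists_monoid_generator (α := f.range)
  refine ⟨g, fun x => ?_⟩
  obtain ⟨i, hi⟩ := Submonoid.mem_powers_iff _ _ |>.mp (hg ⟨f x, ⟨x, rfl⟩⟩)
  exact ⟨i, (congrArg Subtype.val hi).symm.trans (by simp)⟩

/-- The scalar under the correspondence for an irreducible abelian group of operators. -/
theorem omega_irreducible {p : ℕ} [Fact p.Prime] {K C S : Subgroup Γ} [Fintype C] [K.Normal]
    (hK : ¬ p ∣ Nat.card K) (hS : IsPGroup p S) (hCK : C ≤ K)
    (hC : ∀ x, x ∈ C ↔ x ∈ K ∧ x ∈ Subgroup.centralizer (S : Set Γ))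
    (hne : S ≠ ⊥) (hab : ∀ s ∈ S, ∀ t ∈ S, s * t = t * s)
    {a b : Γ} (hA : Subgroup.closure {a, b} ≤ Subgroup.normalizer (S : Set Γ))
    (hA' : ¬ p ∣ Nat.card ↥(Subgroup.closure ({a, b} : Set Γ)))
    (hirr : ∀ T : Subgroup Γ, T ≤ S → T ≠ ⊥ → (∀ t ∈ T, a * t * a⁻¹ ∈ T) →
      (∀ t ∈ T, b * t * b⁻¹ ∈ T) → T = S)
    (hc : a * b * a⁻¹ * b⁻¹ ∈ C) {θ : K → ℂ} (hθS : IsInvOn S K θ) {φ : C → ℂ}
    (hcorr : HasCorr (Subgroup.inclusion hCK) p θ φ) {w : ℂˣ} (hw : IsOmega θ a b w) :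
    IsOmega φ a b w := by
  classical
  set A := Subgroup.closure ({a, b} : Set Γ) with hAdef
  have ha : a ∈ A := Subgroup.subset_closure (Set.mem_insert _ _)
  have hb : b ∈ A := Subgroup.subset_closure (Set.mem_insert_of_mem _ rfl)
  letI : CommGroup S :=
    { (inferInstance : Group S) with mul_comm := fun s t => Subtype.ext (hab s s.2 t t.2) }
  haveI : Nontrivial S := (Subgroup.nontrivial_iff_ne_bot S).mpr hne
  let f := conjHom A S hA
  have hcen : ∀ x : Γ, x ∈ C → ∀ s : S, x * s * x⁻¹ = s := fun x hx s => by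
    rw [← Subgroup.mem_centralizer_iff.mp ((hC x).mp hx).2 s s.2, mul_inv_cancel_right]
  have hcomm : Commute (f ⟨a, ha⟩) (f ⟨b, hb⟩) := by
    refine MulEquiv.ext fun s => Subtype.ext ?_
    simp only [MulAut.mul_apply, f, coe_conjHom]
    have h1 := hcen _ hc (conjHom A S hA ⟨b, hb⟩ (conjHom A S hA ⟨a, ha⟩ s))
    simp only [coe_conjHom] at h1
    rw [← h1]; group
  have hgen : Subgroup.closure ({⟨a, ha⟩, ⟨b, hb⟩} : Set A) = ⊤ := by
    apply Subgroup.map_injective A.subtype_injective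
    rw [MonoidHom.map_closure, Set.image_pair, ← MonoidHom.range_eq_map, Subgroup.range_subtype]
    rfl
  obtain ⟨g, hg⟩ := exists_pow_of_irreducible f ⟨a, ha⟩ ⟨b, hb⟩ hgen hcomm fun T hT h1 h2 => by
    have h3 := hirr (T.map S.subtype) (by rintro _ ⟨t, -, rfl⟩; exact t.2)
      (fun h => hT ((Subgroup.map_eq_bot_iff_of_injective _ S.subtype_injective).mp h))
      (fun t ht => by obtain ⟨t, ht, rfl⟩ := ht; exact ⟨_, h1 t ht, rfl⟩)
      (fun t ht => by obtain ⟨t, ht, rfl⟩ := ht; exact ⟨_, h2 t ht, rfl⟩)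
    refine eq_top_iff.mpr fun s _ => ?_
    obtain ⟨t, ht, hts⟩ := h3.ge s.2
    rwa [← Subtype.ext (a1 := t) (a2 := s) hts]
  have key : ∀ n : ℕ, ∀ (x y : A) (i j : ℕ), i + j = n → f x = g ^ i → f y = g ^ j →
      (x : Γ) * y * (x : Γ)⁻¹ * (y : Γ)⁻¹ ∈ C → ∀ v : ℂˣ, IsOmega θ (x : Γ) y v →
      IsOmega φ (x : Γ) y v := by
    intro n
    induction n using Nat.strong_induction_on with
    | _ n ih =>
      intro x y i j hij hi hj hxy v hv
      have hdir : ∀ (x y : A) (v : ℂˣ), f y = 1 →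
          (x : Γ) * y * (x : Γ)⁻¹ * (y : Γ)⁻¹ ∈ C → IsOmega θ (x : Γ) y v →
          IsOmega φ (x : Γ) y v := by
        intro x y v hy hxy hv
        refine omega_direct hK hS hCK hC (hA x.2) (Subgroup.mem_centralizer_iff.mpr fun s hs => ?_)
          (fun hd => hA' (hd.trans (A.orderOf_dvd_natCard y.2))) hxy hθS hcorr hv
        have h1 : ((f y ⟨s, hs⟩ : S) : Γ) = s := by rw [hy]; rfl
        simp only [f, coe_conjHom] at h1
        exact (mul_inv_eq_iff_eq_mul.mp h1).symm
      have hswap : (y : Γ) * x * (y : Γ)⁻¹ * (x : Γ)⁻¹ ∈ C := by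
        simpa [mul_assoc] using inv_mem hxy
      by_cases hj0 : j = 0
      · exact hdir x y v (by rw [hj, hj0, pow_zero]) hxy hv
      by_cases hi0 : i = 0
      · simpa using (hdir y x v⁻¹ (by rw [hi, hi0, pow_zero]) hswap hv.swap).swap
      rcases le_or_gt i j with hle | hlt
      · refine IsOmega.mul_right_inv ?_
        have h1 := ih (i + (j - i)) (by omega) x (y * x⁻¹) i (j - i) rfl hi
          (by rw [map_mul, map_inv, hi, hj, pow_sub _ hle]) (by
            rw [Subgroup.coe_mul, Subgroup.coe_inv]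
            convert hxy using 1; group) v
          (by rw [Subgroup.coe_mul, Subgroup.coe_inv]; exact hv.mul_inv_right)
        simpa using h1
      · have h1 := ih (j + (i - j)) (by omega) y (x * y⁻¹) j (i - j) rfl hj
          (by rw [map_mul, map_inv, hi, hj, pow_sub _ hlt.le]) (by
            rw [Subgroup.coe_mul, Subgroup.coe_inv]
            convert hswap using 1; group) v⁻¹
          (by rw [Subgroup.coe_mul, Subgroup.coe_inv]; exact hv.swap.mul_inv_right)
        rw [Subgroup.coe_mul, Subgroup.coe_inv] at h1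
        simpa using h1.mul_right_inv.swap
  obtain ⟨i, hi⟩ := hg ⟨a, ha⟩
  obtain ⟨j, hj⟩ := hg ⟨b, hb⟩
  exact key _ ⟨a, ha⟩ ⟨b, hb⟩ i j rfl hi hj hc w hw

/-- The scalar does not change under the correspondence. -/
theorem omega_glauberman {p : ℕ} [Fact p.Prime] {Γ : Type u} [Group Γ] [Finite Γ]
    {K C S : Subgroup Γ} [Fintype C] [K.Normal]
    (hK : ¬ p ∣ Nat.card K) (hS : IsPGroup p S) (hCK : C ≤ K)
    (hC : ∀ x, x ∈ C ↔ x ∈ K ∧ x ∈ Subgroup.centralizer (S : Set Γ))
    {a b : Γ} (hA : Subgroup.closure {a, b} ≤ Subgroup.normalizer (S : Set Γ))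
    (hA' : ¬ p ∣ Nat.card ↥(Subgroup.closure ({a, b} : Set Γ)))
    (hc : a * b * a⁻¹ * b⁻¹ ∈ C) {θ : K → ℂ} (hθS : IsInvOn S K θ) {φ : C → ℂ}
    (hcorr : HasCorr (Subgroup.inclusion hCK) p θ φ) {w : ℂˣ} (hw : IsOmega θ a b w) :
    IsOmega φ a b w := by
  classical
  have hp := (Fact.out (p := p.Prime))
  induction hn : Nat.card S using Nat.strong_induction_on generalizing Γ K C S a b θ φ with
  | _ n ih =>
    subst hn
    haveI := Fintype.ofFinite K
    have hθ := hw.isIrr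
    by_cases hne : S = ⊥
    · have hCK' : C = K := le_antisymm hCK fun x hx => (hC x).mpr ⟨hx, by
        rw [hne]
        exact Subgroup.mem_centralizer_iff.mpr fun y hy => by
          rw [Subgroup.mem_bot.mp hy, one_mul, mul_one]⟩
      let e : C ≃* K := MulEquiv.subgroupCongr hCK'
      have h1 := HasCorr.self e p hθ
      rw [show e.toMonoidHom = Subgroup.inclusion hCK from MonoidHom.ext fun c => Subtype.ext rfl] at h1
      rw [hcorr.eq_of_not_dvd hp hθ.isCharacter h1]
      exact hw.map (MonoidHom.id Γ) e.symm (fun _ => rfl) (fun n => by simp)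
    -- a minimal central invariant subgroup
    have haS : a ∈ Subgroup.normalizer (S : Set Γ) := hA (Subgroup.subset_closure (Set.mem_insert _ _))
    have hbS : b ∈ Subgroup.normalizer (S : Set Γ) :=
      hA (Subgroup.subset_closure (Set.mem_insert_of_mem _ rfl))
    let good : Subgroup Γ → Prop := fun T => T ≤ S ∧ T ≠ ⊥ ∧ (∀ t ∈ T, ∀ s ∈ S, t * s = s * t) ∧
      (∀ t ∈ T, a * t * a⁻¹ ∈ T) ∧ (∀ t ∈ T, b * t * b⁻¹ ∈ T)
    have hgood : good ((Subgroup.center S).map S.subtype) := by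
      haveI : Nontrivial S := (Subgroup.nontrivial_iff_ne_bot S).mpr hne
      haveI := hS.center_nontrivial
      have hconj : ∀ x ∈ Subgroup.normalizer (S : Set Γ), ∀ t ∈ (Subgroup.center S).map S.subtype,
          x * t * x⁻¹ ∈ (Subgroup.center S).map S.subtype := by
        rintro x hx _ ⟨t, ht, rfl⟩
        refine ⟨twistEquiv S hx t, Subgroup.mem_center_iff.mpr fun s => ?_, rfl⟩
        obtain ⟨s', rfl⟩ := (twistEquiv S hx).surjective s
        rw [← map_mul, ← map_mul, Subgroup.mem_center_iff.mp ht s']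
      refine ⟨by rintro _ ⟨t, -, rfl⟩; exact t.2, fun h => ?_, ?_, hconj a haS, hconj b hbS⟩
      · exact (Subgroup.nontrivial_iff_ne_bot _).mp this
          ((Subgroup.map_eq_bot_iff_of_injective _ S.subtype_injective).mp h)
      · rintro _ ⟨t, ht, rfl⟩ s hs
        exact congrArg Subtype.val (Subgroup.mem_center_iff.mp ht ⟨s, hs⟩).symm
    have hex : ∃ k, ∃ T, good T ∧ Nat.card T = k := ⟨_, _, hgood, rfl⟩
    obtain ⟨T, hT, hTk⟩ := Nat.find_spec hex
    obtain ⟨hTS, hTne, hTc, hTa, hTb⟩ := hT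
    have hmin : ∀ U : Subgroup Γ, U ≤ T → U ≠ ⊥ → (∀ t ∈ U, a * t * a⁻¹ ∈ U) →
        (∀ t ∈ U, b * t * b⁻¹ ∈ U) → U = T := by
      intro U hU h1 h2 h3
      refine Subgroup.eq_of_le_of_card_ge hU ?_
      rw [hTk]
      exact Nat.find_min' hex ⟨U, ⟨hU.trans hTS, h1, fun t ht => hTc t (hU ht), h2, h3⟩, rfl⟩
    have hTp : IsPGroup p T := hS.to_le hTS
    set K1 : Subgroup Γ := K ⊓ Subgroup.centralizer (T : Set Γ) with hK1
    haveI := Fintype.ofFinite K1
    have hAT : Subgroup.closure ({a, b} : Set Γ) ≤ Subgroup.normalizer (T : Set Γ) := by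
      refine (Subgroup.closure_le _).mpr ?_
      rintro x (rfl | rfl)
      · exact mem_normalizer_of_conj_mem hTa
      · exact mem_normalizer_of_conj_mem hTb
    obtain ⟨eT, heT⟩ := IsPGroup.iff_card.mp hTp
    have hcor := isCorrespondence_pGroup hp T hTp K K1
      (by rw [Subgroup.normalizer_eq_top]; exact le_top)
      (heT ▸ Nat.Coprime.pow_right eT ((hp.coprime_iff_not_dvd).mpr hK).symm) inf_le_left
      fun _ => Iff.rfl
    obtain ⟨θ1, hθ1⟩ := hcor.exists_corr _ hθ fun t ht => hθS t (hTS ht)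
    have hCK1 : C ≤ K1 := fun x hx => ⟨hCK hx,
      Subgroup.centralizer_le (SetLike.coe_subset_coe.mpr hTS) ((hC x).mp hx).2⟩
    have hw1 : IsOmega θ1 a b w := omega_irreducible hK hTp inf_le_left (fun _ => Iff.rfl) hTne
      (fun s hs t ht => hTc s hs t (hTS ht)) hAT hA' hmin (hCK1 hc) (fun t ht => hθS t (hTS ht))
      hθ1 hw
    -- pass to the quotient of the normalizer
    set Γ1 : Subgroup Γ := Subgroup.normalizer (T : Set Γ) with hΓ1
    have hTn : ∀ {x : Γ}, x ∈ Γ1 → ∀ t ∈ T, x * t * x⁻¹ ∈ T := fun hx t ht =>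
      (Subgroup.mem_normalizer_iff.mp hx t).mp ht
    have hSΓ1 : S ≤ Γ1 := fun s hs => mem_normalizer_of_conj_mem fun t ht => by
      rw [← hTc t ht s hs, mul_inv_cancel_right]; exact ht
    have hK1Γ1 : K1 ≤ Γ1 := inf_le_right.trans (Subgroup.centralizer_le_normalizer _)
    have hCΓ1 : C ≤ Γ1 := hCK1.trans hK1Γ1
    have hK1conj : ∀ x ∈ Γ1, ∀ k ∈ K1, x * k * x⁻¹ ∈ K1 := by
      intro x hx k hk
      refine ⟨(inferInstance : K.Normal).conj_mem k hk.1 x, Subgroup.mem_centralizer_iff.mpr fun t ht => ?_⟩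
      have ht' : x⁻¹ * t * x ∈ T := by simpa using hTn (inv_mem hx) t ht
      have h1 := Subgroup.mem_centralizer_iff.mp hk.2 _ ht'
      calc t * (x * k * x⁻¹) = x * (x⁻¹ * t * x * k) * x⁻¹ := by group
        _ = _ := by rw [h1]; group
    have hθ1S : IsInvOn S K1 θ1 := by
      intro s hs
      exact conjCharOf_corr inf_le_left hp hθ.isCharacter
        (by rw [Subgroup.normalizer_eq_top]; trivial)
        (mem_normalizer_of_conj_mem (hK1conj s (hSΓ1 hs))) (hθS s hs) hθ1
    haveI hTnorm : (T.subgroupOf Γ1).Normal :=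
      (Subgroup.normal_subgroupOf_iff_le_normalizer Subgroup.le_normalizer).mpr le_rfl
    let π : Γ1 →* Γ1 ⧸ T.subgroupOf Γ1 := QuotientGroup.mk' _
    have hK1norm : (K1.subgroupOf Γ1).Normal := ⟨fun k hk g => hK1conj g g.2 k hk⟩
    let K' : Subgroup (Γ1 ⧸ T.subgroupOf Γ1) := (K1.subgroupOf Γ1).map π
    let C' : Subgroup (Γ1 ⧸ T.subgroupOf Γ1) := (C.subgroupOf Γ1).map π
    let S' : Subgroup (Γ1 ⧸ T.subgroupOf Γ1) := (S.subgroupOf Γ1).map π
    haveI : K'.Normal := hK1norm.map π (QuotientGroup.mk'_surjective _)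
    haveI := Fintype.ofFinite K'
    haveI := Fintype.ofFinite C'
    have hdisj : ∀ x : Γ, x ∈ K → x ∈ T → x = 1 := fun x h1 h2 => by
      have := (Subgroup.inf_eq_bot_of_coprime (H := K) (K := T)
        (heT ▸ Nat.Coprime.pow_right eT ((hp.coprime_iff_not_dvd).mpr hK).symm)).le ⟨h1, h2⟩
      exact Subgroup.mem_bot.mp this
    have hinj : ∀ (X : Subgroup Γ), X ≤ K → ∀ x y : Γ1, (x : Γ) ∈ X → (y : Γ) ∈ X → π x = π y →
        x = y := by
      intro X hX x y hx hy hxy
      have h0 : x⁻¹ * y ∈ T.subgroupOf Γ1 := QuotientGroup.eq.mp hxy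
      have h1 : ((x⁻¹ * y : Γ1) : Γ) ∈ T := h0
      exact inv_mul_eq_one.mp (Subtype.ext (hdisj _ (hX (mul_mem (inv_mem hx) hy)) h1))
    let fK : K1 →* K' :=
      { toFun := fun k => (⟨π ⟨k, hK1Γ1 k.2⟩, Subgroup.mem_map.mpr ⟨_, k.2, rfl⟩⟩ : K')
        map_one' := Subtype.ext (map_one π)
        map_mul' := fun x y => Subtype.ext (map_mul π ⟨x, hK1Γ1 x.2⟩ ⟨y, hK1Γ1 y.2⟩) }
    let eK : K1 ≃* K' := MulEquiv.ofBijective fK
      ⟨fun x y h => Subtype.ext (congrArg (fun z : Γ1 => (z : Γ))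
          (hinj K1 inf_le_left ⟨x, hK1Γ1 x.2⟩ ⟨y, hK1Γ1 y.2⟩ x.2 y.2 (congrArg Subtype.val h))),
        fun z => by
          obtain ⟨x, hx, hxz⟩ := z.2
          exact ⟨⟨x, hx⟩, Subtype.ext hxz⟩⟩
    let fC : C →* C' :=
      { toFun := fun k => (⟨π ⟨k, hCΓ1 k.2⟩, Subgroup.mem_map.mpr ⟨_, k.2, rfl⟩⟩ : C')
        map_one' := Subtype.ext (map_one π)
        map_mul' := fun x y => Subtype.ext (map_mul π ⟨x, hCΓ1 x.2⟩ ⟨y, hCΓ1 y.2⟩) }
    let eC : C ≃* C' := MulEquiv.ofBijective fC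
      ⟨fun x y h => Subtype.ext (congrArg (fun z : Γ1 => (z : Γ))
          (hinj C hCK ⟨x, hCΓ1 x.2⟩ ⟨y, hCΓ1 y.2⟩ x.2 y.2 (congrArg Subtype.val h))),
        fun z => by
          obtain ⟨x, hx, hxz⟩ := z.2
          exact ⟨⟨x, hx⟩, Subtype.ext hxz⟩⟩
    let a1 : Γ1 := ⟨a, hAT (Subgroup.subset_closure (Set.mem_insert _ _))⟩
    let b1 : Γ1 := ⟨b, hAT (Subgroup.subset_closure (Set.mem_insert_of_mem _ rfl))⟩
    have hK' : ¬ p ∣ Nat.card K' := fun h => hK (by
      refine (h.trans ?_)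
      rw [← Nat.card_congr eK.toEquiv]
      exact Subgroup.card_dvd_of_le inf_le_left)
    have hS' : IsPGroup p S' := (hS.comap_of_injective Γ1.subtype Γ1.subtype_injective).map π
    have hS'card : Nat.card S' < Nat.card S := by
      have h1 : Nat.card S' ≤ Nat.card (S.subgroupOf Γ1) :=
        Nat.le_of_dvd Nat.card_pos (Subgroup.card_map_dvd _ _)
      rw [Nat.card_congr (Subgroup.subgroupOfEquivOfLe hSΓ1).toEquiv] at h1
      refine lt_of_le_of_ne h1 fun heq => ?_
      obtain ⟨t, ht, htne⟩ := (Subgroup.ne_bot_iff_exists_ne_one).mp hTne |> fun ⟨t, h⟩ =>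
        (⟨(t : Γ), t.2, fun e => h (Subtype.ext e)⟩ : ∃ t, t ∈ T ∧ t ≠ 1)
      let q : S.subgroupOf Γ1 → S' := fun x => ⟨π x.1, Subgroup.mem_map.mpr ⟨_, x.2, rfl⟩⟩
      have hq : Function.Bijective q := (Nat.bijective_iff_surjective_and_card q).mpr ⟨fun z => by
          obtain ⟨x, hx, hxz⟩ := z.2
          exact ⟨⟨x, hx⟩, Subtype.ext hxz⟩,
        by rw [Nat.card_congr (Subgroup.subgroupOfEquivOfLe hSΓ1).toEquiv, heq]⟩
      have h2 : q ⟨⟨t, hSΓ1 (hTS ht)⟩, hTS ht⟩ = q 1 := Subtype.ext (by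
        refine QuotientGroup.eq.mpr ?_
        simpa [Subgroup.mem_subgroupOf] using ht)
      exact htne (congrArg (fun z : S.subgroupOf Γ1 => ((z : Γ1) : Γ)) (hq.1 h2))
    have hCK' : C' ≤ K' := Subgroup.map_mono fun x hx => hCK1 hx
    have hC' : ∀ x, x ∈ C' ↔ x ∈ K' ∧ x ∈ Subgroup.centralizer (S' : Set _) := by
      intro x
      constructor
      · rintro ⟨c, hc, rfl⟩
        refine ⟨⟨c, hCK1 hc, rfl⟩, Subgroup.mem_centralizer_iff.mpr ?_⟩
        rintro _ ⟨s, hs, rfl⟩
        rw [← map_mul, ← map_mul]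
        exact congrArg π (Subtype.ext (Subgroup.mem_centralizer_iff.mp ((hC _).mp hc).2 _ hs))
      · rintro ⟨⟨k, hk, rfl⟩, hx⟩
        refine ⟨k, (hC _).mpr ⟨hk.1, Subgroup.mem_centralizer_iff.mpr fun s hs => ?_⟩, rfl⟩
        have h1 := Subgroup.mem_centralizer_iff.mp hx (π ⟨s, hSΓ1 hs⟩)
          (Subgroup.mem_map.mpr ⟨⟨s, hSΓ1 hs⟩, hs, rfl⟩)
        rw [← map_mul, ← map_mul] at h1
        have h0 : (⟨s, hSΓ1 hs⟩ * k)⁻¹ * (k * ⟨s, hSΓ1 hs⟩) ∈ T.subgroupOf Γ1 :=
          QuotientGroup.eq.mp h1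
        have h2 : (s * (k : Γ))⁻¹ * ((k : Γ) * s) ∈ T := h0
        have h3 : (s * (k : Γ))⁻¹ * ((k : Γ) * s) ∈ K := by
          rw [show (s * (k : Γ))⁻¹ * ((k : Γ) * s) = (k : Γ)⁻¹ * (s⁻¹ * k * s⁻¹⁻¹) by group]
          exact mul_mem (inv_mem hk.1) ((inferInstance : K.Normal).conj_mem _ hk.1 _)
        exact inv_mul_eq_one.mp (hdisj _ h3 h2)
    have hnorm' : ∀ x : Γ1, (x : Γ) ∈ Subgroup.normalizer (S : Set Γ) →
        π x ∈ Subgroup.normalizer (S' : Set _) := by
      intro x hx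
      refine mem_normalizer_of_conj_mem ?_
      rintro _ ⟨s, hs, rfl⟩
      refine ⟨x * s * x⁻¹, ?_, by simp⟩
      simpa [Subgroup.mem_subgroupOf] using (Subgroup.mem_normalizer_iff.mp hx s).mp hs
    have hA1 : Subgroup.closure ({π a1, π b1} : Set _) ≤ Subgroup.normalizer (S' : Set _) := by
      refine (Subgroup.closure_le _).mpr ?_
      rintro x (rfl | rfl)
      · exact hnorm' a1 haS
      · exact hnorm' b1 hbS
    have hA1' : ¬ p ∣ Nat.card ↥(Subgroup.closure ({π a1, π b1} : Set _)) := by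
      intro h
      refine hA' (h.trans ?_)
      rw [show ({π a1, π b1} : Set _) = π '' {a1, b1} by rw [Set.image_pair], ← MonoidHom.map_closure]
      refine (Subgroup.card_map_dvd _ _).trans ?_
      rw [Nat.card_congr ((Subgroup.closure ({a1, b1} : Set Γ1)).equivMapOfInjective Γ1.subtype
        Γ1.subtype_injective).toEquiv, MonoidHom.map_closure, Set.image_pair]
      exact dvd_rfl
    set θ' : K' → ℂ := fun k => θ1 (eK.symm k) with hθ'
    have hθ'irr : IsIrrCharacter K' θ' := isIrrCharacter_comp_equiv eK.symm hθ1.1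
    have hwΓ1 : IsOmega (fun k : K1.subgroupOf Γ1 => θ1 ⟨_, k.2⟩) a1 b1 w :=
      IsOmega.comap Γ1.subtype Γ1.subtype_injective (Subgroup.subgroupOfEquivOfLe hK1Γ1)
        (fun _ => rfl) (isIrrCharacter_comp_equiv (Subgroup.subgroupOfEquivOfLe hK1Γ1) hθ1.1)
        (fun _ => rfl) hw1
    have hw' : IsOmega θ' (π a1) (π b1) w := hwΓ1.map π
      ((Subgroup.subgroupOfEquivOfLe hK1Γ1).trans eK) (fun _ => rfl)
      (fun n => by simp [θ']; rfl)
    have hθ'S : IsInvOn S' K' θ' := by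
      intro s hs k k' hk
      obtain ⟨s, hs, rfl⟩ := hs
      obtain ⟨k, rfl⟩ := eK.surjective k
      obtain ⟨k', rfl⟩ := eK.surjective k'
      simp only [θ', eK.symm_apply_apply]
      refine hθ1S s hs k k' ?_
      have h1 : π ⟨k', hK1Γ1 k'.2⟩ = π (s * ⟨k, hK1Γ1 k.2⟩ * s⁻¹) := by
        rw [map_mul, map_mul, map_inv]; exact hk
      exact congrArg (fun z : Γ1 => (z : Γ)) (hinj K1 inf_le_left ⟨k', hK1Γ1 k'.2⟩ _ k'.2
        (hK1conj s s.2 k k.2) h1)
    obtain ⟨eS, heS⟩ := IsPGroup.iff_card.mp hS'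
    have hcor' := isCorrespondence_pGroup hp S' hS' K' C'
      (by rw [Subgroup.normalizer_eq_top]; exact le_top)
      (heS ▸ Nat.Coprime.pow_right eS ((hp.coprime_iff_not_dvd).mpr hK').symm) hCK' hC'
    obtain ⟨φ', hφ'⟩ := hcor'.exists_corr _ hθ'irr hθ'S
    have hc' : π a1 * π b1 * (π a1)⁻¹ * (π b1)⁻¹ ∈ C' :=
      ⟨a1 * b1 * a1⁻¹ * b1⁻¹, hc, by simp⟩
    have hfin := ih _ hS'card hK' hS' hCK' hC' hA1 hA1' hc' hθ'S hφ' hw' rfl
    -- identify with `φ`
    have htrans : HasCorr (Subgroup.inclusion hCK1) p θ1 (fun c => φ' (eC c)) := by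
      have := hφ'.comp_equiv (ι' := Subgroup.inclusion hCK1) eK eC (fun c => Subtype.ext rfl)
      simpa [θ'] using this
    have hφeq : φ = fun c => φ' (eC c) := by
      refine hcorr.eq_of_not_dvd hp hθ.isCharacter ?_
      have := hθ1.trans hθ.isCharacter htrans
      rwa [show (Subgroup.inclusion (inf_le_left : K1 ≤ K)).comp (Subgroup.inclusion hCK1) =
        Subgroup.inclusion hCK from MonoidHom.ext fun _ => Subtype.ext rfl] at this
    have hnCab : ∀ x, x ∈ Subgroup.normalizer (S : Set Γ) → x ∈ Subgroup.normalizer (C : Set Γ) := by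
      intro x hx
      refine mem_normalizer_of_conj_mem fun c hc => ?_
      rw [hC] at hc ⊢
      refine ⟨(inferInstance : K.Normal).conj_mem c hc.1 x,
        Subgroup.mem_centralizer_iff.mpr fun s hs => ?_⟩
      have hs' : x⁻¹ * s * x ∈ S :=
        (Subgroup.mem_normalizer_iff.mp hx _).mpr (by simpa [mul_assoc] using hs)
      have h1 := Subgroup.mem_centralizer_iff.mp hc.2 _ hs'
      calc s * (x * c * x⁻¹) = x * (x⁻¹ * s * x * c) * x⁻¹ := by group
        _ = _ := by rw [h1]; group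
    have hfix : ∀ x, x ∈ Subgroup.normalizer (S : Set Γ) → IsConjCharOf K x θ θ →
        IsConjCharOf C x φ φ := fun x hx h =>
      conjCharOf_corr hCK hp hθ.isCharacter (by rw [Subgroup.normalizer_eq_top]; trivial)
        (hnCab x hx) h hcorr
    obtain ⟨w', hwφ⟩ := exists_isOmega hcorr.1 (hnCab a haS) (hnCab b hbS)
      (hfix a haS hw.left_fixed.2) (hfix b hbS hw.right_fixed.2) hc
    have h1 : IsOmega (fun k : C.subgroupOf Γ1 => φ ⟨_, k.2⟩) a1 b1 w' :=
      IsOmega.comap Γ1.subtype Γ1.subtype_injective (Subgroup.subgroupOfEquivOfLe hCΓ1)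
        (fun _ => rfl) (isIrrCharacter_comp_equiv (Subgroup.subgroupOfEquivOfLe hCΓ1) hcorr.1)
        (fun _ => rfl) hwφ
    have h2 : IsOmega φ' (π a1) (π b1) w' := h1.map π
      ((Subgroup.subgroupOfEquivOfLe hCΓ1).trans eC) (fun _ => rfl)
      (fun n => by rw [hφeq]; rfl)
    rw [← h2.unique hfin]
    exact hwφ

end Cfsg.Lib.Char.RelMcKay
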