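import Cfsg.Agent.Lib.Char.RelMcKay.Pairs
import Cfsg.Agent.Lib.Char.RelMcKay.Layers
import Mathlib.GroupTheory.SchurZassenhaus
import Mathlib.GroupTheory.Sylow

/-!
# The relative count when the normal `p'`-section is centralized modulo `L`
-/

set_option autoImplicit false
set_option linter.unusedSectionVars false
set_option linter.style.haveILetI false

namespace Cfsg.Lib.Char.RelMcKay

open Cfsg Module
open Cfsg.Lib.Char
open scoped ComplexConjugate

universe u

variable {G : Type u} [Group G] [Finite G]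

/-- Central elements act alike on a character and on a constituent of its restriction. -/
theorem apply_central_constituent {C : Subgroup G} [Fintype C] {χ : G → ℂ}
    (hχ : IsIrrCharacter G χ) {φ : C → ℂ} (hφ : IsIrrCharacter C φ)
    (hc : classInner (fun c : C => χ c) φ ≠ 0) (z : C) (hz : (z : G) ∈ Subgroup.center G) :
    φ z * χ 1 = χ z * φ 1 := by
  obtain ⟨d, ρ, hρ, rfl⟩ := hχ
  obtain ⟨e, τ, hτ, rfl⟩ := hφ
  haveI := hρ
  haveI := hτ
  obtain ⟨c, hρz⟩ := exists_smul_of_comm ρ (ρ (z : G)) fun x => by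
    rw [← map_mul, ← map_mul]
    exact congrArg ρ (Subgroup.mem_center_iff.mp hz x).symm
  obtain ⟨c', hτz⟩ := exists_smul_of_comm τ (τ z) fun x => by
    rw [← map_mul, ← map_mul]
    exact congrArg τ (Subtype.ext (Subgroup.mem_center_iff.mp hz x).symm)
  let R : Representation ℂ C (Fin d → ℂ) := ρ.comp C.subtype
  have h1 : classInner R.character τ.character ≠ 0 :=
    hc
  rw [classInner_character, Nat.cast_ne_zero] at h1
  obtain ⟨T, hT⟩ := Module.finrank_pos_iff_exists_ne_zero.mp (Nat.pos_of_ne_zero h1)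
  have hcc : c' = c := by
    obtain ⟨v, hv⟩ : ∃ v, T.toLinearMap v ≠ 0 := by
      by_contra hall
      push Not at hall
      exact hT (DFunLike.ext _ _ fun v => hall v)
    have h2 := LinearMap.congr_fun (T.isIntertwining' z) v
    simp only [LinearMap.comp_apply] at h2
    rw [hτz, show R z = ρ (z : G) from rfl, hρz,
      LinearMap.smul_apply, LinearMap.smul_apply, Module.End.one_apply, Module.End.one_apply,
      map_smul] at h2
    exact smul_left_injective ℂ hv h2
  show LinearMap.trace ℂ _ (τ z) * LinearMap.trace ℂ _ (ρ 1) =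
    LinearMap.trace ℂ _ (ρ (z : G)) * LinearMap.trace ℂ _ (τ 1)
  rw [hρz, hτz, map_smul, map_smul, map_one ρ, map_one τ, hcc, smul_eq_mul, smul_eq_mul]
  ring

theorem subgroupOfEquiv_coe {H X : Subgroup G} (h : X ≤ H) (x : X) :
    (((Subgroup.subgroupOfEquivOfLe h).symm x : H) : G) = x := rfl

open Classical in
/-- The sums over the invariant characters agree under the correspondence. -/
theorem primeSum_eq [Fintype G] {p : ℕ} [hpf : Fact p.Prime] {K S L A : Subgroup G} [K.Normal]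
    [Fintype K] (H : Subgroup G) (hH : H = Subgroup.normalizer (S : Set G)) [Fintype H]
    [Fintype (K.subgroupOf H)]
    (hK : ¬ p ∣ Nat.card K) (hS : IsPGroup p S) (hL : L ≤ Subgroup.center G) (l : L →* ℂˣ)
    (hA : A ≤ H) (hA' : ¬ p ∣ Nat.card A)
    {a b : H} (ha : (a : G) ∈ A) (hb : (b : G) ∈ A) :
    ∑ θ ∈ Finset.univ.filter (fun θ : IrrCharacter K => θ ∈ PrimeSet K S l),
        omega (θ : K → ℂ) (a : G) (b : G) =
      ∑ φ ∈ Finset.univ.filter (fun φ : IrrCharacter (K.subgroupOf H) =>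
          φ ∈ PrimeSet (K.subgroupOf H)
            (S.subgroupOf H)
            (l.comp (subgroupOfHom L H))),
        omega (φ : K.subgroupOf H → ℂ) a b := by
  have hp := hpf.out
  have hHn : ∀ x ∈ H, x ∈ Subgroup.normalizer (S : Set G) := fun x hx => hH ▸ hx
  set C : Subgroup G := K ⊓ Subgroup.centralizer (S : Set G) with hCdef
  haveI := Fintype.ofFinite C
  obtain ⟨e, he⟩ := IsPGroup.iff_card.mp hS
  have hcor := isCorrespondence_pGroup hp S hS K C (by rw [Subgroup.normalizer_eq_top]; exact le_top)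
    (he ▸ Nat.Coprime.pow_right e ((hp.coprime_iff_not_dvd).mpr hK).symm) inf_le_left fun _ => Iff.rfl
  have hCH : C ≤ H := hH ▸ inf_le_right.trans (Subgroup.centralizer_le_normalizer _)
  have hKC : ∀ x : H, (x : G) ∈ K → (x : G) ∈ C := by
    refine fun x hx => ⟨hx, Subgroup.mem_centralizer_iff.mpr fun s hs => ?_⟩
    have h1 : (x : G) * s * (x : G)⁻¹ ∈ S := (Subgroup.mem_normalizer_iff.mp (hHn _ x.2) s).mp hs
    have h2 : (x : G) * s * (x : G)⁻¹ * s⁻¹ ∈ K := by
      rw [show (x : G) * s * (x : G)⁻¹ * s⁻¹ = (x : G) * (s * (x : G)⁻¹ * s⁻¹) by group]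
      exact mul_mem hx ((inferInstance : K.Normal).conj_mem _ (inv_mem hx) s)
    have h3 := inf_eq_bot_pPrime hK hS h2 (mul_mem h1 (inv_mem hs))
    rw [mul_inv_eq_one, mul_inv_eq_iff_eq_mul] at h3
    exact h3.symm
  let eC : C ≃* K.subgroupOf H :=
    { toFun := fun c => ⟨⟨c, hCH c.2⟩, c.2.1⟩
      invFun := fun x => ⟨((x : H) : G), hKC _ x.2⟩
      left_inv := fun _ => rfl
      right_inv := fun _ => rfl
      map_mul' := fun _ _ => rfl }
  -- the correspondence on the two sets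
  have hpair : ∀ (θ : IrrCharacter K) (φ : C → ℂ), IsInvOn S K (θ : K → ℂ) →
      HasCorr (Subgroup.inclusion (inf_le_left : C ≤ K)) p (θ : K → ℂ) φ →
      ∀ (z : L) (hz : (z : G) ∈ K), ((θ : K → ℂ) ⟨z, hz⟩ = (l z : ℂ) * (θ : K → ℂ) 1 ↔
        ∀ hzC : (z : G) ∈ C, φ ⟨z, hzC⟩ = (l z : ℂ) * φ 1) := by
    intro θ φ hθ hφ z hz
    have hzC : (z : G) ∈ C := ⟨hz, Subgroup.mem_centralizer_iff.mpr fun s _ =>
      Subgroup.mem_center_iff.mp (hL z.2) s⟩
    haveI := Fintype.ofFinite (C.subgroupOf K)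
    let eK := (Subgroup.subgroupOfEquivOfLe (inf_le_left : C ≤ K))
    have hne : classInner (fun c : C.subgroupOf K => (θ : K → ℂ) c) (fun c => φ (eK c)) ≠ 0 := by
      obtain ⟨m, hm⟩ := (θ.2.isCharacter.comp (Subgroup.inclusion (inf_le_left : C ≤ K))).exists_nat_classInner
        hφ.1.isCharacter
      have h1 := classInner_comp_equiv eK (fun c : C => (θ : K → ℂ) (Subgroup.inclusion inf_le_left c)) φ
      rw [hm] at h1
      intro h0
      have h2 : (m : ℂ) = 0 := h1.symm.trans h0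
      exact ((hφ.not_dvd_iff hp hφ.1 hm).mpr rfl) (by rw [Nat.cast_eq_zero.mp h2]; exact dvd_zero p)
    have h := apply_central_constituent θ.2 (isIrrCharacter_comp_equiv eK hφ.1) hne
      ⟨⟨z, hz⟩, hzC⟩ (Subgroup.mem_center_iff.mpr fun x =>
        Subtype.ext (Subgroup.mem_center_iff.mp (hL z.2) x))
    change φ ⟨z, hzC⟩ * (θ : K → ℂ) 1 = (θ : K → ℂ) ⟨z, hz⟩ * φ 1 at h
    constructor
    · intro h' _
      rw [h', mul_right_comm] at h
      exact mul_right_cancel₀ θ.2.apply_one_ne_zero h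
    · intro h'
      rw [h' hzC, mul_right_comm] at h
      exact (mul_right_cancel₀ hφ.1.apply_one_ne_zero h).symm
  choose g hg using fun θ : {θ : IrrCharacter K // θ ∈ PrimeSet K S l} =>
    hcor.exists_corr _ θ.1.2 θ.2.1
  let g' : {θ : IrrCharacter K // θ ∈ PrimeSet K S l} → IrrCharacter (K.subgroupOf H) :=
    fun θ => ⟨fun x => g θ (eC.symm x), isIrrCharacter_comp_equiv eC.symm (hg θ).1⟩
  have hg' : ∀ θ, g' θ ∈ PrimeSet (K.subgroupOf H) (S.subgroupOf H) (l.comp (subgroupOfHom L H)) := by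
    intro θ
    refine ⟨fun s hs x x' hx => ?_, fun z hz => ?_⟩
    · show g θ (eC.symm x') = g θ (eC.symm x)
      refine congrArg (g θ) (Subtype.ext ?_)
      show ((x' : H) : G) = ((x : H) : G)
      rw [hx, Subgroup.coe_mul, Subgroup.coe_mul, Subgroup.coe_inv,
        Subgroup.mem_centralizer_iff.mp (hKC _ x.2).2 _ (show (s : G) ∈ S from hs), mul_inv_cancel_right]
    · show g θ (eC.symm ⟨z, hz⟩) = _ * g θ (eC.symm 1)
      rw [map_one]
      exact ((hpair θ.1 _ θ.2.1 (hg θ) (subgroupOfHom L H z) hz).mp (θ.2.2 (subgroupOfHom L H z) hz)) (hKC _ hz)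
  have hinj : Function.Injective g' := by
    intro θ θ' h
    have h1 : g θ = g θ' := funext fun c => by
      simpa [g'] using congrFun (congrArg (fun φ : IrrCharacter (K.subgroupOf H) =>
        (φ : K.subgroupOf H → ℂ)) h) (eC c)
    exact Subtype.ext (Subtype.ext (hcor.injective _ _ _ θ.1.2 θ.2.1 θ'.1.2 θ'.2.1 (hg θ) (h1 ▸ hg θ')))
  have hsurj : ∀ φ : IrrCharacter (K.subgroupOf H), φ ∈ PrimeSet (K.subgroupOf H) (S.subgroupOf H)
      (l.comp (subgroupOfHom L H)) → ∃ θ, g' θ = φ := by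
    intro φ hφ
    obtain ⟨θ, hθ, hi, hc⟩ := hcor.surjective _ (isIrrCharacter_comp_equiv eC φ.2)
    have hθmem : (⟨θ, hθ⟩ : IrrCharacter K) ∈ PrimeSet K S l := by
      refine ⟨hi, fun z hz => (hpair ⟨θ, hθ⟩ _ hi hc z hz).mpr fun hzC => ?_⟩
      have h1 := hφ.2 ⟨⟨(z : G), hCH hzC⟩, z.2⟩ hz
      rw [map_one]
      exact h1
    refine ⟨⟨⟨θ, hθ⟩, hθmem⟩, Subtype.ext (funext fun x => ?_)⟩
    show g ⟨⟨θ, hθ⟩, hθmem⟩ (eC.symm x) = (φ : K.subgroupOf H → ℂ) x
    rw [(hg ⟨⟨θ, hθ⟩, hθmem⟩).eq_of_not_dvd hp hθ.isCharacter hc]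
    simp
  have hnK : ∀ x : G, x ∈ Subgroup.normalizer (K : Set G) := fun x => by
    rw [Subgroup.normalizer_eq_top]; trivial
  have hnC : ∀ x, x ∈ H → x ∈ Subgroup.normalizer (C : Set G) := by
    intro x hx
    refine mem_normalizer_of_conj_mem fun c hc => ?_
    exact hKC ⟨x * c * x⁻¹, mul_mem (mul_mem hx (hCH hc)) (inv_mem hx)⟩
      ((inferInstance : K.Normal).conj_mem c hc.1 x)
  have hnS : ∀ x ∈ H, ∀ s ∈ S, x * s * x⁻¹ ∈ S := fun x hx s hs =>
    (Subgroup.mem_normalizer_iff.mp (hHn x hx) s).mp hs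
  haveI : (K.subgroupOf H).Normal := Subgroup.Normal.subgroupOf inferInstance H
  have hnK' : ∀ x : H, x ∈ Subgroup.normalizer ((K.subgroupOf H : Subgroup H) : Set H) := fun x => by
    rw [Subgroup.normalizer_eq_top]; trivial
  have hclos : Subgroup.closure ({(a : G), (b : G)} : Set G) ≤ A :=
    (Subgroup.closure_le _).mpr (Set.insert_subset ha (Set.singleton_subset_iff.mpr hb))
  have hval : ∀ θ, omega (θ.1 : K → ℂ) (a : G) (b : G) =
      omega (g' θ : K.subgroupOf H → ℂ) a b := by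
    intro θ
    have hmapC : ∀ w, IsOmega (g' θ : K.subgroupOf H → ℂ) a b w → IsOmega (g θ) (a : G) (b : G) w :=
      fun w h => h.map H.subtype eC.symm (fun _ => rfl) (fun n => rfl)
    by_cases h : ∃ w, IsOmega (θ.1 : K → ℂ) (a : G) (b : G) w
    · obtain ⟨w, hw⟩ := h
      have hc : (a : G) * b * (a : G)⁻¹ * (b : G)⁻¹ ∈ C :=
        hKC (a * b * a⁻¹ * b⁻¹) hw.comm_mem
      have h1 := omega_glauberman hK hS inf_le_left (fun _ => Iff.rfl) (hclos.trans (hA.trans hH.le))
        (fun hd => hA' (hd.trans (Subgroup.card_dvd_of_le hclos))) hc θ.2.1 (hg θ) hw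
      have h2 : IsOmega (g' θ : K.subgroupOf H → ℂ) a b w :=
        IsOmega.comap H.subtype H.subtype_injective eC.symm (fun _ => rfl) (g' θ).2
          (fun _ => rfl) h1
      rw [omega_eq hw, omega_eq h2]
    · rw [omega_of_not h, omega_of_not]
      rintro ⟨w, hw'⟩
      have hw := hmapC w hw'
      have hfix : ∀ x : G, x ∈ H → IsConjCharOf C x (g θ) (g θ) →
          IsConjCharOf K x (θ.1 : K → ℂ) (θ.1 : K → ℂ) := by
        intro x hx hfx
        have hi : IsInvOn S K fun k => (θ.1 : K → ℂ) (twistEquiv K (hnK x) k) :=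
          θ.2.1.comp_twist (hnS x hx) (hnK x)
        have hc := hasCorr_twist inf_le_left (hnK x) (hnC x hx) (hg θ)
        rw [show (fun c => g θ (twistEquiv C (hnC x hx) c)) = g θ from
          funext fun c => hfx c _ (coe_twistEquiv C (hnC x hx) c)] at hc
        have h2 := hcor.injective _ _ _ (isIrrCharacter_comp_equiv (twistEquiv K (hnK x)) θ.1.2) hi
          θ.1.2 θ.2.1 hc (hg θ)
        intro k k' hk
        rw [show k' = twistEquiv K (hnK x) k from Subtype.ext hk]
        exact congrFun h2 k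
      exact h (exists_isOmega θ.1.2 (hnK a) (hnK b) (hfix a a.2 hw.left_fixed.2)
        (hfix b b.2 hw.right_fixed.2) hw.comm_mem.1)
  rw [Finset.sum_subtype _ (p := fun θ : IrrCharacter K => θ ∈ PrimeSet K S l) (by simp),
    Finset.sum_subtype _ (p := fun φ : IrrCharacter (K.subgroupOf H) =>
      φ ∈ PrimeSet (K.subgroupOf H) (S.subgroupOf H) (l.comp (subgroupOfHom L H))) (by simp)]
  let Φ : {θ : IrrCharacter K // θ ∈ PrimeSet K S l} →
      {φ : IrrCharacter (K.subgroupOf H) //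
        φ ∈ PrimeSet (K.subgroupOf H) (S.subgroupOf H) (l.comp (subgroupOfHom L H))} :=
    fun θ => ⟨g' θ, hg' θ⟩
  exact Fintype.sum_equiv (Equiv.ofBijective Φ ⟨fun θ θ' h => hinj (congrArg Subtype.val h),
    fun φ => (hsurj φ.1 φ.2).imp fun θ h => Subtype.ext h⟩) _ _ fun θ => hval θ

/-- The linear characters of `S` are counted alike inside a subgroup containing it. -/
theorem muCount_eq {S L H : Subgroup G} (hSH : S ≤ H) (l : L →* ℂˣ) (a b : H) :
    muCount S l (a : G) (b : G) = muCount (S.subgroupOf H) (l.comp (subgroupOfHom L H)) a b := by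
  let e := Subgroup.subgroupOfEquivOfLe hSH
  refine Nat.card_congr (Equiv.subtypeEquiv
    { toFun := fun μ => μ.comp e.toMonoidHom
      invFun := fun μ => μ.comp e.symm.toMonoidHom
      left_inv := fun μ => MonoidHom.ext fun s => by simp
      right_inv := fun μ => MonoidHom.ext fun s => by simp } fun μ => ?_)
  have hfix : ∀ x : H, MuFixed S (x : G) μ ↔ MuFixed (S.subgroupOf H) x (μ.comp e.toMonoidHom) := by
    intro x
    constructor
    · intro h s s' hs
      exact h (e s) (e s') (by simpa [e] using congrArg Subtype.val hs)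
    · intro h s s' hs
      simpa using h (e.symm s) (e.symm s') (Subtype.ext (by simpa [e] using hs))
  refine and_congr ⟨fun h z hz => h (subgroupOfHom L H z) hz, fun h z hz => ?_⟩
    (and_congr (hfix a) (hfix b))
  exact h ⟨⟨(z : G), hSH hz⟩, z.2⟩ hz

/-- The relative count over a central linear character, with a centralized `p'`-section. -/
theorem core {p : ℕ} [hpf : Fact p.Prime] (K L S : Subgroup G) [K.Normal]
    (hL : L ≤ Subgroup.center G) (hLK : L ≤ K) (hKp : ¬ p ∣ L.relIndex K) (hS : IsPGroup p S)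
    (hSidx : ¬ p ∣ S.index) (hKS : (K ⊔ S).Normal) (l : L →* ℂˣ) :
    cnt p L (fun z => (l z : ℂ)) =
      cntIn p L (fun z => (l z : ℂ)) (Subgroup.normalizer ((L ⊔ S : Subgroup G) : Set G)) := by
  classical
  have hp := hpf.out
  haveI := Fintype.ofFinite G
  set M := K ⊔ S with hMdef
  haveI := hKS
  haveI := Fintype.ofFinite M
  have hKM : K ≤ M := le_sup_left
  have hSM : S ≤ M := le_sup_right
  have hLM : L ≤ M := hLK.trans hKM
  have hidx : ¬ p ∣ M.index := fun h => hSidx (h.trans (Subgroup.index_dvd_of_le hSM))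
  let P : Sylow p G := hS.toSylow hSidx
  have hPS : (P : Subgroup G) = S := rfl
  -- the central `p`-part
  have hmemS : ∀ x ∈ L, ∀ e : ℕ, orderOf x = p ^ e → x ∈ S := by
    intro x hx e hxe
    obtain ⟨Q, hQ⟩ := (IsPGroup.of_card (n := e) (by rw [Nat.card_zpowers, hxe]) :
      IsPGroup p (Subgroup.zpowers x)).exists_le_sylow
    obtain ⟨g, hg⟩ := MulAction.exists_smul_eq G Q P
    have hxQ : x ∈ (Q : Subgroup G) := hQ (Subgroup.mem_zpowers x)
    have h1 : g * x * g⁻¹ ∈ ((g • Q : Sylow p G) : Subgroup G) := ⟨x, hxQ, rfl⟩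
    rwa [hg, hPS, Subgroup.mem_center_iff.mp (hL hx) g, mul_inv_cancel_right] at h1
  -- the normalizer
  have hN : Subgroup.normalizer ((L ⊔ S : Subgroup G) : Set G) = Subgroup.normalizer (S : Set G) := by
    apply le_antisymm
    · intro x hx
      refine mem_normalizer_of_conj_mem fun s hs => ?_
      have h1 : x * s * x⁻¹ ∈ L ⊔ S :=
        (Subgroup.mem_normalizer_iff.mp hx s).mp (Subgroup.mem_sup_right hs)
      haveI : L.Normal := ⟨fun z hz g => by
        rw [Subgroup.mem_center_iff.mp (hL hz) g, mul_inv_cancel_right]; exact hz⟩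
      obtain ⟨z, hz, t, ht, hzt⟩ := Subgroup.mem_sup_of_normal_left.mp h1
      obtain ⟨i, hi⟩ := hS ⟨s, hs⟩
      obtain ⟨j, hj⟩ := hS ⟨t, ht⟩
      have hz' : z ^ p ^ (i + j) = 1 := by
        have h2 : z = x * s * x⁻¹ * t⁻¹ := by rw [← hzt, mul_inv_cancel_right]
        have hcomm : Commute z t := (Subgroup.mem_center_iff.mp (hL hz) t).symm
        have h3 : (z * t) ^ p ^ (i + j) = 1 := by
          rw [hzt, conj_pow, pow_add, pow_mul, show s ^ p ^ i = 1 from congrArg Subtype.val hi,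
            one_pow, mul_one, mul_inv_cancel]
        rwa [hcomm.mul_pow, show t ^ p ^ (i + j) = 1 by
          rw [add_comm, pow_add, pow_mul, show t ^ p ^ j = 1 from congrArg Subtype.val hj, one_pow],
          mul_one] at h3
      obtain ⟨e, -, he⟩ := (Nat.dvd_prime_pow hp).mp (orderOf_dvd_of_pow_eq_one hz')
      exact hzt ▸ mul_mem (hmemS z hz e he) ht
    · intro x hx
      refine mem_normalizer_of_conj_mem fun y hy => ?_
      have hmap : (L ⊔ S).map (MulAut.conj x).toMonoidHom ≤ L ⊔ S := by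
        rw [Subgroup.map_sup]
        refine sup_le_sup ?_ ?_
        · rintro _ ⟨z, hz, rfl⟩
          show x * z * x⁻¹ ∈ L
          rw [Subgroup.mem_center_iff.mp (hL hz) x, mul_inv_cancel_right]; exact hz
        · rintro _ ⟨z, hz, rfl⟩
          exact (Subgroup.mem_normalizer_iff.mp hx z).mp hz
      exact hmap ⟨y, hy, rfl⟩
  rw [hN]
  set H := Subgroup.normalizer (S : Set G) with hHdef
  have hSH : S ≤ H := Subgroup.le_normalizer
  -- the `p'`-part of `K`
  have hSKn : ((S ⊓ K).subgroupOf K).Normal ∧ ∀ x ∈ S ⊓ K, x ∈ L := by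
    have hin : ∀ x ∈ S ⊓ K, x ∈ L := by
      intro x hx
      haveI : (L.subgroupOf K).Normal := ⟨fun z hz g => by
        rw [Subgroup.mem_subgroupOf] at hz ⊢
        rw [Subgroup.coe_mul, Subgroup.coe_mul, Subgroup.coe_inv,
          Subgroup.mem_center_iff.mp (hL hz) (g : G), mul_inv_cancel_right]
        exact hz⟩
      obtain ⟨i, hi⟩ := hS ⟨x, hx.1⟩
      let q : K ⧸ L.subgroupOf K := QuotientGroup.mk ⟨x, hx.2⟩
      have h1 : orderOf q ∣ p ^ i := orderOf_dvd_of_pow_eq_one (by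
        show (QuotientGroup.mk ⟨x, hx.2⟩ : K ⧸ L.subgroupOf K) ^ p ^ i = 1
        rw [← QuotientGroup.mk_pow, show (⟨x, hx.2⟩ : K) ^ p ^ i = 1 from
          Subtype.ext (by simpa using congrArg Subtype.val hi)]
        rfl)
      have h2 : orderOf q ∣ L.relIndex K := by
        rw [Subgroup.relIndex, Subgroup.index_eq_card]; exact orderOf_dvd_natCard q
      have h3 := Nat.eq_one_of_dvd_coprimes
        (Nat.Coprime.pow_left i ((hp.coprime_iff_not_dvd).mpr hKp)) h1 h2
      rw [orderOf_eq_one_iff] at h3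
      exact Subgroup.mem_subgroupOf.mp ((QuotientGroup.eq_one_iff _).mp h3)
    refine ⟨⟨fun z hz g => ?_⟩, hin⟩
    rw [Subgroup.mem_subgroupOf] at hz ⊢
    rw [Subgroup.coe_mul, Subgroup.coe_mul, Subgroup.coe_inv,
      Subgroup.mem_center_iff.mp (hL (hin _ hz)) (g : G), mul_inv_cancel_right]
    exact hz
  obtain ⟨hSKn, hSKL⟩ := hSKn
  set Z := (S ⊓ K).subgroupOf K with hZ
  have hZidx : ¬ p ∣ Z.index := by
    intro h
    refine hSidx (h.trans ?_)
    have h1 : Z.index = S.relIndex K := by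
      rw [hZ, Subgroup.inf_subgroupOf_right, Subgroup.relIndex]
    rw [h1]
    have h2 : K.relIndex S * S.relIndex M = K.relIndex S * S.relIndex K := by
      have e1 : (S ⊓ K).relIndex S = K.relIndex S := by
        rw [inf_comm, Subgroup.inf_relIndex_right]
      have e2 : (S ⊓ K).relIndex K = S.relIndex K := Subgroup.inf_relIndex_right S K
      have e3 : K.relIndex M = K.relIndex S := by rw [hMdef, sup_comm, Subgroup.relIndex_sup_right]
      have e4 := Subgroup.relIndex_mul_relIndex (S ⊓ K) S M inf_le_left hSM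
      have e5 := Subgroup.relIndex_mul_relIndex (S ⊓ K) K M inf_le_right hKM
      rw [e1] at e4
      rw [e2, e3, mul_comm] at e5
      exact e4.trans e5.symm
    rw [← Nat.eq_of_mul_eq_mul_left
      (Nat.pos_of_ne_zero (Subgroup.index_ne_zero_of_finite (H := K.subgroupOf S))) h2]
    exact ⟨M.index, (Subgroup.relIndex_mul_index hSM).symm⟩
  have hZp : IsPGroup p Z :=
    (hS.to_le (inf_le_left : S ⊓ K ≤ S)).comap_of_injective K.subtype K.subtype_injective
  obtain ⟨eZ, heZ⟩ := IsPGroup.iff_card.mp hZp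
  have hZcop : (Nat.card Z).Coprime Z.index :=
    heZ ▸ Nat.Coprime.pow_left eZ ((hp.coprime_iff_not_dvd).mpr hZidx)
  obtain ⟨W, hW⟩ := Subgroup.exists_right_complement'_of_coprime hZcop
  have hWcard : Nat.card W = Z.index := hW.symm.index_eq_card.symm
  have hWp : ¬ p ∣ Nat.card W := hWcard ▸ hZidx
  set K0 : Subgroup G := W.map K.subtype with hK0
  haveI := Fintype.ofFinite K0
  have hK0K : K0 ≤ K := Subgroup.map_subtype_le W
  have hK0card : Nat.card K0 = Nat.card W :=
    (Nat.card_congr (W.equivMapOfInjective _ K.subtype_injective).toEquiv).symm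
  have hK0p : ¬ p ∣ Nat.card K0 := hK0card ▸ hWp
  have hdec : ∀ x : K, ∃ z ∈ Z, ∃ w ∈ W, x = z * w := by
    intro x
    obtain ⟨⟨z, w⟩, h⟩ := hW.2 x
    exact ⟨z, z.2, w, w.2, h.symm⟩
  have hK0mem : ∀ x : G, x ∈ K0 ↔ x ∈ K ∧ x ^ Nat.card W = 1 := by
    intro x
    constructor
    · rintro ⟨w, hw, rfl⟩
      refine ⟨w.2, ?_⟩
      rw [← map_pow, show w ^ Nat.card W = 1 from
        congrArg Subtype.val (pow_card_eq_one' (x := (⟨w, hw⟩ : W))), map_one]
    · rintro ⟨hx, hx1⟩
      obtain ⟨z, hz, w, hw, hzw⟩ := hdec ⟨x, hx⟩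
      have hzS : (z : G) ∈ S ⊓ K := hz
      have hc : Commute (z : G) (w : G) :=
        (Subgroup.mem_center_iff.mp (hL (hSKL _ hzS)) (w : G)).symm
      have hw1 : (w : G) ^ Nat.card W = 1 := by
        have h := congrArg Subtype.val (show w ^ Nat.card W = 1 from
          congrArg Subtype.val (pow_card_eq_one' (x := (⟨w, hw⟩ : W))))
        simpa using h
      have hzx : x = (z : G) * w := congrArg Subtype.val hzw
      have hz1 : (z : G) ^ Nat.card W = 1 := by
        rwa [hzx, hc.mul_pow, hw1, mul_one] at hx1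
      have hz0 : z = 1 := by
        have h2 : orderOf z ∣ Nat.card W := orderOf_dvd_of_pow_eq_one (Subtype.ext (by simpa using hz1))
        have h3 : orderOf z ∣ Nat.card Z := Z.orderOf_dvd_natCard hz
        exact orderOf_eq_one_iff.mp (Nat.eq_one_of_dvd_coprimes (hWcard ▸ hZcop) h3 h2)
      exact ⟨w, hw, by rw [hzx, hz0]; simp⟩
  haveI hK0n : K0.Normal := ⟨fun x hx g => by
    rw [hK0mem] at hx ⊢
    exact ⟨(inferInstance : K.Normal).conj_mem x hx.1 g,
      by rw [conj_pow, hx.2, mul_one, mul_inv_cancel]⟩⟩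
  have hK0M : K0 ≤ M := hK0K.trans hKM
  have hM0 : M ≤ K0 ⊔ S := by
    refine sup_le (fun x hx => ?_) le_sup_right
    obtain ⟨z, hz, w, hw, hzw⟩ := hdec ⟨x, hx⟩
    have hzS : (z : G) ∈ S ⊓ K := hz
    rw [show x = (z : G) * w from congrArg Subtype.val hzw]
    exact mul_mem (Subgroup.mem_sup_right hzS.1) (Subgroup.mem_sup_left ⟨w, hw, rfl⟩)
  -- the supplement
  haveI hSHn : (S.subgroupOf H).Normal := Subgroup.normal_subgroupOf_iff_le_normalizer hSH |>.mpr le_rfl
  obtain ⟨eS, heS⟩ := IsPGroup.iff_card.mp hS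
  have hSHidx : ¬ p ∣ (S.subgroupOf H).index := fun h =>
    hSidx (h.trans ⟨H.index, (Subgroup.relIndex_mul_index hSH).symm⟩)
  have hcardSH : Nat.card (S.subgroupOf H) = p ^ eS := by
    rw [Nat.card_congr (Subgroup.subgroupOfEquivOfLe hSH).toEquiv, heS]
  have hSHcop : (Nat.card (S.subgroupOf H)).Coprime (S.subgroupOf H).index :=
    hcardSH ▸ Nat.Coprime.pow_left eS ((hp.coprime_iff_not_dvd).mpr hSHidx)
  obtain ⟨A', hA'⟩ := Subgroup.exists_right_complement'_of_coprime hSHcop
  have hA'card : Nat.card A' = (S.subgroupOf H).index := hA'.symm.index_eq_card.symm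
  set A : Subgroup G := A'.map H.subtype with hAdef
  haveI := Fintype.ofFinite A
  haveI := Fintype.ofFinite A'
  have hAH : A ≤ H := Subgroup.map_subtype_le A'
  have hAA' : A.subgroupOf H = A' := Subgroup.comap_map_eq_self_of_injective H.subtype_injective A'
  have hAcard : Nat.card A = Nat.card A' :=
    (Nat.card_congr (A'.equivMapOfInjective _ H.subtype_injective).toEquiv).symm
  have hAp : ¬ p ∣ Nat.card A := hAcard ▸ hA'card ▸ hSHidx
  have hA'p : ¬ p ∣ Nat.card A' := hA'card ▸ hSHidx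
  have hHdec : ∀ x : H, ∃ t : H, (t : G) ∈ S ∧ ∃ y ∈ A', x = t * y := by
    intro x
    obtain ⟨⟨t, y⟩, h⟩ := hA'.2 x
    exact ⟨t, t.2, y, y.2, h.symm⟩
  -- Frattini
  have hHM : H ⊔ M = ⊤ := by
    have hidx' : ¬ p ∣ (S.subgroupOf M).index := fun h =>
      hSidx (h.trans ⟨M.index, (Subgroup.relIndex_mul_index hSM).symm⟩)
    let Q : Sylow p M := (hS.comap_of_injective M.subtype M.subtype_injective).toSylow hidx'
    have h := Sylow.normalizer_sup_eq_top Q
    have hQ : ((Q : Subgroup M).map M.subtype) = S := Subgroup.map_subgroupOf_eq_of_le hSM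
    rwa [hQ] at h
  have hMA : M ⊔ A = ⊤ := by
    refine top_le_iff.mp (hHM ▸ sup_le (fun x hx => ?_) le_sup_left)
    obtain ⟨t, ht, y, hy, h⟩ := hHdec ⟨x, hx⟩
    rw [show x = (t : G) * y from congrArg Subtype.val h]
    exact mul_mem (Subgroup.mem_sup_left (hSM ht)) (Subgroup.mem_sup_right ⟨y, hy, rfl⟩)
  -- the two counts
  haveI := Fintype.ofFinite H
  set M' := M.subgroupOf H with hM'
  haveI : M'.Normal := Subgroup.Normal.subgroupOf inferInstance H
  haveI := Fintype.ofFinite M'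
  haveI : (K0.subgroupOf H).Normal := Subgroup.Normal.subgroupOf inferInstance H
  haveI := Fintype.ofFinite (K0.subgroupOf H)
  have hL' : L.subgroupOf H ≤ Subgroup.center H := fun z hz => Subgroup.mem_center_iff.mpr fun x =>
    Subtype.ext (Subgroup.mem_center_iff.mp (hL hz) x)
  have hLM' : L.subgroupOf H ≤ M' := fun z hz => hLM hz
  have hS'M : S.subgroupOf H ≤ M' := fun z hz => hSM hz
  have hK'M : K0.subgroupOf H ≤ M' := fun z hz => hK0M hz
  have hM'0 : M' ≤ K0.subgroupOf H ⊔ S.subgroupOf H := by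
    intro x hx
    obtain ⟨k, hk, t, ht, h⟩ := Subgroup.mem_sup_of_normal_left.mp (hM0 hx)
    have hkH : k ∈ H := by
      rw [eq_mul_inv_of_mul_eq h]
      exact mul_mem x.2 (inv_mem (hSH ht))
    rw [show x = (⟨k, hkH⟩ : H) * ⟨t, hSH ht⟩ from Subtype.ext h.symm]
    exact mul_mem (Subgroup.mem_sup_left hk) (Subgroup.mem_sup_right ht)
  have hidx' : ¬ p ∣ M'.index := fun h => hSHidx (h.trans (Subgroup.index_dvd_of_le hS'M))
  have hMA' : M' ⊔ A' = ⊤ := by
    refine eq_top_iff.mpr fun x _ => ?_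
    obtain ⟨t, ht, y, hy, rfl⟩ := hHdec x
    exact mul_mem (Subgroup.mem_sup_left (hSM ht)) (Subgroup.mem_sup_right hy)
  have hS' : IsPGroup p (S.subgroupOf H) := hS.comap_of_injective H.subtype H.subtype_injective
  have hK0'p : ¬ p ∣ Nat.card (K0.subgroupOf H) := fun h => hK0p (h.trans (by
    rw [Nat.card_congr ((K0.subgroupOf H).equivMapOfInjective H.subtype H.subtype_injective).toEquiv,
      Subgroup.subgroupOf_map_subtype]
    exact Subgroup.card_dvd_of_le inf_le_left))
  set l' := l.comp (subgroupOfHom L H) with hl'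
  have hG := cnt_eq_sum hp (A := A) hL hLM l hidx hMA
  have hH := cnt_eq_sum hp (A := A') hL' hLM' l' hidx' hMA'
  have hcntIn : cntIn p L (fun z => (l z : ℂ)) H = cnt p (L.subgroupOf H) (fun z => (l' z : ℂ)) := rfl
  have hn : Nat.card ↥(A' ⊓ M') = Nat.card ↥(A ⊓ M) := by
    refine Nat.card_congr
      { toFun := fun x => ⟨((x : H) : G), ⟨(x : H), x.2.1, rfl⟩, x.2.2⟩
        invFun := fun x => ⟨⟨(x : G), hAH x.2.1⟩, hAA'.le (show (⟨(x : G), hAH x.2.1⟩ : H) ∈
          A.subgroupOf H from x.2.1), x.2.2⟩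
        left_inv := fun _ => rfl
        right_inv := fun _ => rfl }
  have hsum : ∑ a : A, ∑ b : A, sideSum (SideSet p hLM l) (a : G) (b : G) =
      ∑ a : A', ∑ b : A', sideSum (SideSet p hLM' l') (a : H) (b : H) := by
    let e : A' ≃* A := A'.equivMapOfInjective H.subtype H.subtype_injective
    refine (Fintype.sum_equiv e.toEquiv _ _ fun a => Fintype.sum_equiv e.toEquiv _ _ fun b => ?_).symm
    show sideSum (SideSet p hLM' l') (a : H) (b : H) =
      sideSum (SideSet p hLM l) ((a : H) : G) ((b : H) : G)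
    have hA'S : A' ≤ Subgroup.normalizer ((S.subgroupOf H : Subgroup H) : Set H) := by
      rw [Subgroup.normalizer_eq_top]; exact le_top
    rw [sideSum_pairs hK'M hS'M hM'0 hK0'p hS' hL' hLM' l' hA'S hA'p a.2 b.2,
      sideSum_pairs hK0M hSM hM0 hK0p hS hL hLM l hAH hAp
        (show ((a : H) : G) ∈ A from ⟨(a : H), a.2, rfl⟩)
        (show ((b : H) : G) ∈ A from ⟨(b : H), b.2, rfl⟩),
      ← primeSum_eq H hHdef hK0p hS hL l hAH hAp (⟨(a : H), a.2, rfl⟩ : ((a : H) : G) ∈ A)
        (⟨(b : H), b.2, rfl⟩ : ((b : H) : G) ∈ A), muCount_eq hSH l (a : H) (b : H)]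
  rw [hsum, ← hH, ← hcntIn, hAcard, hn] at hG
  exact_mod_cast mul_right_cancel₀ (Nat.cast_ne_zero.mpr Nat.card_pos.ne')
    (mul_right_cancel₀ (Nat.cast_ne_zero.mpr Nat.card_pos.ne') hG)

end Cfsg.Lib.Char.RelMcKay
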