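import Cfsg.Agent.Lib.Char.RelMcKay.Omega
import Cfsg.Agent.Lib.Char.Triple
import Cfsg.Agent.Lib.Char.Clifford

/-!
# Counting the characters above a stable set of characters of a normal subgroup

If `Θ` is a stable set of irreducible characters of a normal subgroup `M`, the number of
irreducible characters of `G` above `Θ` times `|G| |M|` is the sum of all the commutator scalars
`omega θ a b`, `θ ∈ Θ`, `a b ∈ G`.
-/

set_option autoImplicit false
set_option linter.unusedSectionVars false
set_option linter.style.haveILetI false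

namespace Cfsg.Lib.Char.RelMcKay

open Cfsg Module
open Cfsg.Lib.Char
open scoped ComplexConjugate

universe u v

section Schur

variable {N : Type u} [Group N] [Fintype N] {m : ℕ} {V : Type v} [AddCommGroup V] [Module ℂ V]
  [FiniteDimensional ℂ V]

/-- An intertwiner into a representation without the constituent vanishes. -/
theorem intertwiner_eq_zero (σ : Representation ℂ N (Fin m → ℂ)) (R : Representation ℂ N V)
    (h : classInner R.character σ.character = 0) (T : (Fin m → ℂ) →ₗ[ℂ] V)
    (hT : ∀ g, T ∘ₗ σ g = R g ∘ₗ T) : T = 0 := by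
  rw [classInner_character, Nat.cast_eq_zero] at h
  haveI := Module.finrank_zero_iff.mp h
  exact congrArg Representation.IntertwiningMap.toLinearMap
    (Subsingleton.elim (⟨T, hT⟩ : Representation.IntertwiningMap σ R) 0)

/-- Schur orthogonality against a representation without the constituent. -/
theorem sum_trace_smul_eq_zero (σ : Representation ℂ N (Fin m → ℂ)) (R : Representation ℂ N V)
    (h : classInner R.character σ.character = 0) (X : Module.End ℂ V) :
    ∑ n : N, LinearMap.trace ℂ V (R n * X) • σ n⁻¹ = 0 := by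
  classical
  have key : ∀ (η : (Fin m → ℂ) →ₗ[ℂ] ℂ) (v : V) (w : Fin m → ℂ),
      ∑ n : N, η (σ n⁻¹ w) • R n v = 0 := by
    intro η v w
    have hT := intertwiner_eq_zero σ R h (∑ n : N, R n ∘ₗ η.smulRight v ∘ₗ σ n⁻¹) fun g => by
      refine LinearMap.ext fun x => ?_
      simp only [LinearMap.comp_apply, LinearMap.sum_apply, map_sum]
      refine Fintype.sum_equiv (Equiv.mulLeft g⁻¹) _ _ fun n => ?_
      simp only [Equiv.coe_mulLeft, LinearMap.smulRight_apply]
      rw [← Module.End.mul_apply (f := R g), ← map_mul, mul_inv_cancel_left,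
        ← Module.End.mul_apply (f := σ n⁻¹), ← map_mul, mul_inv_rev, inv_inv]
    have := LinearMap.congr_fun hT w
    simpa [LinearMap.sum_apply, LinearMap.smulRight_apply] using this
  let b := Module.finBasis ℂ V
  refine LinearMap.ext fun w => funext fun i => ?_
  simp only [LinearMap.sum_apply, LinearMap.smul_apply, LinearMap.zero_apply, Finset.sum_apply,
    Pi.smul_apply, smul_eq_mul, Pi.zero_apply]
  simp only [LinearMap.trace_eq_matrix_trace ℂ b, Matrix.trace, Matrix.diag, LinearMap.toMatrix_apply,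
    Finset.sum_mul]
  rw [Finset.sum_comm]
  refine Finset.sum_eq_zero fun k _ => ?_
  have := congrArg (fun y => b.repr y k) (key (LinearMap.proj i) (X (b k)) w)
  simp only [map_sum, map_smul, map_zero, Finsupp.coe_finsetSum, Finset.sum_apply, Finsupp.smul_apply,
    smul_eq_mul, Finsupp.coe_zero, Pi.zero_apply, LinearMap.proj_apply] at this
  rw [← this]
  exact Finset.sum_congr rfl fun n _ => by rw [Module.End.mul_apply]; ring

end Schur

section Columns

variable {G : Type u} [Group G] [Fintype G]

open Classical in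
theorem sum_mul_inv_eq_card (u v : G) :
    ∑ χ : IrrCharacter G, (χ : G → ℂ) u * (χ : G → ℂ) v⁻¹ =
      ∑ x : G, if x * u * x⁻¹ = v then (1 : ℂ) else 0 := by
  rw [Finset.sum_congr rfl fun (χ : IrrCharacter G) _ => by rw [χ.2.isCharacter.apply_inv v],
    column_orthogonality, Finset.sum_boole]
  split_ifs with h
  · obtain ⟨c, hc⟩ := isConj_iff.mp h
    rw [Nat.cast_inj, ← Fintype.card_subtype, ← Nat.card_eq_fintype_card]
    refine Nat.card_congr ((Equiv.mulLeft c).subtypeEquiv fun z => ?_)
    rw [Subgroup.mem_centralizer_singleton_iff, Equiv.coe_mulLeft]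
    constructor <;> intro hz
    · rw [show c * z * u * (c * z)⁻¹ = c * (z * u * z⁻¹) * c⁻¹ by group, hz,
        mul_inv_cancel_right, hc]
    · rw [show c * z * u * (c * z)⁻¹ = c * (z * u * z⁻¹) * c⁻¹ by group, ← hc, mul_left_inj,
        mul_right_inj, mul_inv_eq_iff_eq_mul] at hz
      exact hz
  · rw [eq_comm, Nat.cast_eq_zero, Finset.card_eq_zero, Finset.filter_eq_empty_iff]
    exact fun x _ hx => h (isConj_iff.mpr ⟨x, hx⟩)

end Columns

section Cosets

variable {G : Type u} [Group G] [Fintype G] {M : Subgroup G} [hM : M.Normal] [Fintype M]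

/-- The chosen dimension. -/
noncomputable def repDim (θ : IrrCharacter M) : ℕ := θ.2.choose

/-- The chosen representation. -/
noncomputable def repOf (θ : IrrCharacter M) : Representation ℂ M (Fin (repDim θ) → ℂ) :=
  θ.2.choose_spec.choose

theorem repOf_irr (θ : IrrCharacter M) : (repOf θ).IsIrreducible :=
  θ.2.choose_spec.choose_spec.1

theorem repOf_char (θ : IrrCharacter M) : (repOf θ).character = (θ : M → ℂ) :=
  θ.2.choose_spec.choose_spec.2

theorem repDim_cast (θ : IrrCharacter M) : (θ : M → ℂ) 1 = (repDim θ : ℂ) := by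
  rw [← repOf_char, Representation.char_one, Module.finrank_fin_fun]

open Classical in
/-- The chosen lift, when there is one. -/
noncomputable def liftOf (θ : IrrCharacter M) (a : G) : (Op (repDim θ))ˣ :=
  if h : ∃ A, IsLift (repOf θ) a A then h.choose else 1

theorem liftOf_isLift {θ : IrrCharacter M} {a : G} (h : ∃ A, IsLift (repOf θ) a A) :
    IsLift (repOf θ) a (liftOf θ a) := by
  rw [liftOf, dif_pos h]; exact h.choose_spec

theorem mem_normalizer_normal (g : G) : g ∈ Subgroup.normalizer (M : Set G) := by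
  rw [Subgroup.normalizer_eq_top]; trivial

/-- The value of the chosen lift on the coset. -/
noncomputable def cosetVal (θ : IrrCharacter M) (a : G) (n : M) : ℂ :=
  LinearMap.trace ℂ _ ((liftOf θ a : Op (repDim θ)) * repOf θ n)

/-- The dual value. -/
noncomputable def cosetDual (θ : IrrCharacter M) (a : G) (n : M) : ℂ :=
  LinearMap.trace ℂ _ (repOf θ n⁻¹ * (((liftOf θ a)⁻¹ : (Op (repDim θ))ˣ) : Op (repDim θ)))

open Classical in
/-- The expansion of a class function on a coset. -/
theorem coset_expansion {F : G → ℂ} (hF : IsClassFunction G F) (a : G) (n : M) :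
    (Nat.card M : ℂ) * F (n * a) = ∑ θ : IrrCharacter M, if ∃ A, IsLift (repOf θ) a A then
      cosetVal θ a n * ∑ k : M, cosetDual θ a k * F (k * a) else 0 := by
  have h0 : (Nat.card M : ℂ) * F (n * a) =
      ∑ θ : IrrCharacter M, (θ : M → ℂ) 1 * ∑ k : M, F (k * a) * (θ : M → ℂ) (n * k⁻¹) := by
    simp only [Finset.mul_sum]
    rw [Finset.sum_comm, Finset.sum_eq_single n]
    · rw [mul_inv_cancel, ← sum_sq_degree (G := M), Finset.sum_mul]
      exact Finset.sum_congr rfl fun θ _ => by ring
    · intro k _ hk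
      rw [Finset.sum_congr rfl (g := fun θ : IrrCharacter M =>
        F (k * a) * ((θ : M → ℂ) 1 * (θ : M → ℂ) (n * k⁻¹))) fun θ _ => by ring,
        ← Finset.mul_sum, sum_degree_mul, if_neg, mul_zero]
      exact fun h => hk (mul_inv_eq_one.mp h).symm
    · simp
  rw [h0]
  refine Finset.sum_congr rfl fun θ _ => ?_
  haveI := repOf_irr θ
  set σ := repOf θ with hσ
  set X : Op (repDim θ) := ∑ k : M, F (k * a) • σ k⁻¹ with hX
  have hlhs : (θ : M → ℂ) 1 * ∑ k : M, F (k * a) * (θ : M → ℂ) (n * k⁻¹) =
      (repDim θ : ℂ) * LinearMap.trace ℂ _ (σ n * X) := by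
    rw [repDim_cast, hX, Finset.mul_sum Finset.univ (fun k : M => F ((k : G) * a) • σ k⁻¹), map_sum]
    congr 1
    refine Finset.sum_congr rfl fun k _ => ?_
    rw [mul_smul_comm, map_smul, ← map_mul, smul_eq_mul, ← repOf_char θ]
    rfl
  have hcov : ∀ z : M, X * σ z = σ (MulAut.conjNormal a z) * X := by
    intro z
    rw [hX, Finset.sum_mul, Finset.mul_sum]
    refine Fintype.sum_equiv
      ((Equiv.mulLeft z⁻¹).trans (Equiv.mulRight (MulAut.conjNormal a z))) _ _ fun k => ?_
    simp only [Equiv.trans_apply, Equiv.coe_mulLeft, Equiv.coe_mulRight]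
    rw [smul_mul_assoc, mul_smul_comm]
    congr 1
    · rw [← hF ((k : G) * a) (z : G)⁻¹]
      congr 1
      simp only [Subgroup.coe_mul, Subgroup.coe_inv, MulAut.conjNormal_apply]
      group
    · rw [← map_mul, ← map_mul, mul_inv_rev, mul_inv_rev, inv_inv, mul_inv_cancel_left]
  rw [hlhs]
  by_cases hfix : ∃ A, IsLift σ a A
  · rw [if_pos hfix]
    have hA := liftOf_isLift hfix
    set A := liftOf θ a with hAdef
    obtain ⟨c, hc⟩ := exists_smul_of_comm σ (((A⁻¹ : (Op (repDim θ))ˣ) : Op (repDim θ)) * X) fun z => by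
      have h1 := hA.2 z (MulAut.conjNormal a z) (MulAut.conjNormal_apply a z)
      rw [mul_assoc, hcov, ← mul_assoc, ← Units.mul_right_inj A, ← mul_assoc, ← mul_assoc,
        Units.mul_inv, one_mul, ← mul_assoc (A : Op (repDim θ)), h1, mul_assoc,
        Units.mul_inv_cancel_left]
    have hXc : X = c • (A : Op (repDim θ)) := by
      have := congrArg (fun Y => (A : Op (repDim θ)) * Y) hc
      simpa [← mul_assoc] using this
    have hdual : ∑ k : M, cosetDual θ a k * F (k * a) = c * (repDim θ : ℂ) := by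
      have h2 : LinearMap.trace ℂ _ (((A⁻¹ : (Op (repDim θ))ˣ) : Op (repDim θ)) * X) =
          c * (repDim θ : ℂ) := by
        rw [hc, map_smul, LinearMap.trace_one, Module.finrank_fin_fun, smul_eq_mul]
      rw [← h2, hX, Finset.mul_sum, map_sum]
      refine Finset.sum_congr rfl fun k _ => ?_
      rw [mul_smul_comm, map_smul, smul_eq_mul, mul_comm, LinearMap.trace_mul_comm]
      congr 1
    rw [hdual, hXc, mul_smul_comm, map_smul, smul_eq_mul, cosetVal,
      LinearMap.trace_mul_comm ℂ (σ n)]
    ring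
  · rw [if_neg hfix]
    have hz : X = 0 := by
      let σ' : Representation ℂ M (Fin (repDim θ) → ℂ) :=
        σ.comp (MulAut.conjNormal a : MulAut M).toMonoidHom
      refine intertwiner_eq_zero σ σ' ?_ X fun z => hcov z
      refine classInner_irr_ne ?_ ⟨_, σ, inferInstance, rfl⟩ fun he => hfix ?_
      · exact isIrrCharacter_comp_equiv (MulAut.conjNormal a : MulAut M) ⟨_, σ, inferInstance, rfl⟩
      refine exists_lift inferInstance (mem_normalizer_normal a) fun z z' hz => ?_
      rw [show z' = MulAut.conjNormal a z from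
        Subtype.ext (hz.trans (MulAut.conjNormal_apply a z).symm)]
      exact congrFun he z
    rw [hz]; simp

/-- The dual sum vanishes away from the constituents. -/
theorem sum_cosetDual_eq_zero {χ : G → ℂ} (hχ : IsCharacter G χ) {θ : IrrCharacter M}
    (h : classInner (fun n : M => χ n) (θ : M → ℂ) = 0) (a : G) :
    ∑ k : M, cosetDual θ a k * χ (k * a) = 0 := by
  obtain ⟨d, R, rfl⟩ := hχ
  have hz := sum_trace_smul_eq_zero (repOf θ) (R.comp M.subtype) (by rw [repOf_char]; exact h) (R a)
  have h2 := congrArg (fun Y : Op (repDim θ) => LinearMap.trace ℂ _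
    (Y * (((liftOf θ a)⁻¹ : (Op (repDim θ))ˣ) : Op (repDim θ)))) hz
  simp only [Finset.sum_mul, map_sum, smul_mul_assoc, map_smul, smul_eq_mul, zero_mul, map_zero] at h2
  rw [← h2]
  refine Finset.sum_congr rfl fun k _ => ?_
  rw [mul_comm]
  congr 1
  show LinearMap.trace ℂ _ (R ((k : G) * a)) = _
  rw [map_mul]; rfl

open Classical in
theorem coset_inner (θ : IrrCharacter M) (a x : G) :
    (if ∃ A, IsLift (repOf θ) a A then ∑ n : M, ∑ k : M, cosetVal θ a n * cosetDual θ a k *
        (if x * ((k : G) * a) * x⁻¹ = n * a then (1 : ℂ) else 0) else 0) =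
      (Nat.card M : ℂ) * omega (θ : M → ℂ) a x := by
  haveI := repOf_irr θ
  set σ := repOf θ with hσ
  by_cases hfix : ∃ A, IsLift σ a A
  swap
  · rw [if_neg hfix, omega_of_not, mul_zero]
    rintro ⟨w, hw⟩
    obtain ⟨hn, hc⟩ := hw.left_fixed
    exact hfix (exists_lift inferInstance hn fun z z' hz => by
      rw [hσ, repOf_char]; exact hc z z' hz)
  rw [if_pos hfix]
  have hA := liftOf_isLift hfix
  by_cases hc : x * a * x⁻¹ * a⁻¹ ∈ M
  swap
  · rw [omega_of_not, mul_zero]
    · refine Finset.sum_eq_zero fun n _ => Finset.sum_eq_zero fun k _ => ?_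
      rw [if_neg, mul_zero]
      intro he
      refine hc ?_
      have h1 : x * a * x⁻¹ * a⁻¹ = x * (k : G)⁻¹ * x⁻¹ * (n : G) := by
        rw [show x * a * x⁻¹ * a⁻¹ = x * (k : G)⁻¹ * x⁻¹ * (x * ((k : G) * a) * x⁻¹) * a⁻¹ by group,
          he]
        group
      rw [h1]
      exact mul_mem (hM.conj_mem _ (inv_mem k.2) x) n.2
    · rintro ⟨w, hw⟩
      refine hc ?_
      have := inv_mem hw.comm_mem
      simpa [mul_assoc] using this
  set c : M := ⟨_, hc⟩ with hcdef
  have hcol : ∀ k : M, ∑ n : M, cosetVal θ a n * cosetDual θ a k *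
      (if x * ((k : G) * a) * x⁻¹ = n * a then (1 : ℂ) else 0) =
      cosetVal θ a (MulAut.conjNormal x k * c) * cosetDual θ a k := by
    intro k
    have hk : x * ((k : G) * a) * x⁻¹ = ((MulAut.conjNormal x k * c : M) : G) * a := by
      simp only [hcdef, Subgroup.coe_mul, MulAut.conjNormal_apply]; group
    rw [Finset.sum_eq_single (MulAut.conjNormal x k * c), if_pos hk, mul_one]
    · intro n _ hn
      rw [if_neg, mul_zero]
      intro he
      exact hn (Subtype.ext (mul_right_cancel (he.symm.trans hk)))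
    · simp
  rw [Finset.sum_comm, Finset.sum_congr rfl fun k _ => hcol k]
  set A := liftOf θ a with hAdef
  by_cases hx : ∃ B, IsLift σ x B
  · obtain ⟨B, hB⟩ := hx
    have hc' : a * x * a⁻¹ * x⁻¹ = ((c⁻¹ : M) : G) := by
      simp only [hcdef, Subgroup.coe_inv]; group
    obtain ⟨w, hw⟩ := OmegaRep.exists_of inferInstance hA hB (hc' ▸ (c⁻¹).2)
    have hwΩ : IsOmega (θ : M → ℂ) a x w := ⟨_, σ, inferInstance, repOf_char θ, hw⟩
    rw [omega_eq hwΩ]
    have heq := hw.eq_lifts hA hB hc'.symm
    have h3 : σ.toHomUnits c * A = scalarU w * (B * A * B⁻¹) := by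
      have h4 := congrArg Inv.inv heq
      rw [show (A * B * A⁻¹ * B⁻¹)⁻¹ = B * A * B⁻¹ * A⁻¹ by group, mul_inv_rev, ← map_inv σ.toHomUnits,
        inv_inv, ← map_inv scalarU, ← scalarU_comm, mul_inv_eq_iff_eq_mul] at h4
      rw [h4, ← mul_assoc, ← mul_assoc, ← map_mul, mul_inv_cancel, map_one, one_mul]
    have hval : ∀ k : M, cosetVal θ a (MulAut.conjNormal x k * c) = (w : ℂ) * cosetVal θ a k := by
      intro k
      show LinearMap.trace ℂ _ ((A : Op (repDim θ)) * σ (MulAut.conjNormal x k * c) :
        Op (repDim θ)) = _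
      rw [map_mul σ, LinearMap.trace_mul_comm, mul_assoc]
      have h5 : σ c * (A : Op (repDim θ)) = (w : ℂ) • ((B : Op (repDim θ)) * A * ((B⁻¹ : (Op (repDim θ))ˣ) : Op (repDim θ))) := by
        have := congrArg Units.val h3
        simpa [coe_scalarU] using this
      have h6 : σ (MulAut.conjNormal x k) * (B : Op (repDim θ)) = (B : Op (repDim θ)) * σ k :=
        (hB.2 k _ (MulAut.conjNormal_apply x k)).symm
      rw [h5, mul_smul_comm, map_smul, smul_eq_mul, ← mul_assoc, ← mul_assoc, h6, mul_assoc (B : Op (repDim θ)),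
        LinearMap.trace_mul_comm, ← mul_assoc, Units.inv_mul, one_mul, LinearMap.trace_mul_comm]
      rfl
    simp only [hval, mul_assoc, ← Finset.mul_sum]
    rw [mul_comm (Nat.card M : ℂ)]
    congr 1
    exact sum_trace_mul_trace_inv σ (A : Op (repDim θ)) ((A⁻¹ : (Op (repDim θ))ˣ) : Op (repDim θ)) (Units.mul_inv A)
  · rw [omega_of_not, mul_zero]
    · let σ' : Representation ℂ M (Fin (repDim θ) → ℂ) :=
        σ.comp (MulAut.conjNormal x : MulAut M).toMonoidHom
      have hne : classInner σ'.character σ.character = 0 := by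
        refine classInner_irr_ne ?_ ⟨_, σ, inferInstance, rfl⟩ fun he => hx ?_
        · exact isIrrCharacter_comp_equiv (MulAut.conjNormal x : MulAut M) ⟨_, σ, inferInstance, rfl⟩
        refine exists_lift inferInstance (mem_normalizer_normal x) fun z z' hz => ?_
        rw [show z' = MulAut.conjNormal x z from
          Subtype.ext (hz.trans (MulAut.conjNormal_apply x z).symm)]
        exact congrFun he z
      have h7 := congrArg (fun Y : Op (repDim θ) => LinearMap.trace ℂ _
          (Y * ((A⁻¹ : (Op (repDim θ))ˣ) : Op (repDim θ))))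
        (sum_trace_smul_eq_zero σ σ' hne (σ c * (A : Op (repDim θ))))
      simp only [Finset.sum_mul, map_sum, smul_mul_assoc, map_smul, smul_eq_mul, zero_mul, map_zero] at h7
      rw [← h7]
      refine Finset.sum_congr rfl fun k _ => ?_
      congr 1
      show LinearMap.trace ℂ _ ((A : Op (repDim θ)) * σ (MulAut.conjNormal x k * c) :
          Op (repDim θ)) =
        LinearMap.trace ℂ _ (σ (MulAut.conjNormal x k) * (σ c * (A : Op (repDim θ))) :
          Op (repDim θ))
      rw [map_mul σ, LinearMap.trace_mul_comm, mul_assoc]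
    · rintro ⟨w, hw⟩
      obtain ⟨hn, hc⟩ := hw.right_fixed
      exact hx (exists_lift inferInstance hn fun z z' hz => by
        rw [hσ, repOf_char]; exact hc z z' hz)

/-- The characters above a set of characters of `M`. -/
def IsAbove (Θ : Set (IrrCharacter M)) (χ : IrrCharacter G) : Prop :=
  ∃ θ ∈ Θ, classInner (fun n : M => (χ : G → ℂ) n) (θ : M → ℂ) ≠ 0

open Classical in
/-- The counting formula. -/
theorem card_isAbove (Θ : Set (IrrCharacter M))
    (hΘ : ∀ θ ∈ Θ, ∀ g : G, ∀ h : IsIrrCharacter M (conjTwist M (θ : M → ℂ) g),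
      (⟨_, h⟩ : IrrCharacter M) ∈ Θ) :
    (Nat.card {χ : IrrCharacter G // IsAbove Θ χ} : ℂ) * Nat.card G * Nat.card M =
      ∑ a : G, ∑ b : G, ∑ θ ∈ Finset.univ.filter (fun θ : IrrCharacter M => θ ∈ Θ),
        omega (θ : M → ℂ) a b := by
  have hM0 : (Nat.card M : ℂ) ≠ 0 := Nat.cast_ne_zero.mpr Nat.card_pos.ne'
  refine mul_left_cancel₀ hM0 ?_
  have hnorm : ∀ χ : IrrCharacter G, ∑ g : G, (χ : G → ℂ) g * (χ : G → ℂ) g⁻¹ = Nat.card G := by
    intro χ
    have h := classInner_irr_self χ.2
    rw [classInner, inv_mul_eq_one₀ card_cast_ne_zero] at h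
    rw [h]
    exact Finset.sum_congr rfl fun g _ => by rw [χ.2.isCharacter.apply_inv]
  have hsplit : ∀ φ : G → ℂ, (Nat.card M : ℂ) * ∑ g, φ g = ∑ a : G, ∑ n : M, φ (n * a) := by
    intro φ
    conv_rhs => rw [Finset.sum_comm]
    rw [Finset.sum_congr rfl (f := fun n : M => ∑ a : G, φ ((n : G) * a)) (g := fun _ => ∑ g, φ g)
      fun n _ => Fintype.sum_equiv (Equiv.mulLeft (n : G)) (fun a => φ (n * a)) φ fun _ => rfl]
    rw [Finset.sum_const, Finset.card_univ, nsmul_eq_mul, Nat.card_eq_fintype_card]
  set S := Finset.univ.filter (fun θ : IrrCharacter M => θ ∈ Θ) with hS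
  let T : IrrCharacter G → G → ℂ := fun χ a => ∑ θ ∈ S, if ∃ A, IsLift (repOf θ) a A then
    ∑ n : M, ∑ k : M, cosetVal θ a n * cosetDual θ a k *
      ((χ : G → ℂ) (k * a) * (χ : G → ℂ) ((n : G) * a)⁻¹) else 0
  have hterm : ∀ χ : IrrCharacter G, ∑ a : G, T χ a =
      if IsAbove Θ χ then (Nat.card M : ℂ) * Nat.card M * Nat.card G else 0 := by
    intro χ
    have hre : ∀ a, T χ a = ∑ n : M, (χ : G → ℂ) ((n : G) * a)⁻¹ * ∑ θ ∈ S,
        if ∃ A, IsLift (repOf θ) a A then
          cosetVal θ a n * ∑ k : M, cosetDual θ a k * (χ : G → ℂ) (k * a) else 0 := by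
      intro a
      simp only [T, Finset.mul_sum]
      rw [Finset.sum_comm (t := S)]
      refine Finset.sum_congr rfl fun θ _ => ?_
      simp only [mul_ite, mul_zero]
      split_ifs with h
      · refine Finset.sum_congr rfl fun n _ => ?_
        simp only [Finset.mul_sum]
        exact Finset.sum_congr rfl fun k _ => by ring
      · simp
    by_cases hab : IsAbove Θ χ
    · rw [if_pos hab]
      obtain ⟨θ₀, hθ₀, hc₀⟩ := hab
      have hout : ∀ θ : IrrCharacter M, θ ∉ S →
          classInner (fun n : M => (χ : G → ℂ) n) (θ : M → ℂ) = 0 := by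
        intro θ hθ
        by_contra hne
        obtain ⟨g, hg⟩ := (mem_twistOrbit M).mp
          (mem_twistOrbit_of_constituent M χ.2 θ₀.2 θ.2 hc₀ hne)
        refine hθ (Finset.mem_filter.mpr ⟨Finset.mem_univ _, ?_⟩)
        have hirr : IsIrrCharacter M (conjTwist M (θ₀ : M → ℂ) g) := isIrrCharacter_conjTwist M θ₀.2 g
        have := hΘ θ₀ hθ₀ g hirr
        rwa [show θ = (⟨_, hirr⟩ : IrrCharacter M) from Subtype.ext hg.symm]
      have hexp : ∀ a, T χ a =
          ∑ n : M, (Nat.card M : ℂ) * ((χ : G → ℂ) (n * a) * (χ : G → ℂ) ((n : G) * a)⁻¹) := by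
        intro a
        rw [hre]
        refine Finset.sum_congr rfl fun n _ => ?_
        rw [← mul_assoc, coset_expansion χ.2.isClassFunction a n, mul_comm]
        congr 1
        refine (Finset.sum_subset (Finset.subset_univ _) fun θ _ hθ => ?_)
        rw [sum_cosetDual_eq_zero χ.2.isCharacter (hout θ hθ) a, mul_zero, ite_self]
      simp only [hexp, ← Finset.mul_sum]
      rw [← hsplit fun g => (χ : G → ℂ) g * (χ : G → ℂ) g⁻¹, hnorm]
      ring
    · rw [if_neg hab]
      refine Finset.sum_eq_zero fun a _ => ?_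
      rw [hre]
      refine Finset.sum_eq_zero fun n _ => ?_
      rw [Finset.sum_eq_zero, mul_zero]
      intro θ hθ
      have hne : classInner (fun n : M => (χ : G → ℂ) n) (θ : M → ℂ) = 0 := by
        by_contra hne
        exact hab ⟨θ, (Finset.mem_filter.mp hθ).2, hne⟩
      rw [sum_cosetDual_eq_zero χ.2.isCharacter hne a, mul_zero, ite_self]
  have htot : ∑ χ : IrrCharacter G, ∑ a : G, T χ a =
      (Nat.card M : ℂ) * ((Nat.card {χ : IrrCharacter G // IsAbove Θ χ} : ℂ) * Nat.card G *
        Nat.card M) := by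
    simp only [hterm]
    rw [← Finset.sum_filter, Finset.sum_const, nsmul_eq_mul, ← Fintype.card_subtype,
      ← Nat.card_eq_fintype_card]
    ring
  rw [← htot, Finset.sum_comm, Finset.mul_sum]
  refine Finset.sum_congr rfl fun a _ => ?_
  simp only [T, Finset.mul_sum]
  rw [Finset.sum_comm]
  conv_rhs => rw [Finset.sum_comm]
  refine Finset.sum_congr rfl fun θ _ => ?_
  simp only [← coset_inner θ a]
  split_ifs with h
  · rw [Finset.sum_comm]
    conv_rhs => rw [Finset.sum_comm]
    refine Finset.sum_congr rfl fun n _ => ?_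
    rw [Finset.sum_comm]
    conv_rhs => rw [Finset.sum_comm]
    refine Finset.sum_congr rfl fun k _ => ?_
    rw [← Finset.mul_sum, ← Finset.mul_sum, sum_mul_inv_eq_card]
  · simp

end Cosets

end Cfsg.Lib.Char.RelMcKay
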