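import Cfsg.Agent.Lib.Char.RelMcKay.Omega
import Cfsg.Agent.Lib.Char.CanonExt
import Cfsg.Agent.Lib.Char.InvariantOver
import Cfsg.Agent.Lib.Char.Triple
import Cfsg.Agent.Lib.Char.Linear

/-!
# The commutator scalar under the correspondence, when one element centralizes the operators
-/

set_option autoImplicit false
set_option linter.unusedSectionVars false
set_option linter.style.haveILetI false

namespace Cfsg.Lib.Char.RelMcKay

open Cfsg Module
open Cfsg.Lib.Char
open scoped ComplexConjugate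

universe u

theorem conj_units_of_finite {G : Type u} [Group G] [Finite G] (μ : G →* ℂˣ) (g : G) :
    conj (μ g : ℂ) = (μ g⁻¹ : ℂ) :=
  ((isIrrCharacter_linear μ).isCharacter.apply_inv g).symm

/-- The correspondence commutes with multiplication by linear characters. -/
theorem hasCorr_mul_linear {A C : Type u} [Group A] [Finite A] [Group C] [Fintype C]
    {ι : C →* A} {p : ℕ} {χ : A → ℂ} {β : C → ℂ} (l : A →* ℂˣ) (h : HasCorr ι p χ β) :
    HasCorr ι p (fun a => χ a * (l a : ℂ)) (fun c => β c * (l (ι c) : ℂ)) := by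
  obtain ⟨hβ, ε, hε, hall⟩ := h
  refine ⟨isIrrCharacter_mul_linear hβ (l.comp ι), ε, hε, fun η k hη hk => ?_⟩
  set η₀ : C → ℂ := fun c => η c * (((l.comp ι)⁻¹ : C →* ℂˣ) c : ℂ) with hη₀
  have h1 : classInner (fun c => χ (ι c)) η₀ = k := by
    rw [← hk]
    simp only [classInner, hη₀, map_mul, conj_units_of_finite]
    congr 1
    refine Finset.sum_congr rfl fun c _ => ?_
    simp only [MonoidHom.inv_apply, map_inv, inv_inv, MonoidHom.comp_apply]
    ring
  have hiff : η = (fun c => β c * (l (ι c) : ℂ)) ↔ η₀ = β := by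
    constructor <;> intro he <;> funext c
    · simp [hη₀, he]
    · have := congrFun he c
      simp only [hη₀, MonoidHom.inv_apply, MonoidHom.comp_apply] at this
      rw [← this, mul_assoc, ← Units.val_mul, inv_mul_cancel, Units.val_one, mul_one]
  obtain ⟨h2, h3⟩ := hall η₀ k (isIrrCharacter_mul_linear hη _) h1
  exact ⟨fun he => h2 (hiff.mp he), fun hne => h3 fun he => hne (hiff.mpr he)⟩

variable {Γ : Type u} [Group Γ]

/-- The correspondence commutes with conjugation. -/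
theorem hasCorr_twist {K C : Subgroup Γ} [Fintype C] (hCK : C ≤ K) {p : ℕ} {θ : K → ℂ}
    {φ : C → ℂ} {x : Γ} (hxK : x ∈ Subgroup.normalizer (K : Set Γ))
    (hxC : x ∈ Subgroup.normalizer (C : Set Γ)) (h : HasCorr (Subgroup.inclusion hCK) p θ φ) :
    HasCorr (Subgroup.inclusion hCK) p (fun k => θ (twistEquiv K hxK k))
      (fun c => φ (twistEquiv C hxC c)) :=
  h.comp_equiv (twistEquiv K hxK) (twistEquiv C hxC) fun _ => Subtype.ext rfl

/-- The correspondent of a character fixed by `x` is fixed by `x`. -/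
theorem conjCharOf_corr [Finite Γ] {K C : Subgroup Γ} [Fintype C] (hCK : C ≤ K) {p : ℕ}
    (hp : p.Prime) {θ : K → ℂ} {φ : C → ℂ} (hθ : IsCharacter K θ) {x : Γ}
    (hxK : x ∈ Subgroup.normalizer (K : Set Γ)) (hxC : x ∈ Subgroup.normalizer (C : Set Γ))
    (hx : IsConjCharOf K x θ θ) (h : HasCorr (Subgroup.inclusion hCK) p θ φ) :
    IsConjCharOf C x φ φ := by
  have h1 : HasCorr (Subgroup.inclusion hCK) p θ (fun c => φ (twistEquiv C hxC c)) := by
    have h2 := hasCorr_twist hCK hxK hxC h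
    rwa [show (fun k => θ (twistEquiv K hxK k)) = θ from
      funext fun k => hx k _ (coe_twistEquiv K hxK k)] at h2
  intro c c' hc
  rw [show c' = twistEquiv C hxC c from Subtype.ext hc]
  exact congrFun (h1.eq_of_not_dvd hp hθ h) c

theorem not_dvd_card_sup [Finite Γ] {p : ℕ} [Fact p.Prime] {K A : Subgroup Γ} [K.Normal]
    (hK : ¬ p ∣ Nat.card K) (hA : ¬ p ∣ Nat.card A) :
    ¬ p ∣ Nat.card ↥(K ⊔ A) := by
  intro h
  obtain ⟨x, hx⟩ := exists_prime_orderOf_dvd_card' p h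
  have hxΓ : orderOf (x : Γ) = p := by rw [Subgroup.orderOf_coe, hx]
  obtain ⟨k, hk, a, ha, hka⟩ := Subgroup.mem_sup_of_normal_left.mp x.2
  have h1 : ((x : Γ) : Γ ⧸ K) = (a : Γ ⧸ K) := by
    rw [← hka, QuotientGroup.mk_mul, (QuotientGroup.eq_one_iff k).mpr hk, one_mul]
  have h2 : orderOf (a : Γ ⧸ K) ∣ Nat.card A :=
    (orderOf_map_dvd (QuotientGroup.mk' K) a).trans (A.orderOf_dvd_natCard ha)
  have h3 : orderOf ((x : Γ) : Γ ⧸ K) ∣ p := hxΓ ▸ orderOf_map_dvd (QuotientGroup.mk' K) (x : Γ)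
  rcases (Nat.dvd_prime (Fact.out (p := p.Prime))).mp h3 with h4 | h4
  · rw [orderOf_eq_one_iff, QuotientGroup.eq_one_iff] at h4
    exact hK (hxΓ ▸ K.orderOf_dvd_natCard h4)
  · exact hA (h4 ▸ h1 ▸ h2)

theorem subgroupOf_sup_zpowers {K D : Subgroup Γ} {d : Γ} [K.Normal]
    (hD : D = K ⊔ Subgroup.zpowers d) (hd : d ∈ D) :
    K.subgroupOf D ⊔ Subgroup.zpowers (⟨d, hd⟩ : D) = ⊤ := by
  refine eq_top_iff.mpr fun z _ => ?_
  obtain ⟨k, hk, y, ⟨i, rfl⟩, hz⟩ := Subgroup.mem_sup_of_normal_left.mp (hD.le z.2)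
  have hkD : k ∈ D := hD ▸ Subgroup.mem_sup_left hk
  rw [show z = (⟨k, hkD⟩ : D) * (⟨d, hd⟩ : D) ^ i from Subtype.ext (by simpa using hz.symm)]
  exact mul_mem (Subgroup.mem_sup_left hk) (Subgroup.mem_sup_right (Subgroup.zpow_mem_zpowers _ i))

variable [Finite Γ] {m : ℕ}

theorem mem_normalizer_of_conj_mem {H : Subgroup Γ} {x : Γ} (h : ∀ z ∈ H, x * z * x⁻¹ ∈ H) :
    x ∈ Subgroup.normalizer (H : Set Γ) := by
  refine Subgroup.mem_normalizer_iff.mpr fun z => ⟨h z, fun hz => ?_⟩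
  obtain ⟨⟨y, hy⟩, hyz⟩ := Finite.surjective_of_injective
    (f := fun y : H => (⟨x * y * x⁻¹, h y y.2⟩ : H))
    (fun a b e => Subtype.ext (mul_left_cancel (mul_right_cancel (congrArg Subtype.val e)))) ⟨_, hz⟩
  rwa [← mul_left_cancel (mul_right_cancel (congrArg Subtype.val hyz))]

/-- The twist of an extension along a fixing element is by the commutator scalar. -/
theorem exists_linear_twist {K D : Subgroup Γ} (hKD : K ≤ D) [(K.subgroupOf D).Normal]
    {σ : Representation ℂ K (Fin m → ℂ)} [σ.IsIrreducible] {ρ : Representation ℂ D (Fin m → ℂ)}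
    (hρ : ∀ k : K, ρ ⟨k, hKD k.2⟩ = σ k) {a d : Γ} (hd : d ∈ D)
    (haD : a ∈ Subgroup.normalizer (D : Set Γ)) {w : ℂˣ} (hw : OmegaRep σ a d w) :
    ∃ l : D →* ℂˣ, (∀ z : D, (z : Γ) ∈ K → l z = 1) ∧
      (l ⟨d, hd⟩ : ℂ) = ((w⁻¹ : ℂˣ) : ℂ) ∧
      ∀ z : D, ρ.character (twistEquiv D haD z) = ρ.character z * (l z : ℂ) := by
  obtain ⟨A, B, hA, hB, c, hc, heq⟩ := hw
  let U : D →* (Op m)ˣ := ρ.toHomUnits
  have hUK : ∀ k : K, U ⟨k, hKD k.2⟩ = σ.toHomUnits k := fun k => Units.ext (by simp [U, hρ])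
  have hdD : IsLift σ d (U ⟨d, hd⟩) := by
    refine ⟨hB.1, fun k k' hk => ?_⟩
    show (U ⟨d, hd⟩ : Op m) * σ k = σ k' * (U ⟨d, hd⟩ : Op m)
    simp only [U, MonoidHom.coe_toHomUnits]
    rw [← hρ, ← hρ, ← map_mul, ← map_mul]
    exact congrArg ρ (Subtype.ext (by simp only [Subgroup.coe_mul, hk]; group))
  have hcomm := OmegaRep.eq_lifts ⟨A, B, hA, hB, c, hc, heq⟩ hA hdD hc
  let ρ₁ : Representation ℂ D (Fin m → ℂ) :=
    { toFun := fun z => (A⁻¹ : (Op m)ˣ) * ρ (twistEquiv D haD z) * (A : Op m)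
      map_one' := by simp
      map_mul' := fun x y => by
        rw [map_mul, map_mul]
        simp only [mul_assoc, Units.mul_inv_cancel_left] }
  let σD : Representation ℂ (K.subgroupOf D) (Fin m → ℂ) :=
    σ.comp (Subgroup.subgroupOfEquivOfLe hKD).toMonoidHom
  haveI : σD.IsIrreducible := by
    rw [isIrreducible_iff_isIrrCharacter]
    exact isIrrCharacter_comp_equiv (Subgroup.subgroupOfEquivOfLe hKD) ⟨m, σ, inferInstance, rfl⟩
  have hρD : ∀ n : K.subgroupOf D, ρ (n : D) = σD n := fun n => hρ ⟨_, n.2⟩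
  have hρ₁D : ∀ n : K.subgroupOf D, ρ₁ (n : D) = σD n := by
    intro n
    let k : K := ⟨_, n.2⟩
    let k' : K := twistEquiv K hA.1 k
    show ((A⁻¹ : (Op m)ˣ) : Op m) * ρ (twistEquiv D haD (n : D)) * (A : Op m) = σ k
    rw [show twistEquiv D haD (n : D) = ⟨(k' : Γ), hKD k'.2⟩ from Subtype.ext rfl, hρ k', mul_assoc,
      ← hA.2 k k' (coe_twistEquiv K hA.1 k), Units.inv_mul_cancel_left]
  obtain ⟨l, hl1, hl⟩ := exists_hom_of_two_extensions hρD hρ₁D
  refine ⟨l, fun z hz => hl1 z hz, ?_, fun z => ?_⟩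
  · have h1 := hl ⟨d, hd⟩
    have hz : twistEquiv D haD ⟨d, hd⟩ = ⟨(c : Γ), hKD c.2⟩ * ⟨d, hd⟩ :=
      Subtype.ext (by simp only [coe_twistEquiv, Subgroup.coe_mul, hc]; group)
    have h2 : A⁻¹ * (U (twistEquiv D haD ⟨d, hd⟩)) * A = scalarU w⁻¹ * U ⟨d, hd⟩ := by
      have h3 : σ.toHomUnits c = scalarU w⁻¹ * (A * U ⟨d, hd⟩ * A⁻¹ * (U ⟨d, hd⟩)⁻¹) := by
        rw [hcomm, ← mul_assoc, ← map_mul, inv_mul_cancel, map_one, one_mul]
      rw [hz, map_mul, hUK, h3]
      simp only [← mul_assoc]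
      rw [← scalarU_comm w⁻¹ A⁻¹]
      group
    have h3 := congrArg Units.val h2
    simp only [Units.val_mul, coe_scalarU, U, MonoidHom.coe_toHomUnits, smul_mul_assoc, one_mul] at h3
    have h4 : (l ⟨d, hd⟩ : ℂ) • ρ ⟨d, hd⟩ = ((w⁻¹ : ℂˣ) : ℂ) • ρ ⟨d, hd⟩ := by
      rw [← h1]; exact h3
    have h5 := congrArg (fun X => X * ρ (⟨d, hd⟩⁻¹ : D)) h4
    simp only [smul_mul_assoc, ← map_mul, mul_inv_cancel, map_one] at h5
    haveI : NeZero m := ⟨by
      have := irreducible_finrank_pos σ; rw [Module.finrank_fin_fun] at this; exact this.ne'⟩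
    exact smul_one_injective h5
  · have h1 : LinearMap.trace ℂ _ (ρ₁ z) = LinearMap.trace ℂ _ ((l z : ℂ) • ρ z) := by rw [hl]
    rw [map_smul, smul_eq_mul] at h1
    rw [mul_comm]
    refine Eq.trans ?_ h1
    show LinearMap.trace ℂ _ (ρ (twistEquiv D haD z)) =
      LinearMap.trace ℂ _ (((A⁻¹ : (Op m)ˣ) : Op m) * ρ (twistEquiv D haD z) * (A : Op m))
    rw [LinearMap.trace_mul_comm, ← mul_assoc, Units.mul_inv, one_mul]

/-- An operator element centralizing `d` fixes every extension to `K⟨d⟩`. -/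
theorem extension_fixed {p : ℕ} [Fact p.Prime] {K D : Subgroup Γ} [K.Normal] {d : Γ}
    (hD : D = K ⊔ Subgroup.zpowers d) (hKD : K ≤ D) (hd : d ∈ D) (hd' : ¬ p ∣ orderOf d)
    {σ : Representation ℂ K (Fin m → ℂ)} [σ.IsIrreducible] {ρ : Representation ℂ D (Fin m → ℂ)}
    (hρ : ∀ k : K, ρ ⟨k, hKD k.2⟩ = σ k) {s : Γ} {e : ℕ} (hs : orderOf s = p ^ e)
    (hsd : s * d = d * s) (hsθ : IsConjCharOf K s σ.character σ.character) :
    ∀ z z' : D, (z' : Γ) = s * z * s⁻¹ → ρ.character z' = ρ.character z := by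
  have hsK : s ∈ Subgroup.normalizer (K : Set Γ) := by rw [Subgroup.normalizer_eq_top]; trivial
  obtain ⟨X, hX⟩ := exists_lift inferInstance hsK hsθ
  let U : D →* (Op m)ˣ := ρ.toHomUnits
  have hUK : ∀ k : K, U ⟨k, hKD k.2⟩ = σ.toHomUnits k := fun k => Units.ext (by simp [U, hρ])
  have hdK : d ∈ Subgroup.normalizer (K : Set Γ) := by rw [Subgroup.normalizer_eq_top]; trivial
  have hdD : IsLift σ d (U ⟨d, hd⟩) := by
    refine ⟨hdK, fun k k' hk => ?_⟩
    show (U ⟨d, hd⟩ : Op m) * σ k = σ k' * (U ⟨d, hd⟩ : Op m)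
    simp only [U, MonoidHom.coe_toHomUnits]
    rw [← hρ, ← hρ, ← map_mul, ← map_mul]
    exact congrArg ρ (Subtype.ext (by simp only [Subgroup.coe_mul, hk]; group))
  obtain ⟨v, hv⟩ := OmegaRep.exists_of inferInstance hX hdD (by
    rw [hsd, mul_inv_cancel_right, mul_inv_cancel]; exact one_mem K)
  have heq := hv.eq_lifts hX hdD (n := 1) (by rw [hsd]; simp)
  rw [map_one, mul_one] at heq
  have hconj : X * U ⟨d, hd⟩ * X⁻¹ = scalarU v * U ⟨d, hd⟩ := by
    rw [← heq, inv_mul_cancel_right]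
  have hm : 0 < m := by
    have := irreducible_finrank_pos σ; rwa [Module.finrank_fin_fun] at this
  -- the scalar has order dividing both orders
  have hv1 : v ^ orderOf d = 1 := by
    have h1 : (U ⟨d, hd⟩) ^ orderOf d = 1 := by
      rw [← map_pow, show (⟨d, hd⟩ : D) ^ orderOf d = 1 from Subtype.ext (by simp [pow_orderOf_eq_one]),
        map_one]
    have h2 := congrArg (fun Y => Y ^ orderOf d) hconj
    simp only [conj_pow, h1, mul_one, mul_inv_cancel] at h2
    rw [Commute.mul_pow (scalarU_comm v _), h1, mul_one, ← map_pow] at h2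
    exact scalarU_injective hm (h2.symm.trans (map_one scalarU).symm)
  have hpow : ∀ k : ℕ, X ^ k * U ⟨d, hd⟩ * (X ^ k)⁻¹ = scalarU (v ^ k) * U ⟨d, hd⟩ := by
    intro k
    induction k with
    | zero => simp
    | succ k ih =>
      calc X ^ (k + 1) * U ⟨d, hd⟩ * (X ^ (k + 1))⁻¹
          = X * (X ^ k * U ⟨d, hd⟩ * (X ^ k)⁻¹) * X⁻¹ := by rw [pow_succ']; group
        _ = scalarU (v ^ k) * (X * U ⟨d, hd⟩ * X⁻¹) := by
            rw [ih, ← mul_assoc X, ← scalarU_comm (v ^ k) X]; simp only [mul_assoc]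
        _ = _ := by rw [hconj, ← mul_assoc, ← map_mul, pow_succ]
  have hv2 : v ^ (p ^ e) = 1 := by
    have h1 := hpow (p ^ e)
    have h2 : IsLift σ 1 (X ^ (p ^ e)) := by
      have := hX.pow (p ^ e); rwa [← hs, pow_orderOf_eq_one, hs] at this
    obtain ⟨c, hc⟩ := (show IsLift σ 1 1 by simpa using IsLift.graph (σ := σ) 1).unique h2
    rw [hc, mul_one, scalarU_comm, mul_inv_cancel_right] at h1
    exact scalarU_injective hm (by rw [map_one]; exact mul_right_cancel (h1.symm.trans (one_mul _).symm))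
  have hv0 : v = 1 := by
    rw [← orderOf_eq_one_iff]
    refine Nat.eq_one_of_dvd_coprimes ?_ (orderOf_dvd_of_pow_eq_one hv1) (orderOf_dvd_of_pow_eq_one hv2)
    exact Nat.Coprime.pow_right _ ((Nat.Prime.coprime_iff_not_dvd (Fact.out (p := p.Prime))).mpr hd').symm
  rw [hv0, map_one, one_mul] at hconj
  have hcm : Commute X (U ⟨d, hd⟩) := mul_inv_eq_iff_eq_mul.mp hconj
  intro z z' hz
  obtain ⟨k, hk, y, ⟨i, rfl⟩, hkd⟩ := Subgroup.mem_sup_of_normal_left.mp (hD.le z.2)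
  let k' : K := twistEquiv K hsK ⟨k, hk⟩
  have hsi : s * d ^ i = d ^ i * s := (Commute.zpow_right (show Commute s d from hsd) i).eq
  have hz1 : z = ⟨k, hKD hk⟩ * (⟨d, hd⟩ : D) ^ i := Subtype.ext (by simpa using hkd.symm)
  have hz2 : z' = ⟨(k' : Γ), hKD k'.2⟩ * (⟨d, hd⟩ : D) ^ i := Subtype.ext (by
    simp only [hz, ← hkd, k', coe_twistEquiv, Subgroup.coe_mul, SubgroupClass.coe_zpow]
    rw [show s * (k * d ^ i) * s⁻¹ = s * k * s⁻¹ * (s * d ^ i * s⁻¹) by group, hsi,
      mul_inv_cancel_right])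
  have hU : X * U z = U z' * X := by
    rw [hz1, hz2, map_mul, map_mul, map_zpow, hUK, hUK ⟨k, hk⟩, ← mul_assoc,
      hX.apply (coe_twistEquiv K hsK _), mul_assoc, (hcm.zpow_right i).eq, ← mul_assoc]
  show LinearMap.trace ℂ _ (ρ z') = LinearMap.trace ℂ _ (ρ z)
  have h3 : U z' = X * U z * X⁻¹ := by rw [hU, mul_inv_cancel_right]
  have h4 := congrArg Units.val h3
  simp only [U, Units.val_mul, MonoidHom.coe_toHomUnits] at h4
  rw [h4, LinearMap.trace_mul_comm, ← mul_assoc, Units.inv_mul, one_mul]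

/-- The scalar does not change under the correspondence when `d` centralizes the operators. -/
theorem omega_direct {p : ℕ} [Fact p.Prime] {K C S : Subgroup Γ} [Fintype C] [K.Normal]
    (hK : ¬ p ∣ Nat.card K) (hS : IsPGroup p S) (hCK : C ≤ K)
    (hC : ∀ x, x ∈ C ↔ x ∈ K ∧ x ∈ Subgroup.centralizer (S : Set Γ))
    {a d : Γ} (ha : a ∈ Subgroup.normalizer (S : Set Γ))
    (hd : d ∈ Subgroup.centralizer (S : Set Γ)) (hd' : ¬ p ∣ orderOf d)
    (hc : a * d * a⁻¹ * d⁻¹ ∈ C) {θ : K → ℂ} (hθS : IsInvOn S K θ) {φ : C → ℂ}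
    (hcorr : HasCorr (Subgroup.inclusion hCK) p θ φ) {w : ℂˣ} (hw : IsOmega θ a d w) :
    IsOmega φ a d w := by
  classical
  have hp := (Fact.out (p := p.Prime))
  haveI := Fintype.ofFinite K
  obtain ⟨m, σ, hσ, hθ, hwσ⟩ := hw
  subst hθ
  have hθirr : IsIrrCharacter K σ.character := ⟨m, σ, hσ, rfl⟩
  set D := K ⊔ Subgroup.zpowers d with hD
  set E := C ⊔ Subgroup.zpowers d with hE
  haveI := Fintype.ofFinite D
  haveI := Fintype.ofFinite E
  have hKD : K ≤ D := le_sup_left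
  have hdD : d ∈ D := Subgroup.mem_sup_right (Subgroup.mem_zpowers d)
  have hCE : C ≤ E := le_sup_left
  have hdE : d ∈ E := Subgroup.mem_sup_right (Subgroup.mem_zpowers d)
  have hED : E ≤ D := sup_le_sup_right hCK _
  have hpD : ¬ p ∣ Nat.card D := not_dvd_card_sup hK (by rwa [Nat.card_zpowers])
  have hnK : ∀ x : Γ, x ∈ Subgroup.normalizer (K : Set Γ) := fun x => by
    rw [Subgroup.normalizer_eq_top]; trivial
  -- normalizers of the centralizer part
  have hnC : ∀ x, x ∈ Subgroup.normalizer (S : Set Γ) → x ∈ Subgroup.normalizer (C : Set Γ) := by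
    intro x hx
    have key : ∀ y ∈ Subgroup.normalizer (S : Set Γ), ∀ c ∈ C, y * c * y⁻¹ ∈ C := by
      intro y hy c hc'
      rw [hC] at hc' ⊢
      refine ⟨(inferInstance : K.Normal).conj_mem c hc'.1 y, Subgroup.mem_centralizer_iff.mpr fun s hs => ?_⟩
      have hs' : y⁻¹ * s * y ∈ S := (Subgroup.mem_normalizer_iff.mp hy _).mpr (by simpa [mul_assoc] using hs)
      have h1 := Subgroup.mem_centralizer_iff.mp hc'.2 _ hs'
      calc s * (y * c * y⁻¹) = y * (y⁻¹ * s * y * c) * y⁻¹ := by group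
        _ = _ := by rw [h1]; group
    refine Subgroup.mem_normalizer_iff.mpr fun c => ⟨key x hx c, fun h => ?_⟩
    have := key x⁻¹ (inv_mem hx) _ h
    simpa [mul_assoc] using this
  have hdN : d ∈ Subgroup.normalizer (S : Set Γ) := Subgroup.centralizer_le_normalizer _ hd
  haveI hKDn : (K.subgroupOf D).Normal := Subgroup.Normal.subgroupOf inferInstance D
  haveI hCEn : (C.subgroupOf E).Normal := by
    refine (Subgroup.normal_subgroupOf_iff_le_normalizer hCE).mpr (sup_le Subgroup.le_normalizer ?_)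
    exact Subgroup.zpowers_le.mpr (hnC d hdN)
  have htopD := subgroupOf_sup_zpowers hD hdD
  -- extension to `D`
  let σD : Representation ℂ (K.subgroupOf D) (Fin m → ℂ) :=
    σ.comp (Subgroup.subgroupOfEquivOfLe hKD).toMonoidHom
  haveI : σD.IsIrreducible := by
    rw [isIrreducible_iff_isIrrCharacter]
    exact isIrrCharacter_comp_equiv (Subgroup.subgroupOfEquivOfLe hKD) hθirr
  have hdfix : IsConjCharOf K d σ.character σ.character :=
    (IsOmega.right_fixed ⟨m, σ, hσ, rfl, hwσ⟩).2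
  have hafix : IsConjCharOf K a σ.character σ.character :=
    (IsOmega.left_fixed ⟨m, σ, hσ, rfl, hwσ⟩).2
  obtain ⟨ρ, hρ'⟩ := exists_extension_of_cyclic σD (fun g n =>
    invariant_of_gen htopD ((isIrreducible_iff_isIrrCharacter σD).mp inferInstance)
      (fun k => hdfix ⟨_, k.2⟩ ⟨_, (MulAut.conjNormal (⟨d, hdD⟩ : D) k).2⟩ (by simp)) g n)
    (isCyclic_quotient htopD)
  have hρ : ∀ k : K, ρ ⟨k, hKD k.2⟩ = σ k := fun k => hρ' ⟨⟨k, hKD k.2⟩, k.2⟩
  haveI hρirr : ρ.IsIrreducible := isIrreducible_of_extension hρ'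
  have hη : IsIrrCharacter D ρ.character := (isIrreducible_iff_isIrrCharacter ρ).mp hρirr
  -- operators on `D`
  have hSD : S ≤ Subgroup.normalizer (D : Set Γ) := by
    intro s hs
    refine Subgroup.mem_normalizer_iff.mpr fun z => ?_
    have key : ∀ t ∈ S, ∀ y ∈ D, t * y * t⁻¹ ∈ D := by
      intro t ht y hy
      obtain ⟨k, hk, _, ⟨i, rfl⟩, rfl⟩ := Subgroup.mem_sup_of_normal_left.mp hy
      have h1 : t * d ^ i = d ^ i * t :=
        Subgroup.mem_centralizer_iff.mp (Subgroup.zpow_mem _ hd i) t ht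
      rw [show t * (k * d ^ i) * t⁻¹ = t * k * t⁻¹ * (t * d ^ i * t⁻¹) by group, h1,
        mul_inv_cancel_right]
      exact mul_mem (hKD ((inferInstance : K.Normal).conj_mem k hk t))
        (Subgroup.mem_sup_right (Subgroup.zpow_mem_zpowers d i))
    exact ⟨key s hs z, fun h => by simpa [mul_assoc] using key s⁻¹ (inv_mem hs) _ h⟩
  have hinv : IsInvOn S D ρ.character := by
    intro s hs z z' hz
    obtain ⟨k, hk⟩ := hS ⟨s, hs⟩
    obtain ⟨e, -, he⟩ := (Nat.dvd_prime_pow hp).mp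
      (orderOf_dvd_of_pow_eq_one (show s ^ p ^ k = 1 from congrArg Subtype.val hk))
    exact extension_fixed hD hKD hdD hd' hρ (e := e) he
      (Subgroup.mem_centralizer_iff.mp hd s hs) (fun k k' hk => hθS s hs k k' hk) z z' hz
  have hEC : ∀ x, x ∈ E ↔ x ∈ D ∧ x ∈ Subgroup.centralizer (S : Set Γ) := by
    intro x
    refine ⟨fun hx => ⟨hED hx, ?_⟩, ?_⟩
    · exact (show E ≤ Subgroup.centralizer (S : Set Γ) from
        sup_le (fun c hc' => ((hC c).mp hc').2) (Subgroup.zpowers_le.mpr hd)) hx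
    · rintro ⟨hxD, hxS⟩
      obtain ⟨k, hk, _, ⟨i, rfl⟩, rfl⟩ := Subgroup.mem_sup_of_normal_left.mp hxD
      refine mul_mem (Subgroup.mem_sup_left ((hC k).mpr ⟨hk, ?_⟩))
        (Subgroup.mem_sup_right (Subgroup.zpow_mem_zpowers d i))
      have := mul_mem hxS (inv_mem (Subgroup.zpow_mem _ hd i))
      rwa [mul_inv_cancel_right] at this
  obtain ⟨e, he⟩ := IsPGroup.iff_card.mp hS
  have hcor := isCorrespondence_pGroup hp S hS D E hSD
    (he ▸ Nat.Coprime.pow_right e ((hp.coprime_iff_not_dvd).mpr hpD).symm) hED hEC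
  obtain ⟨β, hβ⟩ := hcor.exists_corr _ hη hinv
  -- `β` restricts to `φ`
  have hφ := hcorr.1
  obtain ⟨ε, hε, hallφ⟩ := hcorr.2
  obtain ⟨ε', hε', hallβ⟩ := hβ.2
  have hresirr : ∀ c : C, ρ.character (⟨c, hKD (hCK c.2)⟩ : D) = σ.character ⟨c, hCK c.2⟩ :=
    fun c => congrArg (LinearMap.trace ℂ _) (hρ ⟨c, hCK c.2⟩)
  have hβφ : classInner (fun c : C => β ⟨c, hCE c.2⟩) φ ≠ 0 := by
    intro h0
    choose ma hma using fun ψ : IrrCharacter E =>
      (hη.isCharacter.comp (Subgroup.inclusion hED)).exists_nat_classInner ψ.2.isCharacter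
    choose mb hmb using fun ψ : IrrCharacter E =>
      (ψ.2.isCharacter.comp (Subgroup.inclusion hCE)).exists_nat_classInner hφ.isCharacter
    obtain ⟨k, hk⟩ := (hθirr.isCharacter.comp (Subgroup.inclusion hCK)).exists_nat_classInner
      hφ.isCharacter
    have hk' : (k : ℂ) = ∑ ψ : IrrCharacter E, (ma ψ : ℂ) * mb ψ := by
      rw [← hk]
      have hexp : (fun c : C => σ.character (Subgroup.inclusion hCK c)) =
          ∑ ψ : IrrCharacter E, (ma ψ : ℂ) • fun c : C => (ψ : E → ℂ) ⟨c, hCE c.2⟩ := by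
        funext c
        have h := congrFun (eq_sum_classInner (hη.isCharacter.comp
          (Subgroup.inclusion hED)).isClassFunction) ⟨c, hCE c.2⟩
        simp only [Finset.sum_apply, Pi.smul_apply] at h ⊢
        refine (hresirr c).symm.trans (h.trans ?_)
        exact Finset.sum_congr rfl fun ψ _ => by rw [hma ψ]
      rw [hexp, classInner_sum_left]
      refine Finset.sum_congr rfl fun ψ _ => ?_
      rw [classInner_smul_left]
      exact congrArg _ (hmb ψ)
    have hk2 : p ∣ k := by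
      have hk3 : k = ∑ ψ : IrrCharacter E, ma ψ * mb ψ := by exact_mod_cast hk'
      rw [hk3]
      refine Finset.dvd_sum fun ψ _ => ?_
      by_cases hψ : (ψ : E → ℂ) = β
      · have h1 : (mb ψ : ℂ) = 0 := by rw [← hmb ψ, hψ]; exact h0
        rw [show mb ψ = 0 by exact_mod_cast h1, mul_zero]; exact dvd_zero p
      · exact dvd_mul_of_dvd_left ((hallβ ψ (ma ψ) ψ.2 (hma ψ)).2 hψ) _
    exact not_dvd_of_modEq_sign hp hε ((hallφ φ k hφ hk).1 rfl) hk2
  have hdC : d ∈ Subgroup.normalizer (C : Set Γ) := hnC d hdN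
  have hdφ : IsConjCharOf C d φ φ :=
    conjCharOf_corr hCK hp hθirr.isCharacter (hnK d) hdC hdfix hcorr
  have haφ : IsConjCharOf C a φ φ :=
    conjCharOf_corr hCK hp hθirr.isCharacter (hnK a) (hnC a ha) hafix hcorr
  have htopE : C.subgroupOf E ⊔ Subgroup.zpowers (⟨d, hdE⟩ : E) = ⊤ := by
    rw [eq_top_iff, ← Subgroup.map_subtype_le_map_subtype, Subgroup.map_sup,
      Subgroup.map_subgroupOf_eq_of_le hCE, MonoidHom.map_zpowers, ← MonoidHom.range_eq_map,
      Subgroup.range_subtype]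
    exact le_rfl
  -- restriction of `β`
  obtain ⟨m', σ', hσ', hφσ⟩ := hφ
  let σE : Representation ℂ (C.subgroupOf E) (Fin m' → ℂ) :=
    σ'.comp (Subgroup.subgroupOfEquivOfLe hCE).toMonoidHom
  haveI : σE.IsIrreducible := by
    rw [isIrreducible_iff_isIrrCharacter]
    exact isIrrCharacter_comp_equiv (Subgroup.subgroupOfEquivOfLe hCE) ⟨m', σ', hσ', rfl⟩
  obtain ⟨ρ', hρ''⟩ := exists_extension_of_cyclic σE (fun g n =>
    invariant_of_gen htopE ((isIrreducible_iff_isIrrCharacter σE).mp inferInstance)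
      (fun k => by
        show σ'.character ⟨_, (MulAut.conjNormal (⟨d, hdE⟩ : E) k).2⟩ = σ'.character ⟨_, k.2⟩
        rw [hφσ]
        exact hdφ _ _ (by simp)) g n)
    (isCyclic_quotient htopE)
  haveI : Fintype (C.subgroupOf E) := Fintype.ofFinite _
  have hab : ∀ x y : E, x * y * x⁻¹ * y⁻¹ ∈ C.subgroupOf E := by
    intro x y
    haveI := isCyclic_quotient htopE
    rw [← QuotientGroup.eq_one_iff]
    simp only [QuotientGroup.mk_mul, QuotientGroup.mk_inv]
    rw [IsCyclic.commGroup.mul_comm (x : E ⧸ C.subgroupOf E) (y : E ⧸ C.subgroupOf E)]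
    group
  have hρ'irr : IsIrrCharacter E ρ'.character :=
    (isIrreducible_iff_isIrrCharacter ρ').mp (isIrreducible_of_extension hρ'')
  have hσEirr := (isIrreducible_iff_isIrrCharacter σE).mp inferInstance
  have hne1 : classInner (fun n : C.subgroupOf E => ρ'.character n) σE.character ≠ 0 := by
    rw [show (fun n : C.subgroupOf E => ρ'.character n) = σE.character from
      funext fun n => congrArg (LinearMap.trace ℂ _) (hρ'' n), classInner_irr_self hσEirr]
    exact one_ne_zero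
  have hne2 : classInner (fun n : C.subgroupOf E => β n) σE.character ≠ 0 := by
    rw [show σE.character = fun n => φ (Subgroup.subgroupOfEquivOfLe hCE n) from
      funext fun n => congrFun hφσ _]
    rw [show (fun n : C.subgroupOf E => β n) =
      fun n => (fun c : C => β ⟨c, hCE c.2⟩) (Subgroup.subgroupOfEquivOfLe hCE n) from rfl]
    have h1 := classInner_comp_equiv (Subgroup.subgroupOfEquivOfLe hCE)
      (fun c : C => β ⟨c, hCE c.2⟩) φ
    exact fun h => hβφ (h1.symm.trans h)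
  obtain ⟨l, hl1, hl⟩ := exists_linear_mul_eq (C.subgroupOf E) hab hρ'irr hβ.1 hσEirr hne1 hne2
  let ρβ : Representation ℂ E (Fin m' → ℂ) :=
    { toFun := fun z => (l z : ℂ) • ρ' z
      map_one' := by simp
      map_mul' := fun x y => by rw [map_mul, map_mul, Units.val_mul, smul_mul_smul_comm] }
  have hρβ : ρβ.character = β := by
    funext z
    show LinearMap.trace ℂ _ ((l z : ℂ) • ρ' z) = _
    rw [map_smul, smul_eq_mul, hl]
    exact mul_comm _ _
  have hρβres : ∀ c : C, ρβ ⟨c, hCE c.2⟩ = σ' c := fun c => by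
    show (l _ : ℂ) • ρ' _ = _
    rw [hl1 _ c.2, Units.val_one, one_smul]
    exact hρ'' ⟨⟨c, hCE c.2⟩, c.2⟩
  -- the two twists
  obtain ⟨w', hw'⟩ := exists_isOmega (θ := φ) ⟨m', σ', hσ', hφσ⟩ (hnC a ha) hdC haφ hdφ hc
  haveI := hσ'
  have hwφ : OmegaRep σ' a d w' := hw'.omegaRep hφσ
  have had : a * d * a⁻¹ ∈ E := by
    rw [show a * d * a⁻¹ = a * d * a⁻¹ * d⁻¹ * d by group]
    exact mul_mem (hCE hc) hdE
  have haE : a ∈ Subgroup.normalizer (E : Set Γ) := by
    refine mem_normalizer_of_conj_mem fun z hz => ?_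
    have : (E.map (MulAut.conj a).toMonoidHom) ≤ E := by
      rw [hE, Subgroup.map_sup, MonoidHom.map_zpowers]
      refine sup_le ?_ (Subgroup.zpowers_le.mpr had)
      rintro _ ⟨c, hc', rfl⟩
      exact hCE ((Subgroup.mem_normalizer_iff.mp (hnC a ha) c).mp hc')
    exact this ⟨z, hz, rfl⟩
  have haD : a ∈ Subgroup.normalizer (D : Set Γ) := by
    refine mem_normalizer_of_conj_mem fun z hz => ?_
    have : (D.map (MulAut.conj a).toMonoidHom) ≤ D := by
      rw [hD, Subgroup.map_sup, MonoidHom.map_zpowers]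
      refine sup_le ?_ (Subgroup.zpowers_le.mpr (hED had))
      rintro _ ⟨c, hc', rfl⟩
      exact hKD ((inferInstance : K.Normal).conj_mem c hc' a)
    exact this ⟨z, hz, rfl⟩
  obtain ⟨l1, hl1K, hl1d, hl1χ⟩ := exists_linear_twist hKD hρ hdD haD hwσ
  obtain ⟨l2, hl2C, hl2d, hl2χ⟩ := exists_linear_twist hCE hρβres hdE haE hwφ
  have hcorr2 : HasCorr (Subgroup.inclusion hED) p
      (fun z => ρ.character (twistEquiv D haD z)) (fun z => β (twistEquiv E haE z)) :=
    hasCorr_twist hED haD haE hβ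
  have hcorr3 : HasCorr (Subgroup.inclusion hED) p
      (fun z => ρ.character z * (l1 z : ℂ)) (fun z => β z * (l1 (Subgroup.inclusion hED z) : ℂ)) :=
    hasCorr_mul_linear l1 hβ
  rw [show (fun z => ρ.character (twistEquiv D haD z)) = fun z => ρ.character z * (l1 z : ℂ) from
    funext hl1χ] at hcorr2
  have hkey := hcorr2.eq_of_not_dvd hp
    (isIrrCharacter_mul_linear hη l1).isCharacter hcorr3
  -- a point of the coset where `β` does not vanish
  obtain ⟨c, hc0⟩ : ∃ c : C, β (⟨d, hdE⟩ * ⟨c, hCE c.2⟩) ≠ 0 := by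
    by_contra hall
    push Not at hall
    have h := sum_trace_mul_trace_inv σ' (ρβ ⟨d, hdE⟩) (ρβ ⟨d, hdE⟩⁻¹)
      (by rw [← map_mul, mul_inv_cancel, map_one])
    rw [Finset.sum_eq_zero] at h
    · exact Nat.cast_ne_zero.mpr (Nat.card_pos (α := C)).ne' h.symm
    · intro k _
      have := hall k
      rw [← hρβ] at this
      refine mul_eq_zero_of_left ?_ _
      rw [← hρβres k, ← map_mul ρβ]
      exact this
  have h1 := congrFun hkey (⟨d, hdE⟩ * ⟨c, hCE c.2⟩)
  have h2 := hl2χ (⟨d, hdE⟩ * ⟨c, hCE c.2⟩)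
  rw [hρβ] at h2
  have hval : (l1 (Subgroup.inclusion hED (⟨d, hdE⟩ * ⟨c, hCE c.2⟩)) : ℂ) =
      (l2 (⟨d, hdE⟩ * ⟨c, hCE c.2⟩) : ℂ) := mul_left_cancel₀ hc0 (h1.symm.trans h2)
  rw [map_mul, map_mul, map_mul, hl1K (Subgroup.inclusion hED ⟨c, hCE c.2⟩) (hCK c.2),
    hl2C ⟨c, hCE c.2⟩ c.2, mul_one, mul_one,
    show Subgroup.inclusion hED ⟨d, hdE⟩ = ⟨d, hdD⟩ from rfl, hl1d, hl2d] at hval
  have hww : w = w' := inv_injective (Units.ext hval)
  rw [hww]
  exact hw'

end Cfsg.Lib.Char.RelMcKay
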