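import Cfsg.Agent.Lib.Char.RelMcKay.Orbits
import Cfsg.Agent.Lib.Core.PSolvable

/-!
# The count over an invariant character in a `p`-solvable group
-/

set_option autoImplicit false
set_option linter.unusedSectionVars false
set_option linter.style.haveILetI false

namespace Cfsg.Lib.Char.RelMcKay

open Cfsg
open Cfsg.Lib.Char
open scoped ComplexConjugate

universe u

variable {G : Type u} [Group G] [Finite G]

/-- Counting inside a subgroup of a subgroup. -/
theorem cntIn_sub (p : ℕ) (L U V : Subgroup G) (ν : L → ℂ) :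
    cntIn p (L.subgroupOf V) (resTo L ν V) (U.subgroupOf V) = cntIn p L ν (U ⊓ V) := by
  let e : U.subgroupOf V ≃* ↥(U ⊓ V) :=
    { toFun := fun x => ⟨((x : V) : G), ⟨x.2, (x : V).2⟩⟩
      invFun := fun y => ⟨⟨(y : G), y.2.2⟩, y.2.1⟩
      left_inv := fun _ => rfl
      right_inv := fun _ => rfl
      map_mul' := fun _ _ => rfl }
  exact cnt_congr p e _ _ (fun _ => Iff.rfl) _ _ fun _ => rfl

/-- The Clifford correspondence keeps the count when the inertia group has index prime to `p`. -/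
theorem cnt_inertia {p : ℕ} [hpf : Fact p.Prime] (L : Subgroup G) [L.Normal] {ν : L → ℂ}
    (hν : IsIrrCharacter L ν) {T : Subgroup G} (hTmem : ∀ g, g ∈ T ↔ conjTwist L ν g = ν)
    (hidx : ¬ p ∣ T.index) :
    cnt p L ν = cntIn p L ν T := by
  classical
  haveI := Fintype.ofFinite G
  haveI := Fintype.ofFinite L
  haveI := Fintype.ofFinite T
  haveI := Fintype.ofFinite (L.subgroupOf T)
  have hp := hpf.out
  have hT : T = inertia L ν := SetLike.ext hTmem
  have hLT : L ≤ T := hT ▸ le_inertia L hν.isClassFunction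
  have hov : ∀ ψ : T → ℂ, Over (L.subgroupOf T) (resTo L ν T) ψ ↔
      classInner (fun h : L => ψ ⟨h, hLT h.2⟩) ν ≠ 0 := fun ψ => by
    rw [over_iff, classInner_resTo L ν hLT]
  have hirr : ∀ {ψ : T → ℂ}, IsIrrCharacter T ψ → Over (L.subgroupOf T) (resTo L ν T) ψ →
      IsIrrCharacter G (indFun T ψ) ∧ Over L ν (indFun T ψ) := by
    intro ψ hψ ho
    rw [hov] at ho
    obtain ⟨h1, h2⟩ := clifford_induce L hν hLT hT hψ ho
    exact ⟨h1, by rw [over_iff, h2]; exact ho⟩
  have hdeg : ∀ {ψ : T → ℂ}, IsIrrCharacter T ψ →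
      charDegree (indFun T ψ) = T.index * charDegree ψ := fun hψ =>
    charDegree_of_eq (by rw [indFun_apply_one, ← charDegree_cast hψ]; push_cast; rfl)
  symm
  refine Nat.card_congr (Equiv.ofBijective (fun ψ => ⟨⟨_, (hirr ψ.1.2 ψ.2.2).1⟩, ?_,
    (hirr ψ.1.2 ψ.2.2).2⟩) ⟨?_, ?_⟩)
  · show ¬ p ∣ charDegree (indFun T _)
    rw [hdeg ψ.1.2, hp.dvd_mul, not_or]
    exact ⟨hidx, ψ.2.1⟩
  · intro a b hab
    refine Subtype.ext (Subtype.ext (clifford_injective L hν hLT hT a.1.2 b.1.2
      ((hov _).mp a.2.2) ((hov _).mp b.2.2) ?_))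
    exact congrArg Subtype.val (congrArg Subtype.val hab)
  · rintro ⟨χ, hχd, hχo⟩
    rw [over_iff] at hχo
    obtain ⟨ψ, hψ, hc, heq, -⟩ := clifford_exists L hν hLT hT χ.2 hχo
    refine ⟨⟨⟨ψ, hψ⟩, fun hd => hχd ?_, (hov ψ).mpr hc⟩, Subtype.ext (Subtype.ext heq)⟩
    rw [← heq, hdeg hψ]
    exact hd.mul_left _

/-- Reducing the count to the normalizer of `K ⊔ S` through the fixed characters of `K`. -/
theorem cnt_eq_of_fixed {p : ℕ} [Fact p.Prime] (L K S : Subgroup G) [L.Normal] [K.Normal]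
    (hLK : L ≤ K) (hS : IsPGroup p S) (hSidx : ¬ p ∣ S.index) {ν : L → ℂ}
    (hν : IsIrrCharacter L ν) (hinv : ∀ g, conjTwist L ν g = ν) {X : Subgroup G}
    (hX : X = Subgroup.normalizer ((K ⊔ S : Subgroup G) : Set G))
    (hfix : ∀ θ : K → ℂ, IsIrrCharacter K θ → (∀ s ∈ S, conjTwist K θ s = θ) →
      cnt p K θ = cntIn p K θ X) :
    cnt p L ν = cntIn p L ν X := by
  classical
  haveI := Fintype.ofFinite G
  haveI := Fintype.ofFinite X
  haveI := Fintype.ofFinite K
  haveI := Fintype.ofFinite (K.subgroupOf X)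
  have hKSX : K ⊔ S ≤ X := hX ▸ Subgroup.le_normalizer
  have hKX : K ≤ X := le_sup_left.trans hKSX
  have hSX : S ≤ X := le_sup_right.trans hKSX
  have hLX : L ≤ X := hLK.trans hKX
  set L' := L.subgroupOf X
  set K' := K.subgroupOf X
  set S' := S.subgroupOf X
  have hX' : Subgroup.normalizer ((K' ⊔ S' : Subgroup X) : Set X) = ⊤ := by
    rw [← Subgroup.subgroupOf_sup hKX hSX, ← Subgroup.subgroupOf_normalizer_eq hKSX, ← hX,
      Subgroup.subgroupOf_self]
  have hS'idx : ¬ p ∣ S'.index := fun h =>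
    hSidx (h.trans ⟨X.index, (Subgroup.relIndex_mul_index hSX).symm⟩)
  have hS' : IsPGroup p S' := hS.of_equiv (Subgroup.subgroupOfEquivOfLe hSX).symm
  let eK := Subgroup.subgroupOfEquivOfLe hKX
  let e : IrrCharacter K ≃ IrrCharacter K' :=
    { toFun := fun θ => ⟨resTo K (θ : K → ℂ) X, resTo_irr hKX θ.2⟩
      invFun := fun η => ⟨fun k => (η : K' → ℂ) (eK.symm k), isIrrCharacter_comp_equiv eK.symm η.2⟩
      left_inv := fun θ => Subtype.ext (funext fun k => rfl)
      right_inv := fun η => Subtype.ext (funext fun k => rfl) }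
  have hinj : Function.Injective (fun f : K → ℂ => resTo K f X) := fun f f' h =>
    funext fun k => congrFun h ⟨⟨k, hKX k.2⟩, k.2⟩
  have htw : ∀ (f : K → ℂ) (x : X),
      conjTwist K' (resTo K f X) x = resTo K (conjTwist K f x) X := fun _ _ => rfl
  have hmain := cnt_orbit_sum L' K' S' (fun _ hx => hLK hx) hS' hS'idx (resTo_irr hLX hν)
    (fun x => funext fun z =>
      congrFun (hinv (x : G)) ⟨(z : X), Subgroup.mem_subgroupOf.mp z.2⟩)
  have key : (cnt p L ν : ℚ) = (cntIn p L ν X : ℚ) := by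
    rw [cnt_orbit_sum L K S hLK hS hSidx hν hinv, ← hX, cntIn, hmain, hX']
    refine Finset.sum_equiv e (fun θ => ?_) fun θ hθ => ?_
    · rw [mem_fixedOver, mem_fixedOver]
      refine and_congr ?_ ?_
      · refine Iff.not (Eq.congr_left ?_)
        refine finsum_eq_of_bijective
          (fun z => (⟨⟨⟨((z : K) : G), hKX (z : K).2⟩, (z : K).2⟩, z.2⟩ : L'.subgroupOf K'))
          ⟨fun a b h => ?_, fun y => ⟨⟨⟨((y : K') : X), (y : K').2⟩, y.2⟩, rfl⟩⟩ fun z => rfl
        exact Subtype.ext (Subtype.ext (congrArg (fun w : L'.subgroupOf K' => ((w : K') : X).1) h))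
      · constructor
        · intro h x hx
          exact (htw _ x).trans (congrArg (fun f => resTo K f X) (h x hx))
        · intro h s hs
          exact hinj ((htw _ ⟨s, hSX hs⟩).symm.trans (h ⟨s, hSX hs⟩ hs))
    · rw [hfix (θ : K → ℂ) θ.2 (mem_fixedOver.mp hθ).2]
      congr 2
      rw [show orbOn K' ⊤ (e θ : K' → ℂ) = (fun f : K → ℂ => resTo K f X) '' orbOn K X (θ : K → ℂ) from ?_,
        Set.ncard_image_of_injective _ hinj]
      ext f
      constructor
      · rintro ⟨x, -, rfl⟩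
        exact ⟨_, ⟨x, x.2, rfl⟩, (htw _ x).symm⟩
      · rintro ⟨_, ⟨x, hx, rfl⟩, rfl⟩
        exact ⟨⟨x, hx⟩, Subgroup.mem_top _, htw _ ⟨x, hx⟩⟩
  exact_mod_cast key

/-- The relative McKay count in a `p`-solvable group. -/
theorem relMcKay_aux {p : ℕ} [hpf : Fact p.Prime] (n : ℕ) :
    ∀ (G : Type u) [Group G] [Finite G] (L S : Subgroup G) [L.Normal] (ν : L → ℂ),
      L.index = n → Cfsg.IsPSolvable p G → IsPGroup p S → ¬ p ∣ S.index → IsIrrCharacter L ν →
      (∀ s ∈ S, conjTwist L ν s = ν) →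
      cnt p L ν = cntIn p L ν (Subgroup.normalizer ((L ⊔ S : Subgroup G) : Set G)) := by
  induction n using Nat.strong_induction_on with
  | _ n ih =>
  intro G _ _ L S _ ν hn hG hS hSidx hν hfix
  classical
  haveI := Fintype.ofFinite G
  have hp := hpf.out
  set P := L ⊔ S with hP
  set N := Subgroup.normalizer (P : Set G) with hN
  have hPN : P ≤ N := Subgroup.le_normalizer
  have hLN : L ≤ N := le_sup_left.trans hPN
  have hSN : S ≤ N := le_sup_right.trans hPN
  have ih_sub : ∀ V : Subgroup G, L ≤ V → S ≤ V → V ≠ ⊤ →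
      cntIn p L ν V = cntIn p L ν (N ⊓ V) := by
    intro V hLV hSV hV
    have hlt : (L.subgroupOf V).index < n := by
      rw [← hn, ← Subgroup.relIndex_mul_index hLV]
      exact lt_mul_of_one_lt_right (Nat.pos_of_ne_zero Subgroup.index_ne_zero_of_finite)
        (V.one_lt_index_of_ne_top hV)
    have h := ih _ hlt V (L.subgroupOf V) (S.subgroupOf V) (resTo L ν V) rfl
      (Cfsg.Lib.Core.isPSolvable_subgroup hG V) (hS.of_equiv (Subgroup.subgroupOfEquivOfLe hSV).symm)
      (fun h => hSidx (h.trans ⟨V.index, (Subgroup.relIndex_mul_index hSV).symm⟩))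
      (resTo_irr hLV hν)
      (fun s hs => funext fun z =>
        congrFun (hfix (s : G) hs) ⟨(z : V), Subgroup.mem_subgroupOf.mp z.2⟩)
    rwa [← Subgroup.subgroupOf_sup hLV hSV,
      ← Subgroup.subgroupOf_normalizer_eq (sup_le hLV hSV), cntIn_sub] at h
  have hST : S ≤ inertia L ν := fun s hs => (mem_inertia L).mpr (hfix s hs)
  have hidx_of : ∀ V : Subgroup G, S ≤ V → ¬ p ∣ V.index := fun V hV h =>
    hSidx (h.trans (Subgroup.index_dvd_of_le hV))
  by_cases hT : inertia L ν = ⊤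
  swap
  · set T := inertia L ν with hTdef
    haveI := Fintype.ofFinite N
    rw [cnt_inertia L hν (T := T) (fun g => mem_inertia L) (hidx_of T hST),
      ih_sub T (hTdef ▸ le_inertia L hν.isClassFunction) hST hT, inf_comm, ← cntIn_sub]
    refine Eq.trans (cnt_inertia (L.subgroupOf N) (resTo_irr hLN hν) ?_ ?_).symm rfl
    · intro x
      rw [Subgroup.mem_subgroupOf, hTdef, mem_inertia]
      constructor
      · intro h
        exact funext fun z => congrFun h ⟨(z : N), Subgroup.mem_subgroupOf.mp z.2⟩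
      · intro h
        exact funext fun z => congrFun h ⟨⟨z, hLN z.2⟩, z.2⟩
    · intro h
      exact hSidx ((h.trans (Subgroup.relIndex_dvd_of_le_left N hST)).trans
        ⟨N.index, (Subgroup.relIndex_mul_index hSN).symm⟩)
  have hinv : ∀ g, conjTwist L ν g = ν := fun g =>
    (mem_inertia L).mp (hT ▸ Subgroup.mem_top g)
  by_cases hNtop : N = ⊤
  · rw [hNtop, cntIn_top]
  -- a normal section over `L`
  obtain ⟨k, H, hH0, hHlast, hHmono, hHn, hHfac⟩ := hG
  obtain ⟨i, hi, hi'⟩ : ∃ i : Fin k, H i.castSucc ≤ L ∧ ¬ H i.succ ≤ L := by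
    by_contra hcon
    push Not at hcon
    have hall : ∀ j, H j ≤ L := fun j => Fin.induction (hH0 ▸ bot_le) (fun i h => hcon i h) j
    refine hNtop ?_
    have hLtop : L = ⊤ := top_le_iff.mp (hHlast ▸ hall (Fin.last k))
    rw [hN, Subgroup.normalizer_eq_top_iff]
    rw [hP, hLtop, top_sup_eq]
    infer_instance
  haveI := hHn i.succ
  set K := L ⊔ H i.succ with hK
  have hLK : L ≤ K := le_sup_left
  have hrel : L.relIndex K ∣ (H i.castSucc).relIndex (H i.succ) := by
    rw [hK, Subgroup.relIndex_sup_left]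
    exact Subgroup.relIndex_dvd_of_le_left _ hi
  have hKlt : K.index < n := by
    rw [← hn, ← Subgroup.relIndex_mul_index hLK]
    refine lt_mul_of_one_lt_left (Nat.pos_of_ne_zero Subgroup.index_ne_zero_of_finite) ?_
    have h1 : L.relIndex K ≠ 1 := fun h => hi' (le_sup_right.trans (Subgroup.relIndex_eq_one.mp h))
    have h2 : L.relIndex K ≠ 0 := Subgroup.index_ne_zero_of_finite
    omega
  set X := Subgroup.normalizer ((K ⊔ S : Subgroup G) : Set G) with hX
  have hKPS : K ⊔ P = K ⊔ S := by rw [hP, ← sup_assoc, sup_eq_left.mpr hLK]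
  have hNX : N ≤ X := by rw [hX, ← hKPS]; exact normalizer_le_sup K P
  by_cases hXtop : X = ⊤
  · have hKS : (K ⊔ S).Normal := Subgroup.normalizer_eq_top_iff.mp hXtop
    rcases hHfac i with ⟨m, hm⟩ | hco
    · refine absurd ?_ hNtop
      rw [hN, Subgroup.normalizer_eq_top_iff]
      have h1 : P.relIndex (K ⊔ P) = 1 := by
        refine Nat.eq_one_of_dvd_coprimes (a := p ^ m) (b := S.index) ?_ ?_ ?_
        · exact Nat.Coprime.pow_left m ((hp.coprime_iff_not_dvd).mpr hSidx)
        · rw [relIndex_sup_eq, ← hm]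
          exact (Subgroup.relIndex_dvd_of_le_left K le_sup_left).trans hrel
        · exact (Subgroup.relIndex_dvd_of_le_left _ le_sup_right).trans
            ⟨(K ⊔ P).index, (Subgroup.relIndex_mul_index (le_sup_right.trans le_sup_right)).symm⟩
      have h2 : P = K ⊔ S := by
        rw [← hKPS]
        exact le_antisymm le_sup_right (Subgroup.relIndex_eq_one.mp h1)
      rw [h2]
      exact hKS
    · refine step_pPrime K L S hν hinv hLK (fun h => ?_) hS hSidx hKS
      exact hp.ne_one (Nat.eq_one_of_dvd_coprimes hco (h.trans hrel) dvd_rfl)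
  have hKX : K ≤ X := le_sup_left.trans Subgroup.le_normalizer
  rw [cnt_eq_of_fixed L K S hLK hS hSidx hν hinv hX fun θ hθ hθS =>
      ih _ hKlt G K S θ rfl ⟨k, H, hH0, hHlast, hHmono, hHn, hHfac⟩ hS hSidx hθ hθS,
    ih_sub X (hLK.trans hKX) (hSN.trans hNX) hXtop, inf_eq_left.mpr hNX]

/-- The relative McKay count in a `p`-solvable group. -/
theorem relMcKay {p : ℕ} [Fact p.Prime] (hG : Cfsg.IsPSolvable p G) (L S : Subgroup G) [L.Normal]
    (hS : IsPGroup p S) (hSidx : ¬ p ∣ S.index) {ν : L → ℂ} (hν : IsIrrCharacter L ν)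
    (hfix : ∀ s ∈ S, conjTwist L ν s = ν) :
    cnt p L ν = cntIn p L ν (Subgroup.normalizer ((L ⊔ S : Subgroup G) : Set G)) :=
  relMcKay_aux L.index G L S ν rfl hG hS hSidx hν hfix

end Cfsg.Lib.Char.RelMcKay
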