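import Cfsg.Agent.Lib.Char.GlaubermanP
import Cfsg.Agent.Lib.Char.ExtGroup
import Cfsg.Agent.Lib.Char.Extension
import Cfsg.Prelude.Def_BlockLocal

/-!
# The commutator scalar of two elements fixing a character

For a subgroup `N` and two elements `a`, `b` normalising `N`, fixing an irreducible character `θ`
of `N` and with `[a, b] ∈ N`, the operators realising `a` and `b` on a representation of `θ` have
a commutator which is a scalar multiple of the operator of `[a, b]`.  This scalar is `omega θ a b`.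
-/

set_option autoImplicit false
set_option linter.unusedSectionVars false
set_option linter.style.haveILetI false

namespace Cfsg.Lib.Char.RelMcKay

open Cfsg Module
open Cfsg.Lib.Char

universe u v

variable {G : Type u} [Group G] {N : Subgroup G} {m : ℕ}

/-- The endomorphisms of the coordinate space. -/
abbrev Op (m : ℕ) : Type := Module.End ℂ (Fin m → ℂ)

/-- A scalar as an invertible operator. -/
def scalarU {m : ℕ} : ℂˣ →* (Op m)ˣ := Units.map (algebraMap ℂ (Op m)).toMonoidHom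

theorem coe_scalarU (c : ℂˣ) : ((scalarU c : (Op m)ˣ) : Op m) = (c : ℂ) • 1 :=
  Algebra.algebraMap_eq_smul_one _

theorem scalarU_comm (c : ℂˣ) (A : (Op m)ˣ) : scalarU c * A = A * scalarU c :=
  Units.ext (Algebra.commutes (c : ℂ) (A : Op m))

theorem scalarU_injective (hm : 0 < m) : Function.Injective (scalarU (m := m)) := by
  intro a b h
  haveI : NeZero m := ⟨hm.ne'⟩
  have h1 : ((a : ℂ) • (1 : Op m)) = (b : ℂ) • 1 := by rw [← coe_scalarU, ← coe_scalarU, h]
  exact Units.ext (smul_one_injective h1)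

/-- `A` intertwines `σ` with its conjugate by `g`. -/
def IsLift (σ : Representation ℂ N (Fin m → ℂ)) (g : G) (A : (Op m)ˣ) : Prop :=
  g ∈ Subgroup.normalizer (N : Set G) ∧
    ∀ n n' : N, (n' : G) = g * n * g⁻¹ → (A : Op m) * σ n = σ n' * (A : Op m)

variable {σ : Representation ℂ N (Fin m → ℂ)} {g h : G} {A B : (Op m)ˣ}

theorem IsLift.apply (hA : IsLift σ g A) {n n' : N} (hn : (n' : G) = g * n * g⁻¹) :
    A * σ.toHomUnits n = σ.toHomUnits n' * A :=
  Units.ext (by simpa using hA.2 n n' hn)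

theorem IsLift.mul (hA : IsLift σ g A) (hB : IsLift σ h B) : IsLift σ (g * h) (A * B) := by
  refine ⟨mul_mem hA.1 hB.1, fun n n' hn => ?_⟩
  rw [Units.val_mul, mul_assoc, hB.2 n (twistEquiv N hB.1 n) (coe_twistEquiv N hB.1 n), ← mul_assoc,
    hA.2 _ n' (by rw [coe_twistEquiv, hn]; group), mul_assoc]

theorem IsLift.inv (hA : IsLift σ g A) : IsLift σ g⁻¹ A⁻¹ := by
  refine ⟨inv_mem hA.1, fun n n' hn => ?_⟩
  have h1 := hA.2 n' n (by rw [hn]; group)
  rw [← Units.mul_right_inj A, ← mul_assoc, Units.mul_inv, one_mul, ← mul_assoc, h1, mul_assoc,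
    Units.mul_inv, mul_one]

theorem IsLift.graph (n : N) : IsLift σ (n : G) (σ.toHomUnits n) := by
  refine ⟨Subgroup.le_normalizer n.2, fun k k' hk => ?_⟩
  simp only [MonoidHom.coe_toHomUnits]
  rw [← map_mul, ← map_mul]
  exact congrArg σ (Subtype.ext (by simp only [Subgroup.coe_mul, hk]; group))

theorem IsLift.scalar_mul (hA : IsLift σ g A) (c : ℂˣ) : IsLift σ g (scalarU c * A) := by
  refine ⟨hA.1, fun n n' hn => ?_⟩
  rw [Units.val_mul, coe_scalarU, smul_one_mul, smul_mul_assoc, hA.2 n n' hn, mul_smul_comm]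

theorem IsLift.pow (hA : IsLift σ g A) (k : ℕ) : IsLift σ (g ^ k) (A ^ k) := by
  induction k with
  | zero =>
    have := IsLift.graph (σ := σ) 1
    simpa using this
  | succ k ih => rw [pow_succ, pow_succ]; exact ih.mul hA

/-- The lifts of one element differ by scalars. -/
theorem IsLift.unique [hirr : σ.IsIrreducible] (hA : IsLift σ g A) (hB : IsLift σ g B) :
    ∃ c : ℂˣ, B = scalarU c * A := by
  have h1 := hA.inv.mul hB
  rw [inv_mul_cancel] at h1
  obtain ⟨c, hc⟩ := exists_smul_of_comm σ ((A⁻¹ * B : (Op m)ˣ) : Op m)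
    fun n => h1.2 n n (by group)
  have hc0 : c ≠ 0 := by
    intro h0
    rw [h0, zero_smul] at hc
    haveI : Nontrivial (Op m) := by
      haveI : NeZero m := ⟨by
        have := irreducible_finrank_pos σ; rw [Module.finrank_fin_fun] at this; exact this.ne'⟩
      exact inferInstance
    exact (A⁻¹ * B).ne_zero hc
  refine ⟨Units.mk0 c hc0, ?_⟩
  have h2 : A⁻¹ * B = scalarU (Units.mk0 c hc0) := Units.ext (by rw [hc, coe_scalarU]; rfl)
  rw [scalarU_comm, ← h2, mul_inv_cancel_left]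

theorem IsLift.character_eq (hA : IsLift σ g A) {n n' : N} (hn : (n' : G) = g * n * g⁻¹) :
    σ.character n' = σ.character n := by
  show LinearMap.trace ℂ _ (σ n') = LinearMap.trace ℂ _ (σ n)
  have h1 : σ n' = (A : Op m) * σ n * ((A⁻¹ : (Op m)ˣ) : Op m) := by
    rw [hA.2 n n' hn, mul_assoc, Units.mul_inv, mul_one]
  rw [h1, LinearMap.trace_mul_comm, ← mul_assoc, Units.inv_mul, one_mul]

theorem exists_lift [Finite N] (hirr : σ.IsIrreducible) (hg : g ∈ Subgroup.normalizer (N : Set G))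
    (hfix : ∀ n n' : N, (n' : G) = g * n * g⁻¹ → σ.character n' = σ.character n) :
    ∃ A : (Op m)ˣ, IsLift σ g A := by
  obtain ⟨φ⟩ := nonempty_equiv_of_character_eq σ (σ.comp (twistEquiv N hg).toMonoidHom)
    (funext fun n => (hfix n _ (coe_twistEquiv N hg n)).symm)
  let A : (Op m)ˣ :=
    { val := φ.toLinearEquiv.toLinearMap
      inv := φ.toLinearEquiv.symm.toLinearMap
      val_inv := LinearMap.ext fun x => φ.toLinearEquiv.apply_symm_apply x
      inv_val := LinearMap.ext fun x => φ.toLinearEquiv.symm_apply_apply x }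
  refine ⟨A, hg, fun n n' hn => ?_⟩
  rw [show n' = twistEquiv N hg n from Subtype.ext hn]
  exact φ.toIntertwiningMap.isIntertwining' n

/-- The scalar of two lifts. -/
def OmegaRep (σ : Representation ℂ N (Fin m → ℂ)) (a b : G) (w : ℂˣ) : Prop :=
  ∃ A B : (Op m)ˣ, IsLift σ a A ∧ IsLift σ b B ∧ ∃ n : N, (n : G) = a * b * a⁻¹ * b⁻¹ ∧
    A * B * A⁻¹ * B⁻¹ = scalarU w * σ.toHomUnits n

theorem comm_scalar (c d : ℂˣ) (A B : (Op m)ˣ) :
    scalarU c * A * (scalarU d * B) * (scalarU c * A)⁻¹ * (scalarU d * B)⁻¹ =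
      A * B * A⁻¹ * B⁻¹ := by
  have hc : ∀ X : (Op m)ˣ, scalarU c * X = X * scalarU c := scalarU_comm c
  have hd : ∀ X : (Op m)ˣ, scalarU d * X = X * scalarU d := scalarU_comm d
  have hc' : ∀ X : (Op m)ˣ, (scalarU c)⁻¹ * X = X * (scalarU c)⁻¹ := fun X => by
    rw [← map_inv, scalarU_comm]
  rw [mul_inv_rev, mul_inv_rev]
  calc scalarU c * A * (scalarU d * B) * (A⁻¹ * (scalarU c)⁻¹) * (B⁻¹ * (scalarU d)⁻¹)
      = scalarU c * ((scalarU c)⁻¹ * (A * (scalarU d * B) * A⁻¹)) * (B⁻¹ * (scalarU d)⁻¹) := by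
        rw [hc']; simp only [mul_assoc]
    _ = A * (scalarU d * (B * A⁻¹ * B⁻¹)) * (scalarU d)⁻¹ := by
        rw [mul_inv_cancel_left]; simp only [mul_assoc]
    _ = _ := by rw [hd]; simp only [mul_assoc, mul_inv_cancel, mul_one]

/-- Lifts may be chosen freely. -/
theorem OmegaRep.eq_lifts [hirr : σ.IsIrreducible] {a b : G} {w : ℂˣ} (h : OmegaRep σ a b w)
    (hA : IsLift σ a A) (hB : IsLift σ b B) {n : N} (hn : (n : G) = a * b * a⁻¹ * b⁻¹) :
    A * B * A⁻¹ * B⁻¹ = scalarU w * σ.toHomUnits n := by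
  obtain ⟨A', B', hA', hB', n', hn', heq⟩ := h
  obtain ⟨c, rfl⟩ := hA'.unique hA
  obtain ⟨d, rfl⟩ := hB'.unique hB
  rw [comm_scalar, heq, show n' = n from Subtype.ext (hn'.trans hn.symm)]

theorem OmegaRep.unique [hirr : σ.IsIrreducible] {a b : G} {w w' : ℂˣ} (h : OmegaRep σ a b w)
    (h' : OmegaRep σ a b w') : w = w' := by
  obtain ⟨A, B, hA, hB, n, hn, heq⟩ := h'
  have h1 := h.eq_lifts hA hB hn
  rw [heq] at h1
  exact scalarU_injective (by
    have := irreducible_finrank_pos σ; rwa [Module.finrank_fin_fun] at this) (mul_right_cancel h1).symm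

theorem OmegaRep.exists_of [Finite N] (hirr : σ.IsIrreducible) {a b : G} (hA : IsLift σ a A)
    (hB : IsLift σ b B) (hc : a * b * a⁻¹ * b⁻¹ ∈ N) : ∃ w, OmegaRep σ a b w := by
  obtain ⟨c, hc'⟩ := (IsLift.graph (σ := σ) ⟨_, hc⟩).unique (((hA.mul hB).mul hA.inv).mul hB.inv)
  exact ⟨c, A, B, hA, hB, ⟨_, hc⟩, rfl, hc'⟩

/-- The scalar attached to a character. -/
def IsOmega (θ : N → ℂ) (a b : G) (w : ℂˣ) : Prop :=
  ∃ (m : ℕ) (σ : Representation ℂ N (Fin m → ℂ)), σ.IsIrreducible ∧ σ.character = θ ∧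
    OmegaRep σ a b w

variable {θ : N → ℂ} {a b : G} {w : ℂˣ}

theorem IsOmega.isIrr (h : IsOmega θ a b w) : IsIrrCharacter N θ := by
  obtain ⟨m, σ, hσ, rfl, -⟩ := h
  exact ⟨m, σ, hσ, rfl⟩

/-- Any representation with the same character gives the same scalar. -/
theorem IsOmega.omegaRep [Finite N] (h : IsOmega θ a b w) {m : ℕ}
    {σ : Representation ℂ N (Fin m → ℂ)} (hσ : σ.character = θ) : OmegaRep σ a b w := by
  obtain ⟨m', σ', hσ', hθ, A, B, hA, hB, n, hn, heq⟩ := h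
  have hm : m' = m := by
    have h1 := congrFun (hθ.trans hσ.symm) 1
    rw [Representation.char_one, Representation.char_one, Module.finrank_fin_fun,
      Module.finrank_fin_fun] at h1
    exact_mod_cast h1
  subst hm
  obtain ⟨φ⟩ := nonempty_equiv_of_character_eq σ' σ (hθ.trans hσ.symm)
  let P : (Op m')ˣ :=
    { val := φ.toLinearEquiv.toLinearMap
      inv := φ.toLinearEquiv.symm.toLinearMap
      val_inv := LinearMap.ext fun x => φ.toLinearEquiv.apply_symm_apply x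
      inv_val := LinearMap.ext fun x => φ.toLinearEquiv.symm_apply_apply x }
  have hP : ∀ k, P * σ'.toHomUnits k = σ.toHomUnits k * P := fun k => Units.ext (
    φ.toIntertwiningMap.isIntertwining' k)
  have hlift : ∀ (x : G) (X : (Op m')ˣ), IsLift σ' x X → IsLift σ x (P * X * P⁻¹) := by
    refine fun x X hX => ⟨hX.1, fun k k' hk => ?_⟩
    have h1 : P * X * P⁻¹ * σ.toHomUnits k = σ.toHomUnits k' * (P * X * P⁻¹) := by
      have h2 : P⁻¹ * σ.toHomUnits k = σ'.toHomUnits k * P⁻¹ := by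
        rw [eq_mul_inv_iff_mul_eq, mul_assoc, ← hP, inv_mul_cancel_left]
      rw [mul_assoc, h2, ← mul_assoc, mul_assoc P, hX.apply hk, ← mul_assoc, hP]
      simp only [mul_assoc]
    simpa using congrArg Units.val h1
  refine ⟨_, _, hlift a A hA, hlift b B hB, n, hn, ?_⟩
  calc P * A * P⁻¹ * (P * B * P⁻¹) * (P * A * P⁻¹)⁻¹ * (P * B * P⁻¹)⁻¹
      = P * (A * B * A⁻¹ * B⁻¹) * P⁻¹ := by group
    _ = scalarU w * σ.toHomUnits n := by
        rw [heq, ← mul_assoc, ← scalarU_comm, mul_assoc (scalarU w), hP, mul_assoc, mul_inv_cancel_right]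

theorem IsOmega.unique [Finite N] {w' : ℂˣ} (h : IsOmega θ a b w) (h' : IsOmega θ a b w') :
    w = w' := by
  obtain ⟨m, σ, hσ, hθ, h1⟩ := h
  exact h1.unique (h'.omegaRep hθ)

theorem IsOmega.comm_mem (h : IsOmega θ a b w) : a * b * a⁻¹ * b⁻¹ ∈ N := by
  obtain ⟨m, σ, hσ, hθ, A, B, hA, hB, n, hn, -⟩ := h
  exact hn ▸ n.2

theorem IsOmega.left_fixed (h : IsOmega θ a b w) :
    a ∈ Subgroup.normalizer (N : Set G) ∧ IsConjCharOf N a θ θ := by
  obtain ⟨m, σ, hσ, rfl, A, B, hA, hB, -⟩ := h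
  exact ⟨hA.1, fun n n' hn => hA.character_eq hn⟩

theorem IsOmega.right_fixed (h : IsOmega θ a b w) :
    b ∈ Subgroup.normalizer (N : Set G) ∧ IsConjCharOf N b θ θ := by
  obtain ⟨m, σ, hσ, rfl, A, B, hA, hB, -⟩ := h
  exact ⟨hB.1, fun n n' hn => hB.character_eq hn⟩

theorem exists_isOmega [Finite N] (hθ : IsIrrCharacter N θ)
    (ha : a ∈ Subgroup.normalizer (N : Set G)) (hb : b ∈ Subgroup.normalizer (N : Set G))
    (haf : IsConjCharOf N a θ θ) (hbf : IsConjCharOf N b θ θ) (hc : a * b * a⁻¹ * b⁻¹ ∈ N) :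
    ∃ w, IsOmega θ a b w := by
  obtain ⟨m, σ, hσ, rfl⟩ := hθ
  obtain ⟨A, hA⟩ := exists_lift hσ ha haf
  obtain ⟨B, hB⟩ := exists_lift hσ hb hbf
  obtain ⟨w, hw⟩ := OmegaRep.exists_of hσ hA hB hc
  exact ⟨w, m, σ, hσ, rfl, hw⟩

theorem IsOmega.swap (h : IsOmega θ a b w) : IsOmega θ b a w⁻¹ := by
  obtain ⟨m, σ, hσ, hθ, A, B, hA, hB, n, hn, heq⟩ := h
  refine ⟨m, σ, hσ, hθ, B, A, hB, hA, n⁻¹, by rw [Subgroup.coe_inv, hn]; group, ?_⟩
  have h1 : (A * B * A⁻¹ * B⁻¹)⁻¹ = B * A * B⁻¹ * A⁻¹ := by group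
  rw [← h1, heq, mul_inv_rev, ← map_inv, ← map_inv, scalarU_comm]

theorem IsOmega.mul_inv_right (h : IsOmega θ a b w) : IsOmega θ a (b * a⁻¹) w := by
  obtain ⟨m, σ, hσ, hθ, A, B, hA, hB, n, hn, heq⟩ := h
  refine ⟨m, σ, hσ, hθ, A, B * A⁻¹, hA, hB.mul hA.inv, n, by rw [hn]; group, ?_⟩
  rw [← heq]; group

theorem IsOmega.mul_right_inv (h : IsOmega θ a (b * a⁻¹) w) : IsOmega θ a b w := by
  obtain ⟨m, σ, hσ, hθ, A, B, hA, hB, n, hn, heq⟩ := h
  refine ⟨m, σ, hσ, hθ, A, B * A, hA, ?_, n, by rw [hn]; group, ?_⟩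
  · simpa using hB.mul hA
  · rw [← heq]; group

/-- The first element may be changed by an element of the subgroup. -/
theorem IsOmega.left_mul (h : IsOmega θ a b w) {x : G} (hx : x ∈ N) :
    IsOmega θ (x * a) b w := by
  obtain ⟨m, σ, hσ, hθ, A, B, hA, hB, n, hn, heq⟩ := h
  let t : N := twistEquiv N hB.1 ⟨x, hx⟩⁻¹
  refine ⟨m, σ, hσ, hθ, σ.toHomUnits ⟨x, hx⟩ * A, B, (IsLift.graph ⟨x, hx⟩).mul hA, hB,
    ⟨x, hx⟩ * n * t, ?_, ?_⟩
  · simp only [Subgroup.coe_mul, t, coe_twistEquiv, Subgroup.coe_inv, hn]; group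
  · have h1 : B * σ.toHomUnits (⟨x, hx⟩⁻¹ : N) = σ.toHomUnits t * B :=
      hB.apply (coe_twistEquiv N hB.1 _)
    have h2 : A * B * A⁻¹ = scalarU w * σ.toHomUnits n * B := by
      rw [← heq]; group
    calc σ.toHomUnits ⟨x, hx⟩ * A * B * (σ.toHomUnits ⟨x, hx⟩ * A)⁻¹ * B⁻¹
        = σ.toHomUnits ⟨x, hx⟩ * (A * B * A⁻¹) * σ.toHomUnits (⟨x, hx⟩⁻¹ : N) * B⁻¹ := by
          rw [map_inv]; group
      _ = scalarU w * (σ.toHomUnits (⟨x, hx⟩ * n) * (B * σ.toHomUnits (⟨x, hx⟩⁻¹ : N)) * B⁻¹) := by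
          rw [h2, ← mul_assoc, ← mul_assoc, ← scalarU_comm, map_mul]
          simp only [mul_assoc]
      _ = _ := by
          rw [h1, ← mul_assoc (σ.toHomUnits (⟨x, hx⟩ * n)), ← map_mul, mul_inv_cancel_right]

theorem IsOmega.right_mul (h : IsOmega θ a b w) {x : G} (hx : x ∈ N) :
    IsOmega θ a (x * b) w := by
  simpa using ((h.swap).left_mul hx).swap

/-- Transport along a homomorphism that is bijective on the subgroup. -/
theorem IsOmega.map {G' : Type v} [Group G'] {N' : Subgroup G'} (f : G →* G') (e : N ≃* N')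
    (he : ∀ n : N, (e n : G') = f n) {θ' : N' → ℂ} (hθ' : ∀ n, θ' (e n) = θ n)
    (h : IsOmega θ a b w) : IsOmega θ' (f a) (f b) w := by
  obtain ⟨m, σ, hσ, hθ, A, B, hA, hB, n, hn, heq⟩ := h
  have hlift : ∀ (x : G) (X : (Op m)ˣ), IsLift σ x X →
      IsLift (σ.comp e.symm.toMonoidHom) (f x) X := by
    intro x X hX
    refine ⟨Subgroup.mem_normalizer_iff.mpr fun k => ?_, fun k k' hk => ?_⟩
    · constructor <;> intro hk
      · have := (e (twistEquiv N hX.1 (e.symm ⟨k, hk⟩))).2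
        rwa [he, coe_twistEquiv, map_mul, map_mul, map_inv, ← he, e.apply_symm_apply] at this
      · have := (e ((twistEquiv N hX.1).symm (e.symm ⟨_, hk⟩))).2
        have h1 := congrArg (fun z : N => f (z : G)) ((twistEquiv N hX.1).apply_symm_apply (e.symm ⟨_, hk⟩))
        simp only [coe_twistEquiv, map_mul, map_inv] at h1
        rw [← he, ← he, e.apply_symm_apply] at h1
        have h2 : (e ((twistEquiv N hX.1).symm (e.symm ⟨_, hk⟩)) : G') = k := by
          exact mul_left_cancel (mul_right_cancel h1)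
        rwa [h2] at this
    · show (X : Op m) * σ (e.symm k) = σ (e.symm k') * (X : Op m)
      refine hX.2 _ _ ?_
      have h1 : k' = e (twistEquiv N hX.1 (e.symm k)) := Subtype.ext (by
        rw [hk, he, coe_twistEquiv, map_mul, map_mul, map_inv, ← he, e.apply_symm_apply])
      rw [h1, e.symm_apply_apply, coe_twistEquiv]
  refine ⟨m, σ.comp e.symm.toMonoidHom, ?_, ?_, A, B, hlift a A hA, hlift b B hB, e n, ?_, ?_⟩
  · obtain ⟨-, h2⟩ := (isIrreducible_iff_submodule σ).mp hσ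
    exact (isIrreducible_iff_submodule _).mpr ⟨((isIrreducible_iff_submodule σ).mp hσ).1,
      fun p hp => h2 p fun k x hx => by simpa using hp (e k) x hx⟩
  · funext k
    show σ.character (e.symm k) = θ' k
    rw [hθ, ← hθ' (e.symm k), e.apply_symm_apply]
  · rw [he, hn]; simp
  · rw [heq]
    congr 1
    exact Units.ext (by simp)

/-- Restriction to a smaller subgroup on which the character stays irreducible. -/
theorem IsOmega.restrict [Finite N] {K : Subgroup G} (hKN : K ≤ N)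
    (hirr : IsIrrCharacter K (fun k : K => θ ⟨k, hKN k.2⟩)) (h : IsOmega θ a b w)
    (ha : a ∈ Subgroup.normalizer (K : Set G)) (hb : b ∈ Subgroup.normalizer (K : Set G))
    (hc : a * b * a⁻¹ * b⁻¹ ∈ K) : IsOmega (fun k : K => θ ⟨k, hKN k.2⟩) a b w := by
  obtain ⟨m, σ, hσ, hθ, A, B, hA, hB, n, hn, heq⟩ := h
  haveI : Finite K := Finite.of_injective _ (Subgroup.inclusion_injective hKN)
  refine ⟨m, σ.comp (Subgroup.inclusion hKN), ?_, ?_, A, B, ⟨ha, fun k k' hk => hA.2 _ _ hk⟩,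
    ⟨hb, fun k k' hk => hB.2 _ _ hk⟩, ⟨_, hc⟩, rfl, ?_⟩
  · rw [isIrreducible_iff_isIrrCharacter]
    convert hirr using 1
    funext k
    exact congrFun hθ (Subgroup.inclusion hKN k)
  · funext k
    exact congrFun hθ (Subgroup.inclusion hKN k)
  · rw [heq]
    congr 1
    exact Units.ext (congrArg σ (Subtype.ext hn))

open Classical in
/-- The scalar, or zero when it is not defined. -/
noncomputable def omega (θ : N → ℂ) (a b : G) : ℂ :=
  if h : ∃ w, IsOmega θ a b w then (Classical.choose h : ℂˣ) else 0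

theorem omega_eq [Finite N] (h : IsOmega θ a b w) : omega θ a b = (w : ℂ) := by
  unfold omega
  rw [dif_pos ⟨w, h⟩]
  exact congrArg Units.val ((Classical.choose_spec (⟨w, h⟩ : ∃ w, IsOmega θ a b w)).unique h)

theorem omega_of_not (h : ¬ ∃ w, IsOmega θ a b w) : omega θ a b = 0 := dif_neg h

theorem omega_left_mul [Finite N] {x : G} (hx : x ∈ N) : omega θ (x * a) b = omega θ a b := by
  by_cases h : ∃ w, IsOmega θ a b w
  · obtain ⟨w, hw⟩ := h
    rw [omega_eq hw, omega_eq (hw.left_mul hx)]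
  · rw [omega_of_not h, omega_of_not]
    rintro ⟨w, hw⟩
    exact h ⟨w, by simpa [mul_assoc] using hw.left_mul (inv_mem hx)⟩

theorem omega_right_mul [Finite N] {x : G} (hx : x ∈ N) : omega θ a (x * b) = omega θ a b := by
  by_cases h : ∃ w, IsOmega θ a b w
  · obtain ⟨w, hw⟩ := h
    rw [omega_eq hw, omega_eq (hw.right_mul hx)]
  · rw [omega_of_not h, omega_of_not]
    rintro ⟨w, hw⟩
    exact h ⟨w, by simpa [mul_assoc] using hw.right_mul (inv_mem hx)⟩

end Cfsg.Lib.Char.RelMcKay
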