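import Cfsg.Agent.Lib.Char.RelMcKay.Reduce

/-!
# The count over an invariant character as a weighted sum over fixed characters of a larger subgroup
-/

set_option autoImplicit false
set_option linter.unusedSectionVars false
set_option linter.style.haveILetI false

namespace Cfsg.Lib.Char.RelMcKay

open Cfsg
open Cfsg.Lib.Char
open scoped ComplexConjugate

universe u

variable {G : Type u} [Group G] [Finite G]

/-- A `p`-group is conjugate into every subgroup of index prime to `p`. -/
theorem exists_conj_le {p : ℕ} [Fact p.Prime] {S T : Subgroup G} (hS : IsPGroup p S)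
    (hT : ¬ p ∣ T.index) : ∃ g : G, ∀ s ∈ S, g * s * g⁻¹ ∈ T := by
  obtain ⟨x, hx⟩ := hS.nonempty_fixed_point_of_prime_not_dvd_card (G ⧸ T) hT
  obtain ⟨g, rfl⟩ := QuotientGroup.mk_surjective x
  refine ⟨g⁻¹, fun s hs => ?_⟩
  have h1 : ((s * g : G) : G ⧸ T) = (g : G ⧸ T) := hx ⟨s, hs⟩
  have h2 : (s * g)⁻¹ * g ∈ T := QuotientGroup.eq.mp h1
  have h3 := inv_mem h2
  simpa [mul_assoc] using h3

/-- Two `p`-subgroups inside `T`, one of index prime to `p`, are related by conjugation in `T`. -/
theorem exists_conj_le_of_le {p : ℕ} [Fact p.Prime] {Q S T : Subgroup G} (hQ : IsPGroup p Q)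
    (hQT : Q ≤ T) (hST : S ≤ T) (hS : ¬ p ∣ S.index) :
    ∃ t ∈ T, ∀ q ∈ Q, t * q * t⁻¹ ∈ S := by
  have hidx : ¬ p ∣ (S.subgroupOf T).index := fun h =>
    hS (h.trans ⟨T.index, (Subgroup.relIndex_mul_index hST).symm⟩)
  obtain ⟨t, ht⟩ := exists_conj_le (hQ.of_equiv (Subgroup.subgroupOfEquivOfLe hQT).symm) hidx
  exact ⟨t, t.2, fun q hq => ht ⟨q, hQT hq⟩ hq⟩

theorem normalizer_le_sup (K A : Subgroup G) [K.Normal] :
    Subgroup.normalizer (A : Set G) ≤ Subgroup.normalizer ((K ⊔ A : Subgroup G) : Set G) := by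
  intro g hg
  rw [Subgroup.mem_normalizer_iff_map_conj_eq] at hg ⊢
  have hK : g ∈ Subgroup.normalizer (K : Set G) := by
    rw [Subgroup.normalizer_eq_top]; exact Subgroup.mem_top g
  rw [Subgroup.mem_normalizer_iff_map_conj_eq] at hK
  rw [Subgroup.map_sup, hK, hg]

/-- `θ` lies over `ν`, for characters of nested subgroups. -/
def OverIn (L K : Subgroup G) (ν : L → ℂ) (θ : K → ℂ) : Prop :=
  Over (L.subgroupOf K) (resTo L ν K) θ

theorem classInner_ne_zero_of_le {H : Type u} [Group H] [Fintype H] {φ φ' ψ : H → ℂ}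
    (hφ : IsCharacter H φ) (hψ : IsCharacter H ψ) (h : classInner φ ψ ≠ 0)
    (hle : (classInner φ ψ).re ≤ (classInner φ' ψ).re) : classInner φ' ψ ≠ 0 := fun h0 => by
  rw [h0, Complex.zero_re] at hle
  exact h ((eq_zero_iff_re_classInner hφ hψ).mpr
    (le_antisymm hle (classInner_re_nonneg hφ hψ)))

theorem over_constituent_iff {L K : Subgroup G} [L.Normal] (hLK : L ≤ K) {ν : L → ℂ}
    (hν : IsIrrCharacter L ν) (hinv : ∀ g, conjTwist L ν g = ν) {χ : G → ℂ}
    (hχ : IsIrrCharacter G χ) {θ : K → ℂ} (hθ : IsIrrCharacter K θ) (hc : Over K θ χ) :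
    Over L ν χ ↔ OverIn L K ν θ := by
  classical
  haveI := Fintype.ofFinite G
  haveI := Fintype.ofFinite L
  haveI := Fintype.ofFinite K
  haveI := Fintype.ofFinite (L.subgroupOf K)
  rw [over_iff] at hc
  have hν' : IsIrrCharacter (L.subgroupOf K) (resTo L ν K) := resTo_irr hLK hν
  have hres : IsCharacter K (fun k : K => χ k) := hχ.isCharacter.comp K.subtype
  have hθL : IsCharacter (L.subgroupOf K) (fun z : L.subgroupOf K => θ z) :=
    hθ.isCharacter.comp (L.subgroupOf K).subtype
  have htr : classInner (fun z : L.subgroupOf K => χ ((z : K) : G)) (resTo L ν K) =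
      classInner (fun n : L => χ n) ν := classInner_resTo L ν hLK (fun k : K => χ k)
  unfold OverIn
  rw [over_iff, over_iff]
  constructor
  · intro h
    obtain ⟨φ, hφ⟩ := exists_constituent hθL (by
      simpa using hθ.apply_one_ne_zero)
    have h1 := classInner_res_le_of_constituent (L.subgroupOf K) hres hθ hc φ.2.isCharacter
    have h2 := classInner_ne_zero_of_le hθL φ.2.isCharacter hφ h1
    have h3 : (fun z : L.subgroupOf K => χ ((z : K) : G)) =
        classInner (fun n : L => χ n) ν • resTo L ν K := by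
      funext z
      exact congrFun (clifford_invariant L hχ hν hinv h) ⟨(z : K), Subgroup.mem_subgroupOf.mp z.2⟩
    rw [h3, classInner_smul_left] at h2
    have h4 : resTo L ν K = (φ : L.subgroupOf K → ℂ) := by
      by_contra hne
      exact h2 (by rw [classInner_irr_ne hν' φ.2 hne, mul_zero])
    rwa [h4]
  · intro h
    have h1 := classInner_res_le_of_constituent (L.subgroupOf K) hres hθ hc hν'.isCharacter
    rw [← htr]
    exact classInner_ne_zero_of_le hθL hν'.isCharacter h h1

/-- The conjugates of `θ` under `X`. -/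
def orbOn (K : Subgroup G) [K.Normal] (X : Subgroup G) (θ : K → ℂ) : Set (K → ℂ) :=
  conjTwist K θ '' (X : Set G)

theorem orbOn_ncard_pos (K X : Subgroup G) [K.Normal] (θ : K → ℂ) : 0 < (orbOn K X θ).ncard :=
  (Set.ncard_pos ((Set.toFinite _).image _)).mpr ⟨_, Set.mem_image_of_mem _ X.one_mem⟩

theorem orbOn_eq_of_mem {K X : Subgroup G} [K.Normal] {θ φ : K → ℂ} (h : φ ∈ orbOn K X θ) :
    orbOn K X φ = orbOn K X θ := by
  haveI := Fintype.ofFinite G
  obtain ⟨x, hx, rfl⟩ := h
  ext ψ
  constructor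
  · rintro ⟨y, hy, rfl⟩
    exact ⟨x * y, mul_mem hx hy, (conjTwist_conjTwist K θ x y).symm⟩
  · rintro ⟨y, hy, rfl⟩
    exact ⟨x⁻¹ * y, mul_mem (inv_mem hx) hy, by rw [conjTwist_conjTwist, mul_inv_cancel_left]⟩

open Classical in
/-- The fixed characters of `K` over `ν`. -/
noncomputable def fixedOver [Fintype (IrrCharacter G)] (L K S : Subgroup G) [K.Normal]
    [Fintype (IrrCharacter K)] (ν : L → ℂ) : Finset (IrrCharacter K) :=
  Finset.univ.filter fun θ =>
    OverIn L K ν (θ : K → ℂ) ∧ ∀ s ∈ S, conjTwist K (θ : K → ℂ) s = θ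

theorem mem_fixedOver [Fintype (IrrCharacter G)] {L K S : Subgroup G} [K.Normal]
    [Fintype (IrrCharacter K)] {ν : L → ℂ} {θ : IrrCharacter K} :
    θ ∈ fixedOver L K S ν ↔
      OverIn L K ν (θ : K → ℂ) ∧ ∀ s ∈ S, conjTwist K (θ : K → ℂ) s = θ := by
  classical
  simp [fixedOver]

/-- The count over `ν` as a weighted sum over the fixed characters of `K`. -/
theorem cnt_orbit_sum [Fintype (IrrCharacter G)] {p : ℕ} [hpf : Fact p.Prime] (L K S : Subgroup G)
    [L.Normal] [K.Normal] [Fintype (IrrCharacter K)] (hLK : L ≤ K) (hS : IsPGroup p S)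
    (hSidx : ¬ p ∣ S.index) {ν : L → ℂ} (hν : IsIrrCharacter L ν)
    (hinv : ∀ g, conjTwist L ν g = ν) :
    (cnt p L ν : ℚ) = ∑ θ ∈ fixedOver L K S ν, (cnt p K (θ : K → ℂ) : ℚ) /
      (orbOn K (Subgroup.normalizer ((K ⊔ S : Subgroup G) : Set G)) (θ : K → ℂ)).ncard := by
  classical
  haveI := Fintype.ofFinite G
  haveI := Fintype.ofFinite K
  set X := Subgroup.normalizer ((K ⊔ S : Subgroup G) : Set G) with hX
  let w : IrrCharacter K → ℚ := fun θ => ((orbOn K X (θ : K → ℂ)).ncard : ℚ)⁻¹
  let A : Finset (IrrCharacter G) :=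
    Finset.univ.filter fun χ : IrrCharacter G => ¬ p ∣ charDegree (χ : G → ℂ)
  have hcard : ∀ (M : Subgroup G) (f : M → ℂ), (cnt p M f : ℚ) =
      ∑ χ ∈ A, (if Over M f (χ : G → ℂ) then (1 : ℚ) else 0) := by
    intro M f
    rw [Finset.sum_boole, cnt, Nat.card_eq_fintype_card, Fintype.card_subtype, Finset.filter_filter]
  rw [hcard L ν]
  calc ∑ χ ∈ A, (if Over L ν (χ : G → ℂ) then (1 : ℚ) else 0)
      = ∑ χ ∈ A, ∑ θ ∈ fixedOver L K S ν,
          (if Over K (θ : K → ℂ) (χ : G → ℂ) then w θ else 0) := by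
        refine Finset.sum_congr rfl fun χ hχ => ?_
        have hdeg : ¬ p ∣ charDegree (χ : G → ℂ) := (Finset.mem_filter.mp hχ).2
        rw [← Finset.sum_filter]
        by_cases hoν : Over L ν (χ : G → ℂ)
        swap
        · rw [if_neg hoν, Finset.filter_eq_empty_iff.mpr, Finset.sum_empty]
          intro θ hθ hoθ
          exact hoν ((over_constituent_iff hLK hν hinv χ.2 θ.2 hoθ).mpr (mem_fixedOver.mp hθ).1)
        rw [if_pos hoν]
        obtain ⟨θ₁, hθ₁⟩ := exists_constituent (χ.2.isCharacter.comp K.subtype)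
          (by simpa using χ.2.apply_one_ne_zero)
        obtain ⟨k, hk⟩ := (χ.2.isCharacter.comp K.subtype).exists_nat_classInner θ₁.2.isCharacter
        have hk' : classInner (fun x : K => (χ : G → ℂ) x) (θ₁ : K → ℂ) = (k : ℂ) := hk
        have hd := clifford_degree K χ.2 θ₁.2 hθ₁
        rw [hk', ← charDegree_cast χ.2, ← charDegree_cast θ₁.2] at hd
        have hd' : charDegree (χ : G → ℂ) = k * (inertia K (θ₁ : K → ℂ)).index *
            charDegree (θ₁ : K → ℂ) := by exact_mod_cast hd
        obtain ⟨g, hg⟩ := exists_conj_le (T := inertia K (θ₁ : K → ℂ)) hS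
          fun h => hdeg (hd' ▸ (h.mul_left k).mul_right _)
        let θ₀ : IrrCharacter K := ⟨conjTwist K (θ₁ : K → ℂ) g, isIrrCharacter_conjTwist K θ₁.2 g⟩
        have hfix₀ : ∀ s ∈ S, conjTwist K (θ₀ : K → ℂ) s = θ₀ := fun s hs => by
          show conjTwist K (conjTwist K (θ₁ : K → ℂ) g) s = conjTwist K (θ₁ : K → ℂ) g
          rw [conjTwist_conjTwist, show g * s = g * s * g⁻¹ * g by group, ← conjTwist_conjTwist,
            (mem_inertia K).mp (hg s hs)]
        have hχtw : ∀ x : G, conjTwist K (fun h : K => (χ : G → ℂ) h) x = fun h : K => (χ : G → ℂ) h :=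
          conjTwist_res K χ.2.isClassFunction
        have hover₀ : Over K (θ₀ : K → ℂ) (χ : G → ℂ) := by
          rw [over_iff]
          show classInner _ (conjTwist K (θ₁ : K → ℂ) g) ≠ 0
          rw [← hχtw g, classInner_conjTwist]
          exact hθ₁
        have hT₀ : K ⊔ S ≤ inertia K (θ₀ : K → ℂ) :=
          sup_le (le_inertia K θ₀.2.isClassFunction) fun s hs => (mem_inertia K).mpr (hfix₀ s hs)
        have hfin : (orbOn K X (θ₀ : K → ℂ)).Finite := (Set.toFinite (X : Set G)).image _
        have himg : Finset.image (Subtype.val : IrrCharacter K → K → ℂ)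
            (Finset.filter (fun θ : IrrCharacter K => Over K (θ : K → ℂ) (χ : G → ℂ))
              (fixedOver L K S ν)) = hfin.toFinset := by
          ext f
          simp only [Finset.mem_image, Finset.mem_filter, Set.Finite.mem_toFinset]
          constructor
          · rintro ⟨θ, ⟨hθΘ, hθo⟩, rfl⟩
            rw [over_iff] at hover₀ hθo
            obtain ⟨y, hy⟩ := (mem_twistOrbit K).mp
              (mem_twistOrbit_of_constituent K χ.2 θ₀.2 θ.2 hover₀ hθo)
            obtain ⟨t, ht, htq⟩ := exists_conj_le_of_le (Q := S.map (MulAut.conj y).toMonoidHom)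
              (T := inertia K (θ₀ : K → ℂ)) (hS.map _) (by
                rintro _ ⟨s, hs, rfl⟩
                rw [mem_inertia]
                show conjTwist K (θ₀ : K → ℂ) (y * s * y⁻¹) = θ₀
                rw [← conjTwist_conjTwist, ← conjTwist_conjTwist, hy, (mem_fixedOver.mp hθΘ).2 s hs,
                  ← hy, conjTwist_conjTwist, mul_inv_cancel, conjTwist_one])
              (le_sup_right.trans hT₀) hSidx
            refine ⟨t * y, normalizer_le_sup K S (mem_normalizer_of_conj_mem fun z hz => ?_), ?_⟩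
            · have := htq _ ⟨z, hz, rfl⟩
              simpa [mul_assoc] using this
            · rw [← conjTwist_conjTwist, (mem_inertia K).mp ht, hy]
          · rintro ⟨x, hx, rfl⟩
            have ho : Over K (conjTwist K (θ₀ : K → ℂ) x) (χ : G → ℂ) := by
              rw [over_iff] at hover₀ ⊢
              rwa [← hχtw x, classInner_conjTwist]
            refine ⟨⟨_, isIrrCharacter_conjTwist K θ₀.2 x⟩, ⟨mem_fixedOver.mpr ⟨?_, fun s hs => ?_⟩,
              ho⟩, rfl⟩
            · exact (over_constituent_iff hLK hν hinv χ.2 (isIrrCharacter_conjTwist K θ₀.2 x) ho).mp hoν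
            · show conjTwist K (conjTwist K (θ₀ : K → ℂ) x) s = conjTwist K (θ₀ : K → ℂ) x
              rw [conjTwist_conjTwist, show x * s = x * s * x⁻¹ * x by group, ← conjTwist_conjTwist,
                (mem_inertia K).mp (hT₀ ((Subgroup.mem_normalizer_iff.mp hx s).mp
                  (Subgroup.mem_sup_right hs)))]
        have hcardeq : (Finset.filter (fun θ : IrrCharacter K => Over K (θ : K → ℂ) (χ : G → ℂ))
            (fixedOver L K S ν)).card = (orbOn K X (θ₀ : K → ℂ)).ncard := by
          rw [Set.ncard_eq_toFinset_card _ hfin, ← himg,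
            Finset.card_image_of_injective _ Subtype.val_injective]
        rw [Finset.sum_congr rfl (g := fun _ => w θ₀) fun θ hθ => ?_, Finset.sum_const,
          hcardeq, nsmul_eq_mul]
        · exact (mul_inv_cancel₀ (Nat.cast_ne_zero.mpr (orbOn_ncard_pos K X _).ne')).symm
        · have hm : (θ : K → ℂ) ∈ orbOn K X (θ₀ : K → ℂ) := by
            rw [← hfin.mem_toFinset, ← himg]
            exact Finset.mem_image_of_mem _ hθ
          simp only [w, orbOn_eq_of_mem hm]
    _ = ∑ θ ∈ fixedOver L K S ν, ∑ χ ∈ A,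
          (if Over K (θ : K → ℂ) (χ : G → ℂ) then w θ else 0) := Finset.sum_comm
    _ = ∑ θ ∈ fixedOver L K S ν, (cnt p K (θ : K → ℂ) : ℚ) /
          (orbOn K X (θ : K → ℂ)).ncard := by
        refine Finset.sum_congr rfl fun θ _ => ?_
        rw [hcard K, Finset.sum_div]
        refine Finset.sum_congr rfl fun χ _ => ?_
        split_ifs <;> simp [w]

end Cfsg.Lib.Char.RelMcKay
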