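import Cfsg.Agent.Lib.Char.Clifford2
import Cfsg.Agent.Lib.Char.Quotient
import Cfsg.Prelude.Def_BlockLocal

/-!
# Counting the characters of degree prime to `p` over a character of a normal subgroup
-/

set_option autoImplicit false
set_option linter.unusedSectionVars false
set_option linter.style.haveILetI false

namespace Cfsg.Lib.Char.RelMcKay

open Cfsg
open Cfsg.Lib.Char
open scoped ComplexConjugate

universe u

variable {G : Type u} [Group G]

/-- `χ` lies over `ν`. -/
def Over (L : Subgroup G) (ν : L → ℂ) (χ : G → ℂ) : Prop :=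
  (∑ᶠ l : L, χ l * conj (ν l)) ≠ 0

theorem over_iff [Finite G] (L : Subgroup G) [Fintype L] (ν : L → ℂ) (χ : G → ℂ) :
    Over L ν χ ↔ classInner (fun l : L => χ l) ν ≠ 0 := by
  rw [Over, finsum_eq_sum_of_fintype, classInner, mul_ne_zero_iff_left (inv_ne_zero card_cast_ne_zero)]

/-- The number of irreducible characters of degree prime to `p` over `ν`. -/
noncomputable def cnt (p : ℕ) (L : Subgroup G) (ν : L → ℂ) : ℕ :=
  Nat.card {χ : IrrCharacter G // ¬ p ∣ charDegree (χ : G → ℂ) ∧ Over L ν (χ : G → ℂ)}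

theorem charDegree_of_eq {χ : G → ℂ} {n : ℕ} (h : χ 1 = (n : ℂ)) : charDegree χ = n := by
  simp [charDegree, h]

theorem charDegree_cast [Finite G] {χ : G → ℂ} (hχ : IsIrrCharacter G χ) :
    (charDegree χ : ℂ) = χ 1 := by
  obtain ⟨n, -, hn⟩ := hχ.exists_degree
  rw [charDegree_of_eq hn, hn]

/-- Transport of the count along an isomorphism. -/
theorem cnt_congr [Finite G] {G' : Type u} [Group G'] [Finite G'] (p : ℕ) (e : G ≃* G')
    (L : Subgroup G) (L' : Subgroup G') (hL : ∀ x, x ∈ L ↔ e x ∈ L') (ν : L → ℂ) (ν' : L' → ℂ)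
    (hν : ∀ x : L, ν' ⟨e x, (hL x).mp x.2⟩ = ν x) : cnt p L ν = cnt p L' ν' := by
  let eL : L ≃ L' :=
    { toFun := fun x => ⟨e x, (hL x).mp x.2⟩
      invFun := fun y => ⟨e.symm y, (hL _).mpr (by rw [e.apply_symm_apply]; exact y.2)⟩
      left_inv := fun x => Subtype.ext (e.symm_apply_apply x)
      right_inv := fun y => Subtype.ext (e.apply_symm_apply y) }
  refine Nat.card_congr (Equiv.subtypeEquiv
    { toFun := fun χ => ⟨fun y => (χ : G → ℂ) (e.symm y), isIrrCharacter_comp_equiv e.symm χ.2⟩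
      invFun := fun χ => ⟨fun x => (χ : G' → ℂ) (e x), isIrrCharacter_comp_equiv e χ.2⟩
      left_inv := fun χ => Subtype.ext (funext fun x => by simp)
      right_inv := fun χ => Subtype.ext (funext fun x => by simp) } fun χ => ?_)
  refine and_congr ?_ ?_
  · simp [charDegree]
  · refine Iff.not (Eq.congr_left ?_)
    refine finsum_eq_of_bijective eL eL.bijective fun x => ?_
    show (χ : G → ℂ) x * conj (ν x) = (χ : G → ℂ) (e.symm (e x)) * conj (ν' ⟨e x, _⟩)
    rw [e.symm_apply_apply, hν]

/-- A count relative to a subgroup, read on its preimage. -/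
noncomputable def cntIn (p : ℕ) (L : Subgroup G) (ν : L → ℂ) (U : Subgroup G) : ℕ :=
  cnt p (L.subgroupOf U) (resTo L ν U)

theorem cntIn_top [Finite G] (p : ℕ) (L : Subgroup G) (ν : L → ℂ) :
    cntIn p L ν ⊤ = cnt p L ν :=
  cnt_congr p Subgroup.topEquiv _ L (fun _ => Subgroup.mem_subgroupOf) _ ν fun _ => rfl

variable [Fintype G]

/-- The squares of the degrees over an invariant character. -/
theorem sum_sq_over (L : Subgroup G) [L.Normal] [Fintype L] {ν : L → ℂ} (hν : IsIrrCharacter L ν)
    (hinv : ∀ g, conjTwist L ν g = ν) [DecidablePred fun χ : IrrCharacter G => Over L ν (χ : G → ℂ)] :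
    ∑ χ ∈ Finset.univ.filter (fun χ : IrrCharacter G => Over L ν (χ : G → ℂ)), (χ : G → ℂ) 1 ^ 2 =
      (L.index : ℂ) * ν 1 ^ 2 := by
  classical
  have h := congrFun (eq_sum_classInner (isClassFunction_indFun L ν)) 1
  simp only [Finset.sum_apply, Pi.smul_apply, smul_eq_mul] at h
  rw [indFun_apply_one] at h
  rw [sq, ← mul_assoc, h, Finset.sum_mul, Finset.sum_filter]
  refine Finset.sum_congr rfl fun χ _ => ?_
  rw [classInner_indFun L ν χ.2.isClassFunction, ← classInner_conj_symm]
  obtain ⟨k, hk⟩ := (χ.2.isCharacter.comp L.subtype).exists_nat_classInner hν.isCharacter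
  have hk' : classInner (fun l : L => (χ : G → ℂ) l) ν = (k : ℂ) := hk
  split_ifs with ho
  · rw [over_iff] at ho
    have h1 := congrFun (clifford_invariant L χ.2 hν hinv ho) 1
    simp only [Pi.smul_apply, smul_eq_mul, OneMemClass.coe_one] at h1
    rw [hk'] at h1 ⊢
    rw [Complex.conj_natCast, h1]; ring
  · rw [over_iff, not_not] at ho
    rw [ho]; simp

end Cfsg.Lib.Char.RelMcKay
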