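import Cfsg.Agent.Lib.Char.RelMcKay.Side
import Cfsg.Agent.Lib.Char.RelMcKay.Direct
import Cfsg.Agent.Lib.Char.LinearExt
import Cfsg.Agent.Lib.Char.Gallagher

/-!
# The characters of degree prime to `p` of a `p'`-group extended by a `p`-group, as pairs
-/

set_option autoImplicit false
set_option linter.unusedSectionVars false
set_option linter.style.haveILetI false

namespace Cfsg.Lib.Char.RelMcKay

open Cfsg Module
open Cfsg.Lib.Char
open scoped ComplexConjugate

universe u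

variable {G : Type u} [Group G] [Finite G]

/-- The invariant characters of the `p'`-part lying over `l`. -/
def PrimeSet (K S : Subgroup G) {L : Subgroup G} (l : L →* ℂˣ) : Set (IrrCharacter K) :=
  {θ | IsInvOn S K (θ : K → ℂ) ∧ ∀ (z : L) (hz : (z : G) ∈ K),
    (θ : K → ℂ) ⟨z, hz⟩ = (l z : ℂ) * (θ : K → ℂ) 1}

/-- A linear character of `S` over `l`. -/
def MuOver (S : Subgroup G) {L : Subgroup G} (l : L →* ℂˣ) (μ : S →* ℂˣ) : Prop :=
  ∀ (z : L) (hz : (z : G) ∈ S), μ ⟨z, hz⟩ = l z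

/-- A linear character of `S` fixed by an element. -/
def MuFixed (S : Subgroup G) (x : G) (μ : S →* ℂˣ) : Prop :=
  ∀ s s' : S, (s' : G) = x * s * x⁻¹ → μ s' = μ s

/-- The number of linear characters of `S` over `l` fixed by two elements. -/
noncomputable def muCount (S : Subgroup G) {L : Subgroup G} (l : L →* ℂˣ) (a b : G) : ℕ :=
  Nat.card {μ : S →* ℂˣ // MuOver S l μ ∧ MuFixed S a μ ∧ MuFixed S b μ}

section Setting

variable {p : ℕ} [hpf : Fact p.Prime] {K S M : Subgroup G}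

theorem inf_eq_bot_pPrime (hK : ¬ p ∣ Nat.card K) (hS : IsPGroup p S) {x : G} (h1 : x ∈ K)
    (h2 : x ∈ S) : x = 1 := by
  obtain ⟨e, he⟩ := IsPGroup.iff_card.mp hS
  have := (Subgroup.inf_eq_bot_of_coprime (H := K) (K := S)
    (he ▸ Nat.Coprime.pow_right e ((hpf.out.coprime_iff_not_dvd).mpr hK).symm)).le ⟨h1, h2⟩
  exact Subgroup.mem_bot.mp this

variable [hKn : K.Normal] (hKM : K ≤ M) (hSM : S ≤ M) (hM : M ≤ K ⊔ S)

include hM in
theorem exists_decomp (x : G) (hx : x ∈ M) : ∃ k ∈ K, ∃ s ∈ S, x = k * s := by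
  obtain ⟨k, hk, s, hs, h⟩ := Subgroup.mem_sup_of_normal_left.mp (hM hx)
  exact ⟨k, hk, s, hs, h.symm⟩

theorem decomp_unique (hK : ¬ p ∣ Nat.card K) (hS : IsPGroup p S) {k k' s s' : G} (hk : k ∈ K)
    (hk' : k' ∈ K) (hs : s ∈ S) (hs' : s' ∈ S) (h : k * s = k' * s') : k = k' ∧ s = s' := by
  have h1 : k'⁻¹ * k = s' * s⁻¹ := by
    rw [eq_mul_inv_iff_mul_eq, mul_assoc, h, inv_mul_cancel_left]
  have h2 := inf_eq_bot_pPrime hK hS (mul_mem (inv_mem hk') hk) (h1 ▸ mul_mem hs' (inv_mem hs))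
  exact ⟨(inv_mul_eq_one.mp h2).symm, (mul_inv_eq_one.mp (h1 ▸ h2)).symm⟩

include hKM hSM hM in
/-- The elements of a central subgroup split inside it. -/
theorem central_decomp (hK : ¬ p ∣ Nat.card K) (hS : IsPGroup p S) {L : Subgroup G}
    (hL : L ≤ Subgroup.center G) {z : G} (hz : z ∈ L) (hzM : z ∈ M) :
    ∃ k ∈ K, ∃ s ∈ S, z = k * s ∧ k ∈ L ∧ s ∈ L := by
  obtain ⟨k, hk, s, hs, rfl⟩ := exists_decomp hM z hzM
  refine ⟨k, hk, s, hs, rfl, ?_⟩
  have hc : Commute k s := by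
    have h := Subgroup.mem_center_iff.mp (hL hz) s
    rw [← mul_assoc] at h
    exact (mul_right_cancel h).symm
  obtain ⟨e, he⟩ := IsPGroup.iff_card.mp hS
  obtain ⟨u, v, huv⟩ := Nat.isCoprime_iff_coprime.mpr (show (Nat.card K).Coprime (Nat.card S) from
    he ▸ Nat.Coprime.pow_right e ((hpf.out.coprime_iff_not_dvd).mpr hK).symm)
  have hkK : k ^ (Nat.card K : ℤ) = 1 := by
    rw [zpow_natCast]
    exact congrArg Subtype.val (pow_card_eq_one' (x := (⟨k, hk⟩ : K)))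
  have hsS : s ^ (Nat.card S : ℤ) = 1 := by
    rw [zpow_natCast]
    exact congrArg Subtype.val (pow_card_eq_one' (x := (⟨s, hs⟩ : S)))
  have hsL : s ∈ L := by
    have h1 : (k * s) ^ (u * (Nat.card K : ℤ)) = s := by
      rw [hc.mul_zpow, zpow_mul' k, hkK, one_zpow, one_mul]
      conv_rhs => rw [← zpow_one s, ← huv, zpow_add, zpow_mul' s v, hsS, one_zpow, mul_one]
    exact h1 ▸ L.zpow_mem hz _
  exact ⟨by simpa using mul_mem hz (inv_mem hsL), hsL⟩

variable [hMn : M.Normal] [Fintype M] [Fintype K]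

theorem natCard_subgroupOf (hKM : K ≤ M) : Nat.card (K.subgroupOf M) = Nat.card K :=
  Nat.card_congr (Subgroup.subgroupOfEquivOfLe hKM).toEquiv

include hKM hSM hM in
theorem index_dvd_card (hK : ¬ p ∣ Nat.card K) (hS : IsPGroup p S) :
    ∃ e, (K.subgroupOf M).index = p ^ e := by
  obtain ⟨e, he⟩ := IsPGroup.iff_card.mp hS
  have h1 : (K.subgroupOf M).index ∣ Nat.card S := by
    let f : S →* M ⧸ K.subgroupOf M := (QuotientGroup.mk' _).comp (Subgroup.inclusion hSM)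
    have hf : Function.Surjective f := fun q => by
      obtain ⟨x, rfl⟩ := QuotientGroup.mk_surjective q
      obtain ⟨k, hk, s, hs, hx⟩ := exists_decomp hM (x : G) x.2
      refine ⟨⟨s, hs⟩, QuotientGroup.eq.mpr ?_⟩
      show s⁻¹ * (x : G) ∈ K
      rw [hx]
      simpa [mul_assoc] using hKn.conj_mem k hk s⁻¹
    rw [Subgroup.index_eq_card]
    exact Subgroup.card_dvd_of_surjective f hf
  rw [he] at h1
  obtain ⟨e', -, he'⟩ := (Nat.dvd_prime_pow hpf.out).mp h1
  exact ⟨e', he'⟩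

include hKM hSM hM in
/-- A character of degree prime to `p` stays irreducible on `K`. -/
theorem res_irreducible (hK : ¬ p ∣ Nat.card K) (hS : IsPGroup p S) {ψ : M → ℂ}
    (hψ : IsIrrCharacter M ψ) (hdeg : ¬ p ∣ charDegree ψ) :
    IsIrrCharacter K (fun k : K => ψ ⟨k, hKM k.2⟩) := by
  haveI : (K.subgroupOf M).Normal := hKn.subgroupOf M
  haveI := Fintype.ofFinite (K.subgroupOf M)
  obtain ⟨θ, hθ⟩ := exists_irr_constituent_res (K.subgroupOf M) hψ
  obtain ⟨e, he⟩ := index_dvd_card hKM hSM hM hK hS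
  obtain ⟨d, hd⟩ : ∃ d : ℕ, ψ 1 = (d : ℂ) := ⟨charDegree ψ, (charDegree_cast hψ).symm⟩
  obtain ⟨t, ht, htθ⟩ := θ.2.exists_degree
  obtain ⟨h1, h2⟩ := degree_ratio_dvd_index (K.subgroupOf M) hψ θ.2 hθ hd htθ
  rw [charDegree_of_eq hd] at hdeg
  rw [he] at h2
  obtain ⟨i, -, hi⟩ := (Nat.dvd_prime_pow hpf.out).mp h2
  have hdt : d = t := by
    have := Nat.div_mul_cancel h1
    rw [hi] at this
    rcases Nat.eq_zero_or_pos i with h0 | h0
    · rw [h0, pow_zero, one_mul] at this; exact this.symm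
    · exact absurd (this ▸ (dvd_pow_self p h0.ne').mul_right t) hdeg
  have hres : (fun k : K.subgroupOf M => ψ k) = (θ : K.subgroupOf M → ℂ) := by
    refine eq_of_constituent_of_degree (hψ.isCharacter.comp (K.subgroupOf M).subtype) θ.2 hθ ?_
    show ψ 1 = _
    rw [hd, htθ, hdt]
  have := isIrrCharacter_comp_equiv (Subgroup.subgroupOfEquivOfLe hKM).symm (hres ▸ θ.2 :
    IsIrrCharacter (K.subgroupOf M) (fun k : K.subgroupOf M => ψ k))
  exact this

include hKM hSM hM in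
/-- Characters with the same restriction and the same determinant on `S` coincide. -/
theorem eq_of_res_det (hK : ¬ p ∣ Nat.card K) (hS : IsPGroup p S) {θ : K → ℂ}
    (hθ : IsIrrCharacter K θ) (hdeg : ¬ p ∣ charDegree θ) {ψ ψ' : M → ℂ}
    (hψ : IsCharacter M ψ) (hψ' : IsCharacter M ψ')
    (h : ∀ k : K, ψ ⟨k, hKM k.2⟩ = θ k) (h' : ∀ k : K, ψ' ⟨k, hKM k.2⟩ = θ k)
    (hdet : ∀ s : S, detChar ψ ⟨s, hSM s.2⟩ = detChar ψ' ⟨s, hSM s.2⟩) : ψ = ψ' := by
  obtain ⟨m, σ, hσ, rfl⟩ := hθ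
  haveI := hσ
  haveI : (K.subgroupOf M).Normal := hKn.subgroupOf M
  let σ' : Representation ℂ (K.subgroupOf M) (Fin m → ℂ) :=
    σ.comp (Subgroup.subgroupOfEquivOfLe hKM).toMonoidHom
  haveI : σ'.IsIrreducible := by
    rw [isIrreducible_iff_isIrrCharacter]
    exact isIrrCharacter_comp_equiv (Subgroup.subgroupOfEquivOfLe hKM) ⟨m, σ, hσ, rfl⟩
  obtain ⟨ρ, hρ, rfl⟩ := exists_rep_of_res_eq (K.subgroupOf M).subtype σ' hψ
    fun n => h ⟨_, n.2⟩
  obtain ⟨ρ', hρ', rfl⟩ := exists_rep_of_res_eq (K.subgroupOf M).subtype σ' hψ'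
    fun n => h' ⟨_, n.2⟩
  rw [detChar_character, detChar_character] at hdet
  obtain ⟨e, he⟩ := index_dvd_card hKM hSM hM hK hS
  rw [eq_of_extension_det (σ := σ') (ρ := ρ') (ρ' := ρ) hρ' hρ]
  · rw [he, Module.finrank_fin_fun]
    refine Nat.Coprime.pow_left e ((hpf.out.coprime_iff_not_dvd).mpr ?_)
    rwa [← charDegree_of_eq (χ := σ.character) (n := m)
      (by rw [Representation.char_one, Module.finrank_fin_fun])]
  · refine MonoidHom.ext fun x => ?_
    obtain ⟨k, hk, s, hs, hx⟩ := exists_decomp hM (x : G) x.2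
    have hxe : x = ((⟨⟨k, hKM hk⟩, hk⟩ : K.subgroupOf M) : M) * ⟨s, hSM hs⟩ := Subtype.ext hx
    rw [hxe, map_mul, map_mul]
    congr 1
    · refine Units.ext ?_
      rw [detHom_apply, detHom_apply]
      exact congrArg LinearMap.det
        ((hρ ⟨⟨k, hKM hk⟩, hk⟩).trans (hρ' ⟨⟨k, hKM hk⟩, hk⟩).symm)
    · exact Units.ext (hdet ⟨s, hs⟩)

include hKM hSM hM in
/-- The character attached to a pair. -/
theorem exists_pair_char (hK : ¬ p ∣ Nat.card K) (hS : IsPGroup p S) {θ : K → ℂ}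
    (hθ : IsIrrCharacter K θ) (hdeg : ¬ p ∣ charDegree θ) (hinv : IsInvOn S K θ) (μ : S →* ℂˣ) :
    ∃ ψ : M → ℂ, IsIrrCharacter M ψ ∧ (∀ k : K, ψ ⟨k, hKM k.2⟩ = θ k) ∧
      ∀ s : S, detChar ψ ⟨s, hSM s.2⟩ = ((μ s : ℂ)) ^ charDegree θ := by
  classical
  obtain ⟨m, σ, hσ, rfl⟩ := hθ
  haveI := hσ
  have hm : charDegree σ.character = m :=
    charDegree_of_eq (by rw [Representation.char_one, Module.finrank_fin_fun])
  haveI : (K.subgroupOf M).Normal := hKn.subgroupOf M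
  let σ' : Representation ℂ (K.subgroupOf M) (Fin m → ℂ) :=
    σ.comp (Subgroup.subgroupOfEquivOfLe hKM).toMonoidHom
  haveI : σ'.IsIrreducible := by
    rw [isIrreducible_iff_isIrrCharacter]
    exact isIrrCharacter_comp_equiv (Subgroup.subgroupOfEquivOfLe hKM) ⟨m, σ, hσ, rfl⟩
  -- invariance of the determinant
  have hdinv : ∀ s ∈ S, ∀ k k' : K, (k' : G) = s * k * s⁻¹ → detHom σ k' = detHom σ k := by
    intro s hs k k' hk
    obtain ⟨A, hA⟩ := exists_lift hσ (by rw [Subgroup.normalizer_eq_top]; trivial)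
      (fun n n' hn => hinv s hs n n' hn)
    refine Units.ext ?_
    rw [detHom_apply, detHom_apply]
    have h1 : σ k' = (A : Op m) * σ k * ((A⁻¹ : (Op m)ˣ) : Op m) := by
      rw [hA.2 k k' hk, mul_assoc, Units.mul_inv, mul_one]
    rw [h1, map_mul, map_mul, mul_right_comm, ← map_mul, Units.mul_inv, map_one, one_mul]
  choose kf hkf sf hsf hxf using fun x : M => exists_decomp hM (x : G) x.2
  have huniq : ∀ (x : M) (k s : G), k ∈ K → s ∈ S → (x : G) = k * s → kf x = k ∧ sf x = s :=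
    fun x k s hk hs h => decomp_unique hK hS (hkf x) hk (hsf x) hs ((hxf x).symm.trans h)
  let Δ : M →* ℂˣ :=
    { toFun := fun x => detHom σ ⟨kf x, hkf x⟩ * μ ⟨sf x, hsf x⟩ ^ m
      map_one' := by
        obtain ⟨h1, h2⟩ := huniq 1 1 1 (one_mem _) (one_mem _) (by simp)
        simp only [h1, h2, show (⟨(1 : G), one_mem K⟩ : K) = 1 from rfl,
          show (⟨(1 : G), one_mem S⟩ : S) = 1 from rfl, map_one, one_pow, mul_one]
      map_mul' := fun x y => by
        have hk : kf x * (sf x * kf y * (sf x)⁻¹) ∈ K := mul_mem (hkf x) (hKn.conj_mem _ (hkf y) _)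
        obtain ⟨h1, h2⟩ := huniq (x * y) _ _ hk (mul_mem (hsf x) (hsf y)) (by
          rw [Subgroup.coe_mul, hxf x, hxf y]; group)
        have hc : detHom σ ⟨sf x * kf y * (sf x)⁻¹, hKn.conj_mem _ (hkf y) _⟩ =
            detHom σ ⟨kf y, hkf y⟩ := hdinv _ (hsf x) _ _ rfl
        have e1 : (⟨kf (x * y), hkf (x * y)⟩ : K) =
            ⟨kf x, hkf x⟩ * ⟨sf x * kf y * (sf x)⁻¹, hKn.conj_mem _ (hkf y) _⟩ := Subtype.ext h1
        have e2 : (⟨sf (x * y), hsf (x * y)⟩ : S) = ⟨sf x, hsf x⟩ * ⟨sf y, hsf y⟩ := Subtype.ext h2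
        rw [e1, e2, map_mul, map_mul, hc, mul_pow]
        exact mul_mul_mul_comm _ _ _ _ }
  have hΔK : ∀ n : K.subgroupOf M, Δ n = detHom σ' n := by
    intro n
    obtain ⟨h1, h2⟩ := huniq (n : M) _ 1 n.2 (one_mem _) (by simp)
    show detHom σ ⟨kf n, hkf n⟩ * μ ⟨sf n, hsf n⟩ ^ m = detHom σ ⟨_, n.2⟩
    simp only [h2, show (⟨(1 : G), one_mem S⟩ : S) = 1 from rfl, map_one, one_pow, mul_one]
    exact congrArg (detHom σ) (Subtype.ext h1)
  have hinv' : ∀ (g : M) (n : K.subgroupOf M),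
      σ'.character (MulAut.conjNormal g n) = σ'.character n := by
    intro g n
    obtain ⟨k, hk, s, hs, hg⟩ := exists_decomp hM (g : G) g.2
    let n1 : K := ⟨_, n.2⟩
    let n2 : K := ⟨s * (n1 : G) * s⁻¹, hKn.conj_mem _ n1.2 s⟩
    have h2 : σ.character n2 = σ.character n1 := hinv s hs _ _ rfl
    have h3 := (isCharacter_character σ).isClassFunction n2 ⟨k, hk⟩
    show σ.character ⟨_, (MulAut.conjNormal g n).2⟩ = σ.character n1
    rw [← h2, ← h3]
    refine congrArg σ.character (Subtype.ext ?_)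
    show ((MulAut.conjNormal g n : K.subgroupOf M) : M).1 = k * (s * _ * s⁻¹) * k⁻¹
    rw [MulAut.conjNormal_apply, Subgroup.coe_mul, Subgroup.coe_mul, Subgroup.coe_inv, hg]
    simp only [n1, Subgroup.coe_subtype]
    group
  obtain ⟨e, he⟩ := index_dvd_card hKM hSM hM hK hS
  have hcop : Nat.Coprime (K.subgroupOf M).index (finrank ℂ (Fin m → ℂ)) := by
    rw [he, Module.finrank_fin_fun]
    exact Nat.Coprime.pow_left e ((hpf.out.coprime_iff_not_dvd).mpr (hm ▸ hdeg))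
  obtain ⟨ρ₀, hρ₀⟩ := exists_extension_of_det σ' hinv' hcop Δ hΔK
  obtain ⟨ρ, hρ, hρdet⟩ := exists_extension_det_eq hρ₀ hcop Δ hΔK
  haveI : ρ.IsIrreducible := isIrreducible_of_extension hρ
  refine ⟨ρ.character, (isIrreducible_iff_isIrrCharacter ρ).mp inferInstance,
    fun k => congrArg (LinearMap.trace ℂ _) (hρ ⟨⟨k, hKM k.2⟩, k.2⟩), fun s => ?_⟩
  rw [detChar_character, hρdet, hm]
  obtain ⟨h1, h2⟩ := huniq ⟨s, hSM s.2⟩ 1 s (one_mem _) s.2 (one_mul _).symm
  show ((detHom σ ⟨kf ⟨s, hSM s.2⟩, _⟩ * μ ⟨sf ⟨s, hSM s.2⟩, _⟩ ^ m : ℂˣ) : ℂ) = _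
  simp only [h1, h2, show (⟨(1 : G), one_mem K⟩ : K) = 1 from rfl, map_one, one_mul,
    Units.val_pow_eq_pow_val]

end Setting

theorem pow_eq_pow_cancel {X : Type u} [Monoid X] {x y : ℂˣ} {d n : ℕ} (hd : Nat.Coprime d n)
    (hx : x ^ n = 1) (hy : y ^ n = 1) (h : x ^ d = y ^ d) : x = y := by
  rw [← div_eq_one] at h ⊢
  rw [← div_pow] at h
  have := pow_gcd_eq_one.mpr ⟨h, show (x / y) ^ n = 1 by rw [div_pow, hx, hy, div_one]⟩
  rwa [hd.gcd_eq_one, pow_one] at this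

theorem mu_pow_card {S : Subgroup G} (μ : S →* ℂˣ) (s : S) : μ s ^ Nat.card S = 1 := by
  rw [← map_pow, pow_card_eq_one', map_one]

variable [Fintype G]

open Classical in
/-- The summand through pairs. -/
theorem sideSum_pairs {p : ℕ} [hpf : Fact p.Prime] {K S M L A : Subgroup G} [K.Normal] [M.Normal]
    [Fintype M] [Fintype K] (hKM : K ≤ M) (hSM : S ≤ M) (hM : M ≤ K ⊔ S) (hK : ¬ p ∣ Nat.card K)
    (hS : IsPGroup p S) (hL : L ≤ Subgroup.center G) (hLM : L ≤ M) (l : L →* ℂˣ)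
    (hA : A ≤ Subgroup.normalizer (S : Set G)) (hA' : ¬ p ∣ Nat.card A) {a b : G} (ha : a ∈ A)
    (hb : b ∈ A) :
    sideSum (SideSet p hLM l) a b =
      (∑ θ ∈ Finset.univ.filter (fun θ : IrrCharacter K => θ ∈ PrimeSet K S l),
        omega (θ : K → ℂ) a b) * (muCount S l a b : ℂ) := by
  have hp := hpf.out
  obtain ⟨eS, heS⟩ := IsPGroup.iff_card.mp hS
  have hcopd : ∀ {d : ℕ}, ¬ p ∣ d → Nat.Coprime d (Nat.card S) := fun hd =>
    heS ▸ Nat.Coprime.pow_right eS ((hp.coprime_iff_not_dvd).mpr hd).symm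
  have hdegK : ∀ θ : IrrCharacter K, ¬ p ∣ charDegree (θ : K → ℂ) := fun θ hd => by
    obtain ⟨d, hd0, hd1⟩ := θ.2.exists_degree
    rw [charDegree_of_eq hd1] at hd
    exact hK (hd.trans (degree_dvd_card θ.2 hd1))
  -- the pairs
  let Par := {θ : IrrCharacter K // θ ∈ PrimeSet K S l} × {μ : S →* ℂˣ // MuOver S l μ}
  choose F hF1 hF2 hF3 using fun q : Par =>
    exists_pair_char hKM hSM hM hK hS q.1.1.2 (hdegK q.1.1) q.1.2.1 q.2.1
  have hFdeg : ∀ q : Par, charDegree (F q) = charDegree (q.1.1 : K → ℂ) := fun q => by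
    have h1 := hF2 q 1
    simp only [charDegree, ← h1]
    rfl
  have hFmem : ∀ q : Par, (⟨F q, hF1 q⟩ : IrrCharacter M) ∈ SideSet p hLM l := by
    intro q
    refine ⟨fun hd => hdegK q.1.1 (hFdeg q ▸ hd), fun z => ?_⟩
    obtain ⟨k, hk, s, hs, hz, hkL, hsL⟩ := central_decomp hKM hSM hM hK hS hL z.2 (hLM z.2)
    obtain ⟨d, ρ, hρ, hρχ⟩ := hF1 q
    haveI := hρ
    haveI : Nontrivial (Fin d → ℂ) := by
      haveI : NeZero d := ⟨by
        have := irreducible_finrank_pos ρ; rw [Module.finrank_fin_fun] at this; exact this.ne'⟩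
      infer_instance
    obtain ⟨c, hc⟩ := exists_smul_of_comm ρ (ρ ⟨s, hSM hs⟩) fun x => by
      rw [← map_mul, ← map_mul]
      exact congrArg ρ (Subtype.ext (Subgroup.mem_center_iff.mp (hL hsL) x).symm)
    have hdd : charDegree (F q) = d := by
      rw [← hρχ]; exact charDegree_of_eq (by rw [Representation.char_one, Module.finrank_fin_fun])
    have h1 := hF3 q ⟨s, hs⟩
    rw [← hρχ, detChar_character] at h1
    have h2 : c ^ d = ((q.2.1 ⟨s, hs⟩ : ℂ)) ^ d := by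
      rw [← hFdeg, hdd] at h1
      rw [← h1]
      show _ = LinearMap.det (ρ ⟨s, hSM hs⟩)
      rw [hc, LinearMap.det_smul, map_one, mul_one, Module.finrank_fin_fun]
    have h3 : c ^ Nat.card S = 1 := by
      refine smul_one_injective (W := Fin d → ℂ) ?_
      have : ρ ⟨s, hSM hs⟩ ^ Nat.card S = 1 := by
        rw [← map_pow, show (⟨s, hSM hs⟩ : M) ^ Nat.card S = 1 from Subtype.ext (by
          simp only [SubmonoidClass.coe_pow, OneMemClass.coe_one]
          exact congrArg Subtype.val (pow_card_eq_one' (x := (⟨s, hs⟩ : S)))), map_one]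
      rw [hc, smul_pow, one_pow] at this
      rw [this, one_smul]
    have hc0 : c ≠ 0 := fun h => by simp [h] at h3
    have h4 : Units.mk0 c hc0 = q.2.1 ⟨s, hs⟩ := pow_eq_pow_cancel (X := ℂ)
      (hcopd fun hd => hdegK q.1.1 (hFdeg q ▸ hdd ▸ hd)) (Units.ext (by simpa using h3))
      (mu_pow_card _ _) (Units.ext (by simpa using h2))
    have h5 : c = (l ⟨s, hsL⟩ : ℂ) := by
      rw [← q.2.2 ⟨s, hsL⟩ hs, ← h4]; rfl
    show F q ⟨z, hLM z.2⟩ = _ * F q 1
    have hze : (⟨z, hLM z.2⟩ : M) = ⟨k, hKM hk⟩ * ⟨s, hSM hs⟩ := Subtype.ext hz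
    have hle : l z = l ⟨k, hkL⟩ * l ⟨s, hsL⟩ := by rw [← map_mul]; exact congrArg l (Subtype.ext hz)
    have h6 : F q (⟨k, hKM hk⟩ * ⟨s, hSM hs⟩) = c * F q ⟨k, hKM hk⟩ := by
      rw [← hρχ]
      show LinearMap.trace ℂ _ (ρ _) = c * LinearMap.trace ℂ _ (ρ _)
      rw [map_mul ρ, hc, mul_smul_comm, mul_one, map_smul, smul_eq_mul]
    have h7 : F q 1 = (q.1.1 : K → ℂ) 1 := hF2 q 1
    rw [hze, h6, hF2 q ⟨k, hk⟩, q.1.2.2 ⟨k, hkL⟩ hk, hle, h5, h7, Units.val_mul]
    ring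
  let Φ : Par → {ψ : IrrCharacter M // ψ ∈ SideSet p hLM l} := fun q => ⟨⟨F q, hF1 q⟩, hFmem q⟩
  have hinj : Function.Injective Φ := by
    intro q q' h
    have h' : F q = F q' := congrArg (fun x : {ψ : IrrCharacter M // ψ ∈ SideSet p hLM l} =>
      (x.1 : M → ℂ)) h
    have hθ : q.1 = q'.1 := Subtype.ext (Subtype.ext (funext fun k => by
      rw [← hF2 q k, ← hF2 q' k, h']))
    refine Prod.ext hθ (Subtype.ext (MonoidHom.ext fun s => ?_))
    have h1 := hF3 q s
    rw [h', hF3 q' s, ← hθ] at h1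
    exact pow_eq_pow_cancel (X := ℂ) (hcopd (hdegK q.1.1)) (mu_pow_card _ _) (mu_pow_card _ _)
      (Units.ext (by simpa using h1.symm))
  have hsurj : Function.Surjective Φ := by
    rintro ⟨ψ, hψ⟩
    let θ : IrrCharacter K := ⟨_, res_irreducible hKM hSM hM hK hS ψ.2 hψ.1⟩
    have hθ : θ ∈ PrimeSet K S l := by
      refine ⟨fun s hs k k' hk => ?_, fun z hz => ?_⟩
      · refine (congrArg (ψ : M → ℂ) (Subtype.ext ?_)).trans
          (ψ.2.isClassFunction ⟨k, hKM k.2⟩ ⟨s, hSM hs⟩)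
        simpa using hk
      · exact hψ.2 z
    obtain ⟨d, ρ, hρ, hρχ⟩ := ψ.2
    haveI := hρ
    haveI : Nontrivial (Fin d → ℂ) := by
      haveI : NeZero d := ⟨by
        have := irreducible_finrank_pos ρ; rw [Module.finrank_fin_fun] at this; exact this.ne'⟩
      infer_instance
    have hd : charDegree (θ : K → ℂ) = d := by
      refine charDegree_of_eq ?_
      show (ψ : M → ℂ) 1 = (d : ℂ)
      rw [← hρχ, Representation.char_one, Module.finrank_fin_fun]
    obtain ⟨r, w, hrw⟩ := Nat.isCoprime_iff_coprime.mpr (hcopd (hd ▸ hdegK θ))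
    let δ : S →* ℂˣ := (detHom ρ).comp (Subgroup.inclusion hSM)
    let μ : S →* ℂˣ := δ ^ r
    have hμd : ∀ s, μ s ^ d = δ s := fun s => by
      conv_rhs => rw [← zpow_one (δ s), ← hrw, zpow_add, zpow_mul' (δ s) w, zpow_natCast (δ s),
        mu_pow_card, one_zpow, mul_one]
      rw [zpow_mul, zpow_natCast]; rfl
    have hμ : MuOver S l μ := by
      intro z hz
      refine pow_eq_pow_cancel (X := ℂ) (hcopd (hd ▸ hdegK θ)) (mu_pow_card _ _) ?_ ?_
      · rw [← map_pow, show z ^ Nat.card S = 1 from Subtype.ext (by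
          simp only [SubmonoidClass.coe_pow, OneMemClass.coe_one]
          exact congrArg Subtype.val (pow_card_eq_one' (x := (⟨z, hz⟩ : S)))), map_one]
      · rw [hμd]
        obtain ⟨c, hc⟩ := exists_smul_of_comm ρ (ρ ⟨z, hLM z.2⟩) fun x => by
          rw [← map_mul, ← map_mul]
          exact congrArg ρ (Subtype.ext (Subgroup.mem_center_iff.mp (hL z.2) x).symm)
        have h1 := hψ.2 z
        rw [← hρχ, Representation.char_one] at h1
        change LinearMap.trace ℂ _ (ρ _) = _ at h1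
        rw [hc, map_smul, LinearMap.trace_one, smul_eq_mul] at h1
        have h2 : c = (l z : ℂ) := mul_right_cancel₀ (Nat.cast_ne_zero.mpr Module.finrank_pos.ne') h1
        refine Units.ext ?_
        show LinearMap.det (ρ ⟨z, _⟩) = _
        rw [hc, LinearMap.det_smul, map_one, mul_one, Module.finrank_fin_fun, h2,
          Units.val_pow_eq_pow_val]
    refine ⟨(⟨θ, hθ⟩, ⟨μ, hμ⟩), Subtype.ext (Subtype.ext ?_)⟩
    refine eq_of_res_det hKM hSM hM hK hS θ.2 (hdegK θ) (hF1 _).isCharacter ψ.2.isCharacter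
      (hF2 _) (fun k => rfl) fun s => ?_
    rw [hF3]
    show (μ s : ℂ) ^ charDegree (θ : K → ℂ) = _
    rw [hd, ← hρχ, detChar_character, ← Units.val_pow_eq_pow_val, hμd]
    rfl
  -- the scalars
  have hAK : a * b * a⁻¹ * b⁻¹ ∈ M → a * b * a⁻¹ * b⁻¹ ∈ K := by
    intro hcM
    obtain ⟨k, hk, s, hs, hcs⟩ := exists_decomp hM _ hcM
    have hcA : a * b * a⁻¹ * b⁻¹ ∈ A :=
      mul_mem (mul_mem (mul_mem ha hb) (inv_mem ha)) (inv_mem hb)
    have h1 : ((a * b * a⁻¹ * b⁻¹ : G) : G ⧸ K) = (s : G ⧸ K) := by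
      rw [hcs, QuotientGroup.mk_mul, (QuotientGroup.eq_one_iff k).mpr hk, one_mul]
    have h2 : orderOf (s : G ⧸ K) ∣ Nat.card A := h1 ▸
      (orderOf_map_dvd (QuotientGroup.mk' K) _).trans (A.orderOf_dvd_natCard hcA)
    have h3 : orderOf (s : G ⧸ K) ∣ Nat.card S :=
      (orderOf_map_dvd (QuotientGroup.mk' K) _).trans (S.orderOf_dvd_natCard hs)
    have h4 := Nat.eq_one_of_dvd_coprimes (hcopd hA') h2 h3
    rw [← h1, orderOf_eq_one_iff, QuotientGroup.eq_one_iff] at h4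
    exact h4
  have hnM : ∀ x : G, x ∈ Subgroup.normalizer (M : Set G) := fun x => by
    rw [Subgroup.normalizer_eq_top]; trivial
  have hnK : ∀ x : G, x ∈ Subgroup.normalizer (K : Set G) := fun x => by
    rw [Subgroup.normalizer_eq_top]; trivial
  have hfix : ∀ (q : Par) (x : G), x ∈ A →
      (IsConjCharOf M x (F q) (F q) ↔ IsConjCharOf K x (q.1.1 : K → ℂ) (q.1.1 : K → ℂ) ∧
        MuFixed S x q.2.1) := by
    intro q x hx
    have hxS := hA hx
    let e := twistEquiv M (hnM x)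
    have hdete : ∀ s : S, detChar (fun n => F q (e n)) ⟨s, hSM s.2⟩ =
        detChar (F q) ⟨twistEquiv S hxS s, hSM (twistEquiv S hxS s).2⟩ := by
      intro s
      obtain ⟨d, ρ, hρχ⟩ := (hF1 q).isCharacter
      have h1 : (fun n => F q (e n)) = Representation.character
          (ρ.comp e.toMonoidHom : Representation ℂ M (Fin d → ℂ)) := by
        funext n; rw [← hρχ]; rfl
      rw [h1, ← hρχ, detChar_character, detChar_character]
      exact congrArg (fun y => ((detHom ρ y : ℂˣ) : ℂ)) (Subtype.ext rfl)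
    constructor
    · intro h
      refine ⟨fun k k' hk => by rw [← hF2 q k', ← hF2 q k]; exact h _ _ hk, fun s s' hs => ?_⟩
      have h1 : (fun n => F q (e n)) = F q := funext fun n => h n _ (coe_twistEquiv M (hnM x) n)
      have h2 := hdete s
      rw [h1, hF3, show twistEquiv S hxS s = s' from Subtype.ext hs.symm, hF3] at h2
      exact (pow_eq_pow_cancel (X := ℂ) (hcopd (hdegK q.1.1)) (mu_pow_card _ _) (mu_pow_card _ _)
        (Units.ext (by simpa using h2))).symm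
    · rintro ⟨hθ, hμ⟩ n n' hn
      have h1 : (fun n => F q (e n)) = F q := by
        refine eq_of_res_det hKM hSM hM hK hS q.1.1.2 (hdegK q.1.1)
          ((hF1 q).isCharacter.comp e.toMonoidHom) (hF1 q).isCharacter (fun k => ?_) (hF2 q)
          fun s => ?_
        · show F q (e _) = _
          rw [show e ⟨k, hKM k.2⟩ = ⟨twistEquiv K (hnK x) k, hKM (twistEquiv K (hnK x) k).2⟩ from
            Subtype.ext rfl, hF2]
          exact hθ k _ (coe_twistEquiv K (hnK x) k)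
        · rw [hdete s, hF3, hF3, hμ s _ (coe_twistEquiv S hxS s)]
      rw [show n' = e n from Subtype.ext hn]
      exact congrFun h1 n
  have hval : ∀ q : Par, omega (F q) a b =
      if MuFixed S a q.2.1 ∧ MuFixed S b q.2.1 then omega (q.1.1 : K → ℂ) a b else 0 := by
    intro q
    have hres : (fun k : K => F q ⟨k, hKM k.2⟩) = (q.1.1 : K → ℂ) := funext (hF2 q)
    by_cases h : ∃ w, IsOmega (F q) a b w
    · obtain ⟨w, hw⟩ := h
      rw [if_pos ⟨((hfix q a ha).mp hw.left_fixed.2).2, ((hfix q b hb).mp hw.right_fixed.2).2⟩]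
      have h1 := hw.restrict hKM (hres ▸ q.1.1.2) (hnK a) (hnK b) (hAK hw.comm_mem)
      rw [hres] at h1
      rw [omega_eq hw, omega_eq h1]
    · rw [omega_of_not h]
      split_ifs with hμ
      · rw [omega_of_not]
        rintro ⟨w, hw⟩
        exact h (exists_isOmega (hF1 q) (hnM a) (hnM b)
          ((hfix q a ha).mpr ⟨hw.left_fixed.2, hμ.1⟩) ((hfix q b hb).mpr ⟨hw.right_fixed.2, hμ.2⟩)
          (hKM hw.comm_mem))
      · rfl
  haveI : Finite (S →* ℂˣ) := by
    haveI : NeZero (Nat.card S) := ⟨Nat.card_pos.ne'⟩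
    exact Finite.of_injective (fun μ : S →* ℂˣ => fun s : S =>
      (⟨μ s, (mem_rootsOfUnity _ _).mpr (mu_pow_card μ s)⟩ : rootsOfUnity (Nat.card S) ℂ))
      fun μ ν h => MonoidHom.ext fun s => congrArg Subtype.val (congrFun h s)
  haveI := Fintype.ofFinite (S →* ℂˣ)
  rw [sideSum, Finset.sum_subtype _ (p := fun ψ : IrrCharacter M => ψ ∈ SideSet p hLM l) (by simp),
    ← Fintype.sum_equiv (Equiv.ofBijective Φ ⟨hinj, hsurj⟩) (fun q : Par => omega (F q) a b) _
      (fun q => rfl),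
    Finset.sum_subtype _ (p := fun θ : IrrCharacter K => θ ∈ PrimeSet K S l) (by simp),
    Fintype.sum_prod_type, Finset.sum_mul]
  refine Finset.sum_congr rfl fun θ _ => ?_
  simp only [hval]
  rw [← Finset.sum_filter, Finset.sum_const, nsmul_eq_mul, mul_comm]
  congr 2
  rw [← Fintype.card_subtype, ← Nat.card_eq_fintype_card, muCount]
  exact Nat.card_congr (Equiv.subtypeSubtypeEquivSubtypeInter _
    (fun μ => MuFixed S a μ ∧ MuFixed S b μ))

end Cfsg.Lib.Char.RelMcKay
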