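import Cfsg.Agent.Lib.Char.RelMcKay.Core

/-!
# The step with a normal `p'`-section, for an arbitrary invariant character
-/

set_option autoImplicit false
set_option linter.unusedSectionVars false
set_option linter.style.haveILetI false

namespace Cfsg.Lib.Char.RelMcKay

open Cfsg Module
open Cfsg.Lib.Char
open scoped ComplexConjugate

universe u

variable {G : Type u} [Group G] [Finite G]

theorem relIndex_sup_eq {H K : Subgroup G} [K.Normal] :
    H.relIndex (K ⊔ H) = H.relIndex K := by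
  have e1 : (H ⊓ K).relIndex H = K.relIndex H := by rw [inf_comm, Subgroup.inf_relIndex_right]
  have e2 : (H ⊓ K).relIndex K = H.relIndex K := Subgroup.inf_relIndex_right H K
  have e3 : K.relIndex (K ⊔ H) = K.relIndex H := Subgroup.relIndex_sup_left H K
  have e4 := Subgroup.relIndex_mul_relIndex (H ⊓ K) H (K ⊔ H) inf_le_left le_sup_right
  have e5 := Subgroup.relIndex_mul_relIndex (H ⊓ K) K (K ⊔ H) inf_le_right le_sup_left
  rw [e1] at e4
  rw [e2, e3, mul_comm] at e5
  exact Nat.eq_of_mul_eq_mul_left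
    (Nat.pos_of_ne_zero (Subgroup.index_ne_zero_of_finite (H := K.subgroupOf H))) (e4.trans e5.symm)

/-- Nothing of degree prime to `p` lies over a character of degree divisible by `p`. -/
theorem cnt_eq_zero_of_dvd {p : ℕ} {L : Subgroup G} [L.Normal] {ν : L → ℂ}
    (hν : IsIrrCharacter L ν) (hd : p ∣ charDegree ν) : cnt p L ν = 0 := by
  classical
  haveI := Fintype.ofFinite G
  haveI := Fintype.ofFinite L
  rw [cnt, Nat.card_eq_zero]
  refine Or.inl ⟨fun χ => χ.2.1 ?_⟩
  have hc := (over_iff L ν _).mp χ.2.2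
  obtain ⟨k, hk⟩ := (χ.1.2.isCharacter.comp L.subtype).exists_nat_classInner hν.isCharacter
  have hk' : classInner (fun n : L => (χ.1 : G → ℂ) n) ν = (k : ℂ) := hk
  have h1 := clifford_degree L χ.1.2 hν hc
  rw [hk', ← charDegree_cast χ.1.2, ← charDegree_cast hν] at h1
  have h2 : charDegree (χ.1 : G → ℂ) = k * (inertia L ν).index * charDegree ν := by exact_mod_cast h1
  exact h2 ▸ hd.mul_left _

theorem resTo_irr {L U : Subgroup G} (hLU : L ≤ U) {ν : L → ℂ} (hν : IsIrrCharacter L ν) :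
    IsIrrCharacter (L.subgroupOf U) (resTo L ν U) :=
  isIrrCharacter_comp_equiv (Subgroup.subgroupOfEquivOfLe hLU) hν

/-- The normal `p'`-section step. -/
theorem step_pPrime {p : ℕ} [hpf : Fact p.Prime] (K L S : Subgroup G) [K.Normal] [L.Normal]
    {ν : L → ℂ} (hν : IsIrrCharacter L ν) (hinv : ∀ g, conjTwist L ν g = ν) (hLK : L ≤ K)
    (hKp : ¬ p ∣ L.relIndex K) (hS : IsPGroup p S) (hSidx : ¬ p ∣ S.index)
    (hKS : (K ⊔ S).Normal) :
    cnt p L ν = cntIn p L ν (Subgroup.normalizer ((L ⊔ S : Subgroup G) : Set G)) := by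
  classical
  have hp := hpf.out
  set P := L ⊔ S with hPdef
  set N := Subgroup.normalizer (P : Set G) with hNdef
  have hLN : L ≤ N := le_sup_left.trans Subgroup.le_normalizer
  have hdegν : charDegree (resTo L ν N) = charDegree ν := rfl
  by_cases hdiv : p ∣ charDegree ν
  · rw [cnt_eq_zero_of_dvd hν hdiv]
    exact (cnt_eq_zero_of_dvd (resTo_irr hLN hν) (hdegν ▸ hdiv)).symm
  haveI := Fintype.ofFinite G
  obtain ⟨m, σ, hσ, rfl⟩ := hν
  haveI := hσ
  have hm : ¬ p ∣ m := by
    rwa [show charDegree σ.character = m from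
      charDegree_of_eq (by rw [Representation.char_one, Module.finrank_fin_fun])] at hdiv
  have hinvσ : ∀ (g : G) (n : L), σ.character (MulAut.conjNormal g n) = σ.character n := fun g n => by
    refine Eq.trans ?_ (congrFun (hinv g) n)
    exact congrArg σ.character (Subtype.ext (by simp))
  haveI : Finite (detOne σ) := finite_detOne σ
  let π : detOne σ →* G := detProj σ
  have hπ : Function.Surjective π := detProj_surjective σ hinvσ
  let R : Representation ℂ (detOne σ) (Fin m → ℂ) := detRep σ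
  set Lt := L.comap π with hLt
  haveI : Nontrivial (Fin m → ℂ) := by
    haveI : NeZero m := ⟨by
      have := irreducible_finrank_pos σ; rw [Module.finrank_fin_fun] at this; exact this.ne'⟩
    infer_instance
  have hcancel : ∀ (a b : ℂ) (n : L), a • σ n = b • σ n → a = b := by
    intro a b n h
    have h1 := congrArg (fun X : Module.End ℂ (Fin m → ℂ) => X * σ n⁻¹) h
    simp only [smul_mul_assoc, ← map_mul σ, mul_inv_cancel, map_one σ] at h1
    exact smul_one_injective h1
  choose c hc0 hc using fun x : Lt => exists_scalar_detRep σ (x := (x : detOne σ)) x.2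
  let π' : Lt →* L := π.subgroupComap L
  have hcπ : ∀ x : Lt, R (x : detOne σ) = c x • σ (π' x) := hc
  have hc1 : c 1 = 1 := hcancel _ _ (π' 1) (by rw [← hcπ 1, map_one π', map_one σ, one_smul]; exact map_one R)
  have hcmul : ∀ x y, c (x * y) = c x * c y := fun x y => hcancel _ _ (π' (x * y)) (by
    rw [← hcπ, map_mul π', map_mul σ, Subgroup.coe_mul, map_mul R, hcπ, hcπ, smul_mul_smul_comm])
  let cHom : Lt →* ℂˣ :=
    MonoidHom.toHomUnits { toFun := c, map_one' := hc1, map_mul' := hcmul }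
  let lam : Lt →* ℂˣ := cHom⁻¹
  have hlam : ∀ x : Lt, R (x : detOne σ) = (((lam x)⁻¹ : ℂˣ) : ℂ) • σ (π' x) := fun x => by
    rw [hcπ]; simp [lam, cHom]
  have hlamconj : ∀ (y : detOne σ) (x : Lt) (hy : y * x * y⁻¹ ∈ Lt), lam ⟨_, hy⟩ = lam x := by
    intro y x hy
    refine inv_injective (Units.ext (hcancel _ _ (π' ⟨_, hy⟩) ?_))
    rw [← hlam ⟨_, hy⟩]
    show R (y * x * y⁻¹) = _
    rw [map_mul R, map_mul R, hlam x, mul_smul_comm, smul_mul_assoc]
    congr 1
    rw [show R y * σ (π' x) = σ (MulAut.conjNormal (π y) (π' x)) * R y from detRep_mul_comm σ y (π' x),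
      mul_assoc, ← map_mul R, mul_inv_cancel, map_one R, mul_one]
    refine congrArg σ (Subtype.ext ?_)
    rw [MulAut.conjNormal_apply]
    show π y * π (x : detOne σ) * (π y)⁻¹ = π (y * x * y⁻¹)
    simp
  have hLtn : Lt.Normal := inferInstance
  set N0 : Subgroup (detOne σ) := lam.ker.map Lt.subtype with hN0
  haveI : N0.Normal := ⟨by
    rintro _ ⟨x, hx, rfl⟩ y
    exact ⟨⟨_, hLtn.conj_mem _ x.2 y⟩, (hlamconj y x _).trans hx, rfl⟩⟩
  let q : detOne σ →* detOne σ ⧸ N0 := QuotientGroup.mk' N0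
  have hq : Function.Surjective q := QuotientGroup.mk'_surjective N0
  set Ls := Lt.map q with hLs
  have hker : q.ker ≤ Lt := by
    rw [QuotientGroup.ker_mk', hN0]; exact Subgroup.map_subtype_le _
  have hcomap : Ls.comap q = Lt := by rw [hLs, Subgroup.comap_map_eq, sup_eq_left]; exact hker
  have hqeq : ∀ x y : Lt, q (x : detOne σ) = q (y : detOne σ) → lam x = lam y := by
    intro x y h
    obtain ⟨z, hz, hzxy⟩ := (QuotientGroup.eq.mp h : (x : detOne σ)⁻¹ * y ∈ N0)
    have h1 : z = x⁻¹ * y := Subtype.ext hzxy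
    rw [h1] at hz
    have hz' : lam (x⁻¹ * y) = 1 := hz
    rwa [map_mul, map_inv, inv_mul_eq_one] at hz'
  choose pre hpre hqpre using fun z : Ls => Subgroup.mem_map.mp z.2
  let l : Ls →* ℂˣ :=
    { toFun := fun z => lam ⟨pre z, hpre z⟩
      map_one' := by rw [hqeq ⟨pre 1, hpre 1⟩ 1 (by simp [hqpre]), map_one]
      map_mul' := fun a b => by
        rw [← map_mul]
        exact hqeq ⟨pre (a * b), hpre _⟩ (⟨pre a, hpre a⟩ * ⟨pre b, hpre b⟩) (by simp [hqpre]) }
  have hdata : TripleData π q L Ls σ R l := by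
    refine ⟨hπ, hq, hcomap, ?_, ?_⟩
    · rintro _ ⟨x, hx, rfl⟩
      refine Subgroup.mem_center_iff.mpr fun g => ?_
      obtain ⟨y, rfl⟩ := hq g
      rw [← map_mul, ← map_mul]
      refine (QuotientGroup.eq).mpr ?_
      have hy : y⁻¹ * x * y⁻¹⁻¹ ∈ Lt := hLtn.conj_mem x hx y⁻¹
      refine ⟨(⟨x, hx⟩ : Lt)⁻¹ * ⟨_, hy⟩, ?_, ?_⟩
      · exact MonoidHom.mem_ker.mpr (by
          rw [map_mul, map_inv, hlamconj y⁻¹ ⟨x, hx⟩ hy, inv_mul_cancel])
      · simp [mul_assoc]
    · intro x hx hx'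
      have h1 : l ⟨q x, hx'⟩ = lam ⟨x, hx⟩ :=
        hqeq ⟨pre ⟨q x, hx'⟩, hpre _⟩ ⟨x, hx⟩ (hqpre _)
      rw [h1]
      exact hlam ⟨x, hx⟩
  -- the subgroups of the new group
  set Q := detOne σ ⧸ N0
  set Ps := (P.comap π).map q with hPs
  set Ks := (K.comap π).map q with hKs
  haveI : Ks.Normal := (inferInstance : (K.comap π).Normal).map q hq
  have hqker : ∀ U : Subgroup G, L ≤ U → q.ker ≤ U.comap π := fun U hU =>
    hker.trans (Subgroup.comap_mono hU)
  have hback : ∀ U : Subgroup G, L ≤ U → ((U.comap π).map q).comap q = U.comap π := fun U hU => by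
    rw [Subgroup.comap_map_eq, sup_eq_left]; exact hqker U hU
  have hrel : ∀ U : Subgroup G, L ≤ U → Ls.relIndex ((U.comap π).map q) = L.relIndex U := by
    intro U hU
    rw [← Subgroup.relIndex_comap, hcomap, hLt, Subgroup.relIndex_comap,
      Subgroup.map_comap_eq_self_of_surjective hπ]
  have hPsidx : Ps.index = P.index := by
    rw [← Subgroup.index_comap_of_surjective _ hq, hback P le_sup_left,
      Subgroup.index_comap_of_surjective _ hπ]
  have hPidx : ¬ p ∣ P.index := fun h => hSidx (h.trans (Subgroup.index_dvd_of_le le_sup_right))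
  obtain ⟨T⟩ : Nonempty (Sylow p Ps) := inferInstance
  set Ss : Subgroup Q := (T : Subgroup Ps).map Ps.subtype with hSs
  have hSsp : IsPGroup p Ss := T.isPGroup'.map _
  have hSsPs : Ss ≤ Ps := Subgroup.map_subtype_le _
  have hSsrel : ¬ p ∣ Ss.relIndex Ps := by
    rw [Subgroup.relIndex, hSs,
      show ((T : Subgroup Ps).map Ps.subtype).subgroupOf Ps = (T : Subgroup Ps) from
        Subgroup.comap_map_eq_self_of_injective Ps.subtype_injective _]
    exact T.not_dvd_index
  have hSsidx : ¬ p ∣ Ss.index := by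
    rw [← Subgroup.relIndex_mul_index hSsPs, hPsidx]
    exact fun h => (hp.dvd_mul.mp h).elim hSsrel hPidx
  have hLsPs : Ls ≤ Ps := Subgroup.map_mono (Subgroup.comap_mono le_sup_left)
  have hPseq : Ls ⊔ Ss = Ps := by
    refine le_antisymm (sup_le hLsPs hSsPs) (Subgroup.relIndex_eq_one.mp ?_)
    refine Nat.eq_one_of_dvd_coprimes ?_ (Subgroup.relIndex_dvd_of_le_left Ps le_sup_left)
      (Subgroup.relIndex_dvd_of_le_left Ps le_sup_right)
    obtain ⟨e, he⟩ := IsPGroup.iff_card.mp hS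
    have h1 : Ls.relIndex Ps ∣ p ^ e := by
      rw [hrel P le_sup_left, hPdef, Subgroup.relIndex_sup_left, ← he]
      exact Subgroup.relIndex_dvd_card L S
    exact Nat.Coprime.coprime_dvd_left h1
      (Nat.Coprime.pow_left e ((hp.coprime_iff_not_dvd).mpr hSsrel))
  have hLsKs : Ls ≤ Ks := Subgroup.map_mono (Subgroup.comap_mono hLK)
  have hKsp : ¬ p ∣ Ls.relIndex Ks := by rwa [hrel K hLK]
  have hKsn : (Ks ⊔ Ss).Normal := by
    have h1 : Ks ⊔ Ss = ((K ⊔ S).comap π).map q := by
      calc Ks ⊔ Ss = Ks ⊔ Ls ⊔ Ss := by rw [sup_eq_left.mpr hLsKs]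
        _ = Ks ⊔ Ps := by rw [sup_assoc, hPseq]
        _ = _ := by
            rw [hKs, hPs, ← Subgroup.map_sup, Subgroup.comap_sup_eq π K P hπ, hPdef, ← sup_assoc,
              sup_eq_left.mpr hLK]
    rw [h1]
    haveI := hKS
    exact (inferInstance : ((K ⊔ S).comap π).Normal).map q hq
  have hNs : (N.comap π).map q = Subgroup.normalizer ((Ls ⊔ Ss : Subgroup Q) : Set Q) := by
    rw [hPseq, hNdef, Subgroup.comap_normalizer_eq_of_surjective P hπ, ← hback P le_sup_left,
      ← hPs, ← Subgroup.comap_normalizer_eq_of_surjective Ps hq,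
      Subgroup.map_comap_eq_self_of_surjective hq]
  have hcore := core Ks Ls Ss hdata.hcenter hLsKs hKsp hSsp hSsidx hKsn l
  rw [hdata.cnt_eq hp hm, hcore, ← hNs]
  let σN : Representation ℂ (L.subgroupOf N) (Fin m → ℂ) := σ.comp (subgroupOfHom L N)
  haveI : σN.IsIrreducible :=
    (isIrreducible_iff_isIrrCharacter σN).mpr (resTo_irr hLN ⟨m, σ, hσ, rfl⟩)
  exact ((hdata.restrict N).cnt_eq hp hm).symm

end Cfsg.Lib.Char.RelMcKay
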