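import Cfsg.Agent.Lib.Char.RelMcKay.Over
import Cfsg.Agent.Lib.Char.Triple
import Cfsg.Agent.Lib.Char.Linear

/-!
# Replacing an invariant character by a linear character of a central subgroup
-/

set_option autoImplicit false
set_option linter.unusedSectionVars false
set_option linter.style.haveILetI false

namespace Cfsg.Lib.Char.RelMcKay

open Cfsg Module
open Cfsg.Lib.Char
open scoped ComplexConjugate

universe u

theorem conj_units_eq {G : Type u} [Group G] [Finite G] (l : G →* ℂˣ) (g : G) :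
    conj (l g : ℂ) = (l g⁻¹ : ℂ) :=
  ((isIrrCharacter_linear l).isCharacter.apply_inv g).symm

/-- A central subgroup acts by the linear character lying below. -/
theorem apply_mul_central {G : Type u} [Group G] [Finite G] {L : Subgroup G}
    (hL : L ≤ Subgroup.center G) (l : L →* ℂˣ) {χ : G → ℂ} (hχ : IsIrrCharacter G χ)
    (h : Over L (fun z => (l z : ℂ)) χ) (g : G) (z : L) :
    χ (g * z) = (l z : ℂ) * χ g := by
  classical
  haveI := Fintype.ofFinite G
  haveI := Fintype.ofFinite L
  obtain ⟨d, ρ, hρ, rfl⟩ := hχ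
  haveI := hρ
  choose c hc using fun z : L => exists_smul_of_comm ρ (ρ (z : G)) fun x => by
    rw [← map_mul, ← map_mul]
    exact congrArg ρ (Subgroup.mem_center_iff.mp (hL z.2) x).symm
  have hχz : ∀ (y : L) (x : G), ρ.character (x * y) = c y * ρ.character x := fun y x => by
    show LinearMap.trace ℂ _ (ρ (x * y)) = c y * LinearMap.trace ℂ _ (ρ x)
    rw [map_mul, hc y, mul_smul_comm, mul_one, map_smul, smul_eq_mul]
  haveI : Nontrivial (Fin d → ℂ) := by
    haveI : NeZero d := ⟨by
      have := irreducible_finrank_pos ρ; rw [Module.finrank_fin_fun] at this; exact this.ne'⟩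
    infer_instance
  let μ : L →* ℂˣ := MonoidHom.toHomUnits
    { toFun := c
      map_one' := smul_one_injective (W := Fin d → ℂ) (by rw [← hc 1]; simp)
      map_mul' := fun x y => smul_one_injective (W := Fin d → ℂ) (by
        rw [← hc, Subgroup.coe_mul, map_mul, hc, hc, smul_mul_smul_comm, mul_one]) }
  rw [over_iff] at h
  have he : (fun z : L => (μ z : ℂ)) = fun z => (l z : ℂ) := by
    by_contra hne
    refine h ?_
    rw [show (fun z : L => ρ.character z) = (ρ.character 1) • fun z : L => (μ z : ℂ) from funext fun y => by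
      have := hχz y 1; rw [one_mul] at this; rw [this, Pi.smul_apply, smul_eq_mul, mul_comm]; rfl]
    rw [classInner_smul_left, classInner_irr_ne (isIrrCharacter_linear μ) (isIrrCharacter_linear l) hne,
      mul_zero]
  rw [hχz, ← congrFun he z]; rfl

variable {E G Q : Type u} [Group E] [Finite E] [Group G] [Finite G] [Group Q] [Finite Q]

/-- The data exchanging a character `σ` of `L` with a linear character `l` of a central `Ls`. -/
structure TripleData (π : E →* G) (q : E →* Q) (L : Subgroup G) (Ls : Subgroup Q) {m : ℕ}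
    (σ : Representation ℂ L (Fin m → ℂ)) (R : Representation ℂ E (Fin m → ℂ)) (l : Ls →* ℂˣ) :
    Prop where
  hπ : Function.Surjective π
  hq : Function.Surjective q
  hcomap : Ls.comap q = L.comap π
  hcenter : Ls ≤ Subgroup.center Q
  hR : ∀ x (hx : π x ∈ L) (hx' : q x ∈ Ls),
    R x = (((l ⟨q x, hx'⟩)⁻¹ : ℂˣ) : ℂ) • σ ⟨π x, hx⟩

variable {π : E →* G} {q : E →* Q} {L : Subgroup G} [L.Normal] {Ls : Subgroup Q} {m : ℕ}
  {σ : Representation ℂ L (Fin m → ℂ)} {R : Representation ℂ E (Fin m → ℂ)} {l : Ls →* ℂˣ}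

theorem TripleData.mem_iff (h : TripleData π q L Ls σ R l) (x : E) : π x ∈ L ↔ q x ∈ Ls := by
  rw [← Subgroup.mem_comap, ← h.hcomap, Subgroup.mem_comap]

theorem TripleData.invariant (h : TripleData π q L Ls σ R l) :
    ∀ g, conjTwist L σ.character g = σ.character := by
  intro g
  obtain ⟨y, rfl⟩ := h.hπ g
  funext n
  obtain ⟨x, hx⟩ := h.hπ n
  have hxL : π x ∈ L := hx ▸ n.2
  have hxc : π (y * x * y⁻¹) ∈ L := by
    rw [map_mul, map_mul, map_inv]; exact (inferInstance : L.Normal).conj_mem _ hxL _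
  have hq1 : q (y * x * y⁻¹) = q x := by
    rw [map_mul, map_mul, map_inv, Subgroup.mem_center_iff.mp (h.hcenter ((h.mem_iff x).mp hxL)),
      mul_inv_cancel_right]
  have h1 := h.hR x hxL ((h.mem_iff x).mp hxL)
  have h2 := h.hR (y * x * y⁻¹) hxc ((h.mem_iff _).mp hxc)
  have h3 : R.character (y * x * y⁻¹) = R.character x := by
    exact (isCharacter_character R).isClassFunction x y
  have h4 : (⟨q (y * x * y⁻¹), (h.mem_iff _).mp hxc⟩ : Ls) = ⟨q x, (h.mem_iff x).mp hxL⟩ :=
    Subtype.ext hq1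
  have h5 : LinearMap.trace ℂ _ (R (y * x * y⁻¹)) = LinearMap.trace ℂ _ (R x) := h3
  rw [h1, h2, h4, map_smul, map_smul, smul_eq_mul, smul_eq_mul] at h5
  have h6 := mul_left_cancel₀ (Units.ne_zero _) h5
  show LinearMap.trace ℂ _ (σ _) = LinearMap.trace ℂ _ (σ n)
  rw [show n = (⟨π x, hxL⟩ : L) from Subtype.ext hx.symm, ← h6]
  exact congrArg (fun z : L => LinearMap.trace ℂ _ (σ z)) (Subtype.ext (by simp))

/-- The inclusion of the relative subgroup. -/
def subgroupOfHom (L U : Subgroup G) : L.subgroupOf U →* L where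
  toFun z := ⟨((z : U) : G), Subgroup.mem_subgroupOf.mp z.2⟩
  map_one' := rfl
  map_mul' _ _ := rfl

/-- The restriction of the data to a subgroup containing `L`. -/
theorem TripleData.restrict (h : TripleData π q L Ls σ R l) (U : Subgroup G) :
    TripleData (π.subgroupComap U) (q.subgroupMap (U.comap π)) (L.subgroupOf U)
      (Ls.subgroupOf ((U.comap π).map q))
      (σ.comp (subgroupOfHom L U)) (R.comp (U.comap π).subtype)
      (l.comp (subgroupOfHom Ls ((U.comap π).map q))) := by
  refine ⟨fun u => ?_, MonoidHom.subgroupMap_surjective q _, ?_, ?_, fun x hx hx' => ?_⟩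
  · obtain ⟨x, hx⟩ := h.hπ u
    exact ⟨⟨x, by rw [Subgroup.mem_comap, hx]; exact u.2⟩, Subtype.ext hx⟩
  · ext x
    exact (h.mem_iff (x : E)).symm
  · intro z hz
    exact Subgroup.mem_center_iff.mpr fun g =>
      Subtype.ext (Subgroup.mem_center_iff.mp (h.hcenter hz) g)
  · exact h.hR x hx hx'

/-- The squared norm of the multiplier on a coset. -/
theorem TripleData.sum_coset (h : TripleData π q L Ls σ R l) [hσ : σ.IsIrreducible]
    [Fintype (L.comap π)] (x : E) :
    ∑ k : L.comap π, R.character ((k : E) * x) * conj (R.character ((k : E) * x)) =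
      (Nat.card (L.comap π) : ℂ) := by
  classical
  haveI := Fintype.ofFinite L
  let π' : L.comap π →* L := π.subgroupComap L
  have hπ' : Function.Surjective π' := fun n => by
    obtain ⟨y, hy⟩ := h.hπ n
    exact ⟨⟨y, by rw [Subgroup.mem_comap, hy]; exact n.2⟩, Subtype.ext hy⟩
  have hterm : ∀ k : L.comap π, R.character ((k : E) * x) * conj (R.character ((k : E) * x)) =
      LinearMap.trace ℂ _ (R x * σ (π' k)) * LinearMap.trace ℂ _ (σ (π' k)⁻¹ * R x⁻¹) := by
    intro k
    rw [← (isCharacter_character R).apply_inv]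
    show LinearMap.trace ℂ _ (R ((k : E) * x)) * LinearMap.trace ℂ _ (R ((k : E) * x)⁻¹) = _
    have hk : π (k : E) ∈ L := k.2
    have hk' : π ((k : E)⁻¹) ∈ L := by rw [map_inv]; exact inv_mem hk
    rw [mul_inv_rev, map_mul R, map_mul R, h.hR _ hk ((h.mem_iff _).mp hk),
      h.hR _ hk' ((h.mem_iff _).mp hk'), smul_mul_assoc, mul_smul_comm, map_smul, map_smul,
      smul_eq_mul, smul_eq_mul, LinearMap.trace_mul_comm ℂ (σ _) (R x),
      LinearMap.trace_mul_comm ℂ (R x⁻¹)]
    have hl : (⟨q (k : E)⁻¹, (h.mem_iff _).mp hk'⟩ : Ls) = (⟨q k, (h.mem_iff _).mp hk⟩ : Ls)⁻¹ :=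
      Subtype.ext (map_inv q _)
    rw [hl, map_inv, inv_inv, show (⟨π (k : E)⁻¹, hk'⟩ : L) = (π' k)⁻¹ from Subtype.ext (map_inv π _),
      show (⟨π (k : E), hk⟩ : L) = π' k from rfl, mul_mul_mul_comm, ← Units.val_mul, inv_mul_cancel,
      Units.val_one, one_mul]
  rw [Finset.sum_congr rfl fun k _ => hterm k, sum_comp_surjective π' hπ'
    (fun n => LinearMap.trace ℂ _ (R x * σ n) * LinearMap.trace ℂ _ (σ n⁻¹ * R x⁻¹)),
    sum_trace_mul_trace_inv σ _ _ (by rw [← map_mul, mul_inv_cancel, map_one])]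
  rw [← Nat.cast_mul, Nat.cast_inj]
  have h1 := Subgroup.card_eq_card_quotient_mul_card_subgroup π'.ker
  rw [Nat.card_congr (QuotientGroup.quotientKerEquivOfSurjective π' hπ').toEquiv] at h1
  rw [h1, mul_comm]

/-- The two counts agree. -/
theorem TripleData.cnt_eq (h : TripleData π q L Ls σ R l) [hσ : σ.IsIrreducible] {p : ℕ}
    (hp : p.Prime) (hm : ¬ p ∣ m) :
    cnt p L σ.character = cnt p Ls (fun z => (l z : ℂ)) := by
  classical
  haveI := Fintype.ofFinite E
  haveI := Fintype.ofFinite G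
  haveI := Fintype.ofFinite Q
  haveI := Fintype.ofFinite L
  haveI := Fintype.ofFinite Ls
  haveI := Fintype.ofFinite (L.comap π)
  haveI : Ls.Normal := ⟨fun z hz g => by
    rw [Subgroup.mem_center_iff.mp (h.hcenter hz) g, mul_inv_cancel_right]; exact hz⟩
  have hν : IsIrrCharacter L σ.character := ⟨m, σ, hσ, rfl⟩
  have hl : IsIrrCharacter Ls (fun z => (l z : ℂ)) := isIrrCharacter_linear l
  let Src := {Φ : IrrCharacter Q // Over Ls (fun z => (l z : ℂ)) (Φ : Q → ℂ)}
  have hprod : ∀ Φ : Src, ∃ χ : IrrCharacter G,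
      ∀ x, (χ : G → ℂ) (π x) = R.character x * (Φ.1 : Q → ℂ) (q x) := by
    intro Φ
    let F : E → ℂ := fun x => R.character x * (Φ.1 : Q → ℂ) (q x)
    have hF : IsIrrCharacter E F := by
      refine isIrrCharacter_of_norm_one
        ((isCharacter_character R).mul (Φ.1.2.isCharacter.comp q)) ?_
      have h1 : classInner (fun x => (Φ.1 : Q → ℂ) (q x)) (fun x => (Φ.1 : Q → ℂ) (q x)) = 1 := by
        rw [classInner_comp_surjective q h.hq, classInner_irr_self Φ.1.2]
      rw [← h1]
      simp only [classInner, F, map_mul]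
      congr 1
      have hc : (Nat.card (L.comap π) : ℂ) ≠ 0 := card_cast_ne_zero
      refine mul_left_cancel₀ hc ?_
      have hsplit : ∀ f : E → ℂ, (Nat.card (L.comap π) : ℂ) * ∑ x, f x =
          ∑ x : E, ∑ k : L.comap π, f ((k : E) * x) := by
        intro f
        conv_rhs => rw [Finset.sum_comm]
        rw [Finset.sum_congr rfl (f := fun k : L.comap π => ∑ x, f ((k : E) * x))
          (g := fun _ => ∑ x, f x) fun k _ =>
          Fintype.sum_equiv (Equiv.mulLeft (k : E)) (fun x => f (k * x)) f fun _ => rfl,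
          Finset.sum_const, Finset.card_univ, nsmul_eq_mul, Nat.card_eq_fintype_card]
      rw [hsplit, Finset.mul_sum]
      refine Finset.sum_congr rfl fun x _ => ?_
      have hΦ : ∀ k : L.comap π, (Φ.1 : Q → ℂ) (q ((k : E) * x)) *
          conj ((Φ.1 : Q → ℂ) (q ((k : E) * x))) =
          (Φ.1 : Q → ℂ) (q x) * conj ((Φ.1 : Q → ℂ) (q x)) := by
        intro k
        have hk : q (k : E) ∈ Ls := (h.mem_iff _).mp k.2
        rw [map_mul, ← Subgroup.mem_center_iff.mp (h.hcenter hk) (q x),
          apply_mul_central h.hcenter l Φ.1.2 Φ.2 (q x) ⟨_, hk⟩, map_mul,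
          conj_units_eq l, mul_mul_mul_comm, ← Units.val_mul, ← map_mul, mul_inv_cancel, map_one,
          Units.val_one, one_mul]
      rw [Finset.sum_congr rfl (g := fun k : L.comap π =>
        R.character ((k : E) * x) * conj (R.character ((k : E) * x)) *
          ((Φ.1 : Q → ℂ) (q x) * conj ((Φ.1 : Q → ℂ) (q x)))) fun k _ => by
        rw [← hΦ k]; ring, ← Finset.sum_mul, h.sum_coset]
    obtain ⟨χ, hχ, hχF⟩ := exists_deflate_irr π.ker hF fun z hz => by
      have hz' : π z ∈ L := by rw [MonoidHom.mem_ker.mp hz]; exact one_mem L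
      have h1 := apply_mul_central h.hcenter l Φ.1.2 Φ.2 1 ⟨q z, (h.mem_iff z).mp hz'⟩
      rw [one_mul] at h1
      show R.character z * _ = R.character 1 * (Φ.1 : Q → ℂ) (q 1)
      have h2 : R.character z = LinearMap.trace ℂ _ (R z) := rfl
      rw [h2, h.hR z hz' ((h.mem_iff z).mp hz'), map_smul, smul_eq_mul, h1, map_one q,
        show (⟨π z, hz'⟩ : L) = 1 from Subtype.ext (MonoidHom.mem_ker.mp hz), map_one σ,
        LinearMap.trace_one, Representation.char_one, mul_mul_mul_comm, ← Units.val_mul,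
        inv_mul_cancel, Units.val_one, one_mul]
    let e := QuotientGroup.quotientKerEquivOfSurjective π h.hπ
    refine ⟨⟨fun g => χ (e.symm g), isIrrCharacter_comp_equiv e.symm hχ⟩, fun x => ?_⟩
    show χ (e.symm (π x)) = F x
    rw [show π x = e (x : E ⧸ π.ker) from rfl, e.symm_apply_apply]
    exact hχF x
  choose f hf using hprod
  have hdeg : ∀ Φ : Src, (f Φ : G → ℂ) 1 = (m : ℂ) * (Φ.1 : Q → ℂ) 1 := by
    intro Φ
    have := hf Φ 1
    rw [map_one, map_one, Representation.char_one, Module.finrank_fin_fun] at this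
    exact this
  have hover : ∀ Φ : Src, Over L σ.character (f Φ : G → ℂ) := by
    intro Φ
    have hres : (fun n : L => (f Φ : G → ℂ) n) = (Φ.1 : Q → ℂ) 1 • σ.character := by
      funext n
      obtain ⟨x, hx⟩ := h.hπ n
      have hxL : π x ∈ L := hx ▸ n.2
      have h1 := apply_mul_central h.hcenter l Φ.1.2 Φ.2 1 ⟨q x, (h.mem_iff x).mp hxL⟩
      rw [one_mul] at h1
      have h2 := hf Φ x
      rw [hx] at h2
      have h3 : R.character x = LinearMap.trace ℂ _ (R x) := rfl
      rw [h2, h3, h.hR x hxL ((h.mem_iff x).mp hxL), map_smul, smul_eq_mul, h1, Pi.smul_apply,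
        smul_eq_mul, mul_mul_mul_comm, ← mul_assoc, ← Units.val_mul, inv_mul_cancel, Units.val_one,
        one_mul, mul_comm]
      congr 1
      exact congrArg (fun z : L => σ.character z) (Subtype.ext hx)
    rw [over_iff, hres, classInner_smul_left, classInner_irr_self hν, mul_one]
    exact Φ.1.2.apply_one_ne_zero
  have hinj : Function.Injective f := by
    intro Φ Φ' hE
    by_contra hne
    have hz : classInner (fun x => R.character x * (Φ.1 : Q → ℂ) (q x))
        (fun x => R.character x * (Φ'.1 : Q → ℂ) (q x)) = 0 := by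
      have h1 : classInner (fun x => (Φ.1 : Q → ℂ) (q x)) (fun x => (Φ'.1 : Q → ℂ) (q x)) = 0 := by
        rw [classInner_comp_surjective q h.hq,
          classInner_irr_ne Φ.1.2 Φ'.1.2 fun e => hne (Subtype.ext (Subtype.ext e))]
      rw [← h1]
      simp only [classInner, map_mul]
      congr 1
      have hc : (Nat.card (L.comap π) : ℂ) ≠ 0 := card_cast_ne_zero
      refine mul_left_cancel₀ hc ?_
      have hsplit : ∀ f : E → ℂ, (Nat.card (L.comap π) : ℂ) * ∑ x, f x =
          ∑ x : E, ∑ k : L.comap π, f ((k : E) * x) := by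
        intro f
        conv_rhs => rw [Finset.sum_comm]
        rw [Finset.sum_congr rfl (f := fun k : L.comap π => ∑ x, f ((k : E) * x))
          (g := fun _ => ∑ x, f x) fun k _ =>
          Fintype.sum_equiv (Equiv.mulLeft (k : E)) (fun x => f (k * x)) f fun _ => rfl,
          Finset.sum_const, Finset.card_univ, nsmul_eq_mul, Nat.card_eq_fintype_card]
      rw [hsplit, Finset.mul_sum]
      refine Finset.sum_congr rfl fun x _ => ?_
      have hΦ : ∀ k : L.comap π, (Φ.1 : Q → ℂ) (q ((k : E) * x)) *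
          conj ((Φ'.1 : Q → ℂ) (q ((k : E) * x))) =
          (Φ.1 : Q → ℂ) (q x) * conj ((Φ'.1 : Q → ℂ) (q x)) := by
        intro k
        have hk : q (k : E) ∈ Ls := (h.mem_iff _).mp k.2
        rw [map_mul, ← Subgroup.mem_center_iff.mp (h.hcenter hk) (q x),
          apply_mul_central h.hcenter l Φ.1.2 Φ.2 (q x) ⟨_, hk⟩,
          apply_mul_central h.hcenter l Φ'.1.2 Φ'.2 (q x) ⟨_, hk⟩, map_mul,
          conj_units_eq l, mul_mul_mul_comm, ← Units.val_mul, ← map_mul, mul_inv_cancel, map_one,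
          Units.val_one, one_mul]
      rw [Finset.sum_congr rfl (g := fun k : L.comap π =>
        R.character ((k : E) * x) * conj (R.character ((k : E) * x)) *
          ((Φ.1 : Q → ℂ) (q x) * conj ((Φ'.1 : Q → ℂ) (q x)))) fun k _ => by
        rw [← hΦ k]; ring, ← Finset.sum_mul, h.sum_coset]
    have hs : classInner (fun x => R.character x * (Φ.1 : Q → ℂ) (q x))
        (fun x => R.character x * (Φ'.1 : Q → ℂ) (q x)) = 1 := by
      rw [show (fun x => R.character x * (Φ.1 : Q → ℂ) (q x)) = fun x => (f Φ : G → ℂ) (π x) from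
        funext fun x => (hf Φ x).symm,
        show (fun x => R.character x * (Φ'.1 : Q → ℂ) (q x)) = fun x => (f Φ' : G → ℂ) (π x) from
        funext fun x => (hf Φ' x).symm, classInner_comp_surjective π h.hπ, hE,
        classInner_irr_self (f Φ').2]
    exact zero_ne_one (hz.symm.trans hs)
  have hsurj : ∀ χ : IrrCharacter G, Over L σ.character (χ : G → ℂ) → ∃ Φ, f Φ = χ := by
    intro χ hχ
    by_contra hno
    push Not at hno
    have hG := sum_sq_over L hν h.invariant
    have hQ := sum_sq_over Ls hl (fun g => funext fun z => by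
      rw [conjTwist_apply]
      exact congrArg (fun y : Ls => (l y : ℂ)) (Subtype.ext (by
        show g * z * g⁻¹ = (z : Q)
        rw [Subgroup.mem_center_iff.mp (h.hcenter z.2) g, mul_inv_cancel_right])))
    have hidx : Ls.index = L.index := by
      rw [← Subgroup.index_comap_of_surjective _ h.hq, h.hcomap,
        Subgroup.index_comap_of_surjective _ h.hπ]
    rw [map_one, Units.val_one, one_pow, mul_one, hidx] at hQ
    rw [Representation.char_one, Module.finrank_fin_fun, ← hQ, mul_comm, Finset.mul_sum] at hG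
    have hA : ∑ Φ : Src, (f Φ : G → ℂ) 1 ^ 2 =
        ∑ x ∈ Finset.univ.filter (fun x : IrrCharacter G => Over L σ.character (x : G → ℂ)),
          (x : G → ℂ) 1 ^ 2 := by
      rw [hG, Finset.sum_subtype _
        (p := fun Φ : IrrCharacter Q => Over Ls (fun z => (l z : ℂ)) (Φ : Q → ℂ)) (by simp)]
      exact Finset.sum_congr rfl fun Φ _ => by rw [hdeg]; ring
    set T := Finset.univ.filter (fun x : IrrCharacter G => Over L σ.character (x : G → ℂ)) with hT
    have hsub : Finset.univ.image f ⊆ T.erase χ := by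
      intro x hx
      obtain ⟨Φ, -, rfl⟩ := Finset.mem_image.mp hx
      exact Finset.mem_erase.mpr ⟨hno Φ, Finset.mem_filter.mpr ⟨Finset.mem_univ _, hover Φ⟩⟩
    have hχT : χ ∈ T := Finset.mem_filter.mpr ⟨Finset.mem_univ _, hχ⟩
    rw [← Finset.sum_image (g := f) (f := fun x : IrrCharacter G => (x : G → ℂ) 1 ^ 2)
      hinj.injOn, ← Finset.add_sum_erase T _ hχT] at hA
    choose d hd0 hd using fun x : IrrCharacter G => x.2.exists_degree
    simp only [hd] at hA
    have hA' : ∑ x ∈ Finset.univ.image f, d x ^ 2 = d χ ^ 2 + ∑ x ∈ T.erase χ, d x ^ 2 := by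
      exact_mod_cast hA
    have h1 := Finset.sum_le_sum_of_subset (f := fun x => d x ^ 2) hsub
    have h2 : 0 < d χ ^ 2 := pow_pos (hd0 χ) 2
    omega
  -- the bijection on degrees prime to `p`
  have hpdeg : ∀ Φ : Src, p ∣ charDegree (f Φ : G → ℂ) ↔ p ∣ charDegree (Φ.1 : Q → ℂ) := by
    intro Φ
    have h1 : charDegree (f Φ : G → ℂ) = m * charDegree (Φ.1 : Q → ℂ) := by
      refine charDegree_of_eq ?_
      rw [hdeg, Nat.cast_mul, charDegree_cast Φ.1.2]
    rw [h1]
    exact ⟨fun hd => (hp.dvd_mul.mp hd).resolve_left hm, fun hd => hd.mul_left m⟩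
  symm
  refine Nat.card_congr (Equiv.ofBijective
    (fun Φ => ⟨f ⟨Φ.1, Φ.2.2⟩, fun hd => Φ.2.1 ((hpdeg ⟨Φ.1, Φ.2.2⟩).mp hd), hover _⟩) ⟨?_, ?_⟩)
  · intro Φ Φ' he
    exact Subtype.ext (congrArg (fun z : Src => z.1) (hinj (congrArg Subtype.val he)))
  · rintro ⟨χ, hχ1, hχ2⟩
    obtain ⟨Φ, rfl⟩ := hsurj χ hχ2
    exact ⟨⟨Φ.1, fun hd => hχ1 ((hpdeg Φ).mpr hd), Φ.2⟩, rfl⟩

end Cfsg.Lib.Char.RelMcKay
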