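import Cfsg.Agent.Lib.Char.RelMcKay.Count
import Cfsg.Agent.Lib.Char.RelMcKay.TripleMap

/-!
# The count over a central linear character as a sum over a supplement
-/

set_option autoImplicit false
set_option linter.unusedSectionVars false
set_option linter.style.haveILetI false

namespace Cfsg.Lib.Char.RelMcKay

open Cfsg
open Cfsg.Lib.Char
open scoped ComplexConjugate

universe u

variable {G : Type u} [Group G] [Finite G]

theorem over_central_iff {L : Subgroup G} (hL : L ≤ Subgroup.center G) (l : L →* ℂˣ) {χ : G → ℂ}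
    (hχ : IsIrrCharacter G χ) :
    Over L (fun z => (l z : ℂ)) χ ↔ ∀ z : L, χ z = (l z : ℂ) * χ 1 := by
  classical
  haveI := Fintype.ofFinite L
  refine ⟨fun h z => by simpa using apply_mul_central hL l hχ h 1 z, fun h => ?_⟩
  rw [over_iff, show (fun z : L => χ z) = χ 1 • fun z : L => (l z : ℂ) from funext fun z => by
    rw [h z, Pi.smul_apply, smul_eq_mul, mul_comm], classInner_smul_left,
    classInner_irr_self (isIrrCharacter_linear l), mul_one]
  exact hχ.apply_one_ne_zero

/-- A constituent on a normal subgroup lies over the same central character. -/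
theorem over_central_constituent {L M : Subgroup G} (hL : L ≤ Subgroup.center G) (hLM : L ≤ M)
    (l : L →* ℂˣ) {χ : G → ℂ} (hχ : IsIrrCharacter G χ) {θ : M → ℂ} (hθ : IsIrrCharacter M θ)
    [Fintype M] (hc : classInner (fun n : M => χ n) θ ≠ 0) :
    Over L (fun z => (l z : ℂ)) χ ↔ ∀ z : L, θ ⟨z, hLM z.2⟩ = (l z : ℂ) * θ 1 := by
  classical
  haveI := Fintype.ofFinite L
  haveI := Fintype.ofFinite (L.subgroupOf M)
  have hres : IsCharacter M (fun n : M => χ n) := hχ.isCharacter.comp M.subtype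
  let e := Subgroup.subgroupOfEquivOfLe hLM
  have hθL : IsCharacter (L.subgroupOf M) (fun z : L.subgroupOf M => θ z) :=
    hθ.isCharacter.comp (L.subgroupOf M).subtype
  constructor
  · intro h
    have hall : ∀ η : IrrCharacter (L.subgroupOf M), (η : L.subgroupOf M → ℂ) ≠ (fun z => (l (e z) : ℂ)) →
        classInner (fun z : L.subgroupOf M => θ z) (η : L.subgroupOf M → ℂ) = 0 := by
      intro η hη
      have h1 := classInner_res_le_of_constituent (L.subgroupOf M) hres hθ hc η.2.isCharacter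
      have h2 : (fun z : L.subgroupOf M => χ ((z : M) : G)) = χ 1 • fun z => (l (e z) : ℂ) := by
        funext z
        rw [Pi.smul_apply, smul_eq_mul, mul_comm]
        exact (over_central_iff hL l hχ).mp h (e z)
      have hl : IsIrrCharacter (L.subgroupOf M) (fun z => (l (e z) : ℂ)) :=
        isIrrCharacter_linear (l.comp e.toMonoidHom)
      rw [h2, classInner_smul_left, classInner_irr_ne hl η.2 (Ne.symm hη), mul_zero,
        Complex.zero_re] at h1
      exact (eq_zero_iff_re_classInner hθL η.2.isCharacter).mpr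
        (le_antisymm h1 (classInner_re_nonneg hθL η.2.isCharacter))
    have hl : IsIrrCharacter (L.subgroupOf M) (fun z => (l (e z) : ℂ)) :=
      isIrrCharacter_linear (l.comp e.toMonoidHom)
    have h3 : (fun z : L.subgroupOf M => θ z) =
        classInner (fun z : L.subgroupOf M => θ z) (fun z => (l (e z) : ℂ)) • fun z => (l (e z) : ℂ) := by
      conv_lhs => rw [eq_sum_classInner hθL.isClassFunction]
      rw [Finset.sum_eq_single (⟨_, hl⟩ : IrrCharacter (L.subgroupOf M))]
      · intro η _ hne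
        rw [hall η fun h => hne (Subtype.ext h), zero_smul]
      · simp
    intro z
    have h4 := congrFun h3 1
    have h5 := congrFun h3 ⟨⟨z, hLM z.2⟩, z.2⟩
    simp only [Pi.smul_apply, smul_eq_mul, OneMemClass.coe_one, map_one, Units.val_one, mul_one] at h4 h5
    rw [h5, h4, mul_comm]
    rfl
  · intro h
    rw [over_iff]
    intro h0
    have h1 := classInner_res_le_of_constituent (L.subgroupOf M) hres hθ hc
      (isIrrCharacter_linear (l.comp e.toMonoidHom)).isCharacter
    have h2 : (fun z : L.subgroupOf M => θ z) = θ 1 • fun z => (l (e z) : ℂ) := by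
      funext z
      rw [Pi.smul_apply, smul_eq_mul, mul_comm]
      exact h (e z)
    have h3 : classInner (fun z : L.subgroupOf M => χ ((z : M) : G))
        (fun z => (l (e z) : ℂ)) = 0 := by
      have := classInner_comp_equiv e (fun z : L => χ z) (fun z : L => (l z : ℂ))
      rw [h0] at this
      exact this
    obtain ⟨d, hd, hθ1⟩ := hθ.exists_degree
    have h4 : (classInner (fun z : L.subgroupOf M => θ z) (fun z => (l (e z) : ℂ))).re ≤
        (classInner (fun z : L.subgroupOf M => χ ((z : M) : G)) (fun z => (l (e z) : ℂ))).re := h1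
    rw [h3, h2, classInner_smul_left,
      classInner_irr_self (G := L.subgroupOf M) (χ := fun z => (l (e z) : ℂ))
        (isIrrCharacter_linear (l.comp e.toMonoidHom)), mul_one, hθ1, Complex.natCast_re,
      Complex.zero_re] at h4
    exact absurd (Nat.cast_le.mp (h4.trans (Nat.cast_zero (R := ℝ)).ge)) (by omega)

/-- The characters of `M` of degree prime to `p` over `l`. -/
def SideSet (p : ℕ) {L M : Subgroup G} (hLM : L ≤ M) (l : L →* ℂˣ) : Set (IrrCharacter M) :=
  {ψ | ¬ p ∣ charDegree (ψ : M → ℂ) ∧ ∀ z : L, (ψ : M → ℂ) ⟨z, hLM z.2⟩ = (l z : ℂ) * (ψ : M → ℂ) 1}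

open Classical in
/-- The summand attached to two elements. -/
noncomputable def sideSum [Fintype G] {M : Subgroup G} (Θ : Set (IrrCharacter M)) [Fintype M]
    (a b : G) : ℂ :=
  ∑ θ ∈ Finset.univ.filter (fun θ : IrrCharacter M => θ ∈ Θ), omega (θ : M → ℂ) a b

/-- The count as a sum over pairs of elements of a supplement. -/
theorem cnt_eq_sum [Fintype G] {p : ℕ} (hp : p.Prime) {L M A : Subgroup G} [M.Normal] [Fintype M]
    [Fintype A] (hL : L ≤ Subgroup.center G) (hLM : L ≤ M) (l : L →* ℂˣ)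
    (hidx : ¬ p ∣ M.index) (hMA : M ⊔ A = ⊤) :
    (cnt p L (fun z => (l z : ℂ)) : ℂ) * Nat.card A * Nat.card ↥(A ⊓ M) =
      ∑ a : A, ∑ b : A, sideSum (SideSet p hLM l) (a : G) (b : G) := by
  classical
  set Θ := SideSet p hLM l
  have hstable : ∀ θ ∈ Θ, ∀ g : G, ∀ h : IsIrrCharacter M (conjTwist M (θ : M → ℂ) g),
      (⟨_, h⟩ : IrrCharacter M) ∈ Θ := by
    intro θ hθ g h
    refine ⟨?_, fun z => ?_⟩
    · simpa [charDegree, conjTwist_apply_one] using hθ.1
    · show conjTwist M (θ : M → ℂ) g ⟨z, hLM z.2⟩ = _ * conjTwist M (θ : M → ℂ) g 1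
      rw [conjTwist_apply, conjTwist_apply_one]
      refine (congrArg (θ : M → ℂ) (Subtype.ext ?_)).trans (hθ.2 z)
      show g * z * g⁻¹ = (z : G)
      rw [Subgroup.mem_center_iff.mp (hL z.2) g, mul_inv_cancel_right]
  have hiff : ∀ χ : IrrCharacter G, (¬ p ∣ charDegree (χ : G → ℂ) ∧
      Over L (fun z => (l z : ℂ)) (χ : G → ℂ)) ↔ IsAbove Θ χ := by
    intro χ
    have hdvd : ∀ θ : IrrCharacter M, classInner (fun n : M => (χ : G → ℂ) n) (θ : M → ℂ) ≠ 0 →
        (p ∣ charDegree (χ : G → ℂ) ↔ p ∣ charDegree (θ : M → ℂ)) := by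
      intro θ hc
      have hd1 : (χ : G → ℂ) 1 = (charDegree (χ : G → ℂ) : ℂ) := (charDegree_cast χ.2).symm
      have hd2 : (θ : M → ℂ) 1 = (charDegree (θ : M → ℂ) : ℂ) := (charDegree_cast θ.2).symm
      obtain ⟨k, hk⟩ := (χ.2.isCharacter.comp M.subtype).exists_nat_classInner θ.2.isCharacter
      have hk' : classInner (fun n : M => (χ : G → ℂ) n) (θ : M → ℂ) = (k : ℂ) := hk
      have h1 := clifford_degree M χ.2 θ.2 hc
      rw [hk', hd1, hd2] at h1
      have h2 : charDegree (χ : G → ℂ) = k * (inertia M (θ : M → ℂ)).index * charDegree (θ : M → ℂ) := by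
        exact_mod_cast h1
      have h3 := degree_ratio_dvd_index M χ.2 θ.2 hc hd1 hd2
      refine ⟨fun h => ?_, fun h => h2 ▸ h.mul_left _⟩
      rw [h2] at h
      refine (hp.dvd_mul.mp h).resolve_left fun h4 => hidx ?_
      have h5 : (k * (inertia M (θ : M → ℂ)).index * charDegree (θ : M → ℂ)) / charDegree (θ : M → ℂ) ∣
          M.index := h2 ▸ h3.2
      rw [Nat.mul_div_cancel _ (by
        obtain ⟨d, hd, hd'⟩ := θ.2.exists_degree
        rw [charDegree_of_eq hd']; exact hd)] at h5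
      exact h4.trans h5
    constructor
    · rintro ⟨h1, h2⟩
      obtain ⟨θ, hθ⟩ := exists_irr_constituent_res M χ.2
      exact ⟨θ, ⟨fun h => h1 ((hdvd θ hθ).mpr h),
        (over_central_constituent hL hLM l χ.2 θ.2 hθ).mp h2⟩, hθ⟩
    · rintro ⟨θ, ⟨h1, h2⟩, hθ⟩
      exact ⟨fun h => h1 ((hdvd θ hθ).mp h), (over_central_constituent hL hLM l χ.2 θ.2 hθ).mpr h2⟩
  have hcnt : cnt p L (fun z => (l z : ℂ)) = Nat.card {χ : IrrCharacter G // IsAbove Θ χ} :=
    Nat.card_congr (Equiv.subtypeEquivRight hiff)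
  have hmain : (Nat.card {χ : IrrCharacter G // IsAbove Θ χ} : ℂ) * Nat.card G * Nat.card M =
      ∑ a : G, ∑ b : G, sideSum Θ a b := card_isAbove Θ hstable
  -- from pairs of `G` to pairs of `A`
  set n : ℕ := Nat.card ↥(A ⊓ M) with hn
  have hfib : ∀ f : G → ℂ, (∀ m ∈ M, ∀ g, f (m * g) = f g) →
      (n : ℂ) * ∑ g, f g = (Nat.card M : ℂ) * ∑ a : A, f a := by
    intro f hf
    have hsurj : ∀ g : G, ∃ m : M, ∃ a : A, (m : G) * a = g := fun g => by
      obtain ⟨m, hm, a, ha, h⟩ := Subgroup.mem_sup_of_normal_left.mp (hMA ▸ Subgroup.mem_top g)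
      exact ⟨⟨m, hm⟩, ⟨a, ha⟩, h⟩
    have hrhs : (Nat.card M : ℂ) * ∑ a : A, f a = ∑ x : M × A, f ((x.1 : G) * x.2) := by
      rw [Fintype.sum_prod_type]
      show _ = ∑ m : M, ∑ a : A, f ((m : G) * a)
      rw [Finset.sum_congr rfl (f := fun m : M => ∑ a : A, f ((m : G) * a))
        (g := fun _ => ∑ a : A, f a) fun m _ => Finset.sum_congr rfl fun a _ => hf (m : G) m.2 a,
        Finset.sum_const, Finset.card_univ, nsmul_eq_mul, Nat.card_eq_fintype_card]
    rw [hrhs, ← Finset.sum_fiberwise Finset.univ (fun x : M × A => (x.1 : G) * x.2), Finset.mul_sum]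
    refine Finset.sum_congr rfl fun g _ => ?_
    rw [Finset.sum_congr rfl (g := fun _ => f g) fun x hx => by rw [(Finset.mem_filter.mp hx).2],
      Finset.sum_const, nsmul_eq_mul, ← Fintype.card_subtype, ← Nat.card_eq_fintype_card]
    congr 2
    obtain ⟨m₀, a₀, h₀⟩ := hsurj g
    refine Nat.card_congr
      { toFun := fun c => ⟨(m₀ * ⟨c, c.2.2⟩, (⟨c, c.2.1⟩ : A)⁻¹ * a₀), by
          simp only [Subgroup.coe_mul, Subgroup.coe_inv, ← h₀]; group⟩
        invFun := fun x => ⟨((m₀⁻¹ * x.1.1 : M) : G), ?_, (m₀⁻¹ * x.1.1).2⟩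
        left_inv := fun c => Subtype.ext (by simp)
        right_inv := fun x => Subtype.ext (Prod.ext (Subtype.ext (by simp)) (Subtype.ext ?_)) }
    · have hx : (x.1.1 : G) * x.1.2 = m₀ * a₀ := x.2.trans h₀.symm
      have h6 : ((m₀⁻¹ * x.1.1 : M) : G) = (a₀ : G) * (x.1.2 : G)⁻¹ := by
        rw [Subgroup.coe_mul, Subgroup.coe_inv, eq_mul_inv_iff_mul_eq, mul_assoc, hx,
          inv_mul_cancel_left]
      rw [h6]
      exact A.mul_mem a₀.2 (A.inv_mem x.1.2.2)
    · have hx : (x.1.1 : G) * x.1.2 = m₀ * a₀ := x.2.trans h₀.symm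
      simp only [Subgroup.coe_mul, Subgroup.coe_inv]
      rw [mul_inv_rev, inv_inv, mul_assoc, ← hx]
      group
  have hF1 : ∀ b : G, ∀ m ∈ M, ∀ g, sideSum Θ (m * g) b = sideSum Θ g b := fun b m hm g =>
    Finset.sum_congr rfl fun θ _ => omega_left_mul hm
  have hF2 : ∀ a : G, ∀ m ∈ M, ∀ g, sideSum Θ a (m * g) = sideSum Θ a g := fun a m hm g =>
    Finset.sum_congr rfl fun θ _ => omega_right_mul hm
  have hred : (n : ℂ) * n * ∑ a : G, ∑ b : G, sideSum Θ a b =
      (Nat.card M : ℂ) * Nat.card M * ∑ a : A, ∑ b : A, sideSum Θ (a : G) (b : G) := by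
    calc (n : ℂ) * n * ∑ a : G, ∑ b : G, sideSum Θ a b
        = (n : ℂ) * ∑ a : G, (n : ℂ) * ∑ b : G, sideSum Θ a b := by
          rw [mul_assoc, Finset.mul_sum Finset.univ _ (n : ℂ)]
      _ = (n : ℂ) * ∑ a : G, (Nat.card M : ℂ) * ∑ b : A, sideSum Θ a (b : G) := by
          congr 1
          exact Finset.sum_congr rfl fun a _ => hfib _ (hF2 a)
      _ = (Nat.card M : ℂ) * ((n : ℂ) * ∑ a : G, ∑ b : A, sideSum Θ a (b : G)) := by
          rw [← Finset.mul_sum]; ring
      _ = _ := by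
          rw [hfib _ fun m hm g => Finset.sum_congr rfl fun b _ => hF1 _ m hm g]; ring
  have hcard : (Nat.card G : ℂ) * n = (Nat.card M : ℂ) * Nat.card A := by
    have h := hfib (fun _ => 1) fun _ _ _ => rfl
    simpa [Nat.card_eq_fintype_card, mul_comm] using h
  rw [hcnt]
  have hM0 : (Nat.card M : ℂ) ≠ 0 := Nat.cast_ne_zero.mpr Nat.card_pos.ne'
  refine mul_left_cancel₀ (mul_ne_zero hM0 hM0) ?_
  rw [← hred, ← hmain]
  linear_combination (-(Nat.card {χ : IrrCharacter G // IsAbove Θ χ} : ℂ) * Nat.card M * n) * hcard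

end Cfsg.Lib.Char.RelMcKay
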